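import Mathlib

/-!
Elements of alternating groups carried over from small degrees.
-/

set_option autoImplicit false
set_option linter.unusedSectionVars false
set_option linter.style.haveILetI false
set_option linter.unusedVariables false

namespace Cfsg.Agent.Small.AltDeg

open Equiv

/-- The alternating group of degree `r`. -/
abbrev A (r : ℕ) := ↥(alternatingGroup (Fin r))

/-- Elements moving points of `S` only. -/
def Supp {r : ℕ} (S : Finset (Fin r)) (g : A r) : Prop := ∀ x, x ∉ S → (g : Perm (Fin r)) x = x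

/-- The embedding of alternating groups given by an injection of the points. -/
noncomputable def emb {k r : ℕ} (ι : Fin k ↪ Fin r) : A k →* A r :=
  ((Perm.viaEmbeddingHom ι).comp (alternatingGroup (Fin k)).subtype).codRestrict _ fun x => by
    rw [Perm.mem_alternatingGroup]
    show Perm.sign (Perm.viaEmbedding (x : Perm (Fin k)) ι) = 1
    rw [Perm.viaEmbedding, Perm.sign_extendDomain]
    exact Perm.mem_alternatingGroup.1 x.2

variable {k l m r : ℕ}

/-- The points hit by an injection. -/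
def pts (ι : Fin k ↪ Fin r) : Finset (Fin r) := Finset.univ.map ι

theorem mem_pts {ι : Fin k ↪ Fin r} {x : Fin r} : x ∈ pts ι ↔ ∃ i, ι i = x := by simp [pts]

theorem card_pts (ι : Fin k ↪ Fin r) : (pts ι).card = k := by simp [pts]

theorem emb_apply (ι : Fin k ↪ Fin r) (x : A k) (i : Fin k) :
    (emb ι x : Perm (Fin r)) (ι i) = ι ((x : Perm (Fin k)) i) :=
  Perm.viaEmbedding_apply _ ι i

theorem emb_supp (ι : Fin k ↪ Fin r) (x : A k) : Supp (pts ι) (emb ι x) := fun y hy =>
  Perm.viaEmbedding_apply_of_notMem _ ι y fun ⟨i, hi⟩ => hy (mem_pts.2 ⟨i, hi⟩)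

theorem Supp.mono {S S' : Finset (Fin r)} (h : S ⊆ S') {g : A r} (hg : Supp S g) : Supp S' g :=
  fun x hx => hg x fun hx' => hx (h hx')

theorem Supp.mem {S : Finset (Fin r)} {g : A r} (hg : Supp S g) {x : Fin r} (hx : x ∈ S) :
    (g : Perm (Fin r)) x ∈ S := by
  by_contra hc
  have := hg _ hc
  rw [(g : Perm (Fin r)).injective this] at hc
  exact hc hx

theorem Supp.commute {S S' : Finset (Fin r)} (h : Disjoint S S') {g g' : A r} (hg : Supp S g)
    (hg' : Supp S' g') : Commute g g' := by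
  refine Subtype.ext (Equiv.ext fun x => ?_)
  show (g : Perm (Fin r)) ((g' : Perm (Fin r)) x) = (g' : Perm (Fin r)) ((g : Perm (Fin r)) x)
  by_cases hx : x ∈ S
  · rw [hg' x (Finset.disjoint_left.1 h hx), hg' _ (Finset.disjoint_left.1 h (hg.mem hx))]
  · rw [hg x hx]
    by_cases hx' : x ∈ S'
    · rw [hg _ (Finset.disjoint_right.1 h (hg'.mem hx'))]
    · rw [hg' x hx', hg x hx]

theorem ext_emb {ι : Fin k ↪ Fin r} {g g' : A r}
    (h : ∀ i, (g : Perm (Fin r)) (ι i) = (g' : Perm (Fin r)) (ι i))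
    (hg : Supp (pts ι) g) (hg' : Supp (pts ι) g') : g = g' := by
  refine Subtype.ext (Equiv.ext fun x => ?_)
  by_cases hx : x ∈ pts ι
  · obtain ⟨i, rfl⟩ := mem_pts.1 hx; exact h i
  · rw [hg x hx, hg' x hx]

theorem emb_trans (κ : Fin l ↪ Fin k) (ι : Fin k ↪ Fin r) (x : A l) :
    emb ι (emb κ x) = emb (κ.trans ι) x := by
  refine Subtype.ext (Equiv.ext fun y => ?_)
  by_cases hy : y ∈ pts ι
  · obtain ⟨i, rfl⟩ := mem_pts.1 hy
    rw [emb_apply]
    by_cases hi : i ∈ pts κ
    · obtain ⟨j, rfl⟩ := mem_pts.1 hi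
      rw [emb_apply]
      exact (emb_apply (κ.trans ι) x j).symm
    · rw [emb_supp κ x i hi, emb_supp (κ.trans ι) x _ fun h => hi ?_]
      obtain ⟨j, hj⟩ := mem_pts.1 h
      exact mem_pts.2 ⟨j, ι.injective hj⟩
  · rw [emb_supp ι _ y hy, emb_supp (κ.trans ι) x y fun h => hy ?_]
    obtain ⟨j, rfl⟩ := mem_pts.1 h
    exact mem_pts.2 ⟨κ j, rfl⟩

theorem emb_injective (ι : Fin k ↪ Fin r) : Function.Injective (emb ι) := fun x y h =>
  Subtype.ext (Perm.viaEmbeddingHom_injective ι (congrArg Subtype.val h))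

/-- Conjugation moves the points. -/
theorem conj_emb (g : A r) (ι κ : Fin k ↪ Fin r) (hg : ∀ i, (g : Perm (Fin r)) (ι i) = κ i) (x : A k) :
    g * emb ι x * g⁻¹ = emb κ x := by
  have e : ∀ i, ((g⁻¹ : A r) : Perm (Fin r)) (κ i) = ι i := fun i => by
    rw [Subgroup.coe_inv, Perm.inv_def, Equiv.symm_apply_eq, hg]
  refine ext_emb (ι := κ) (fun i => ?_) (fun y hy => ?_) (emb_supp κ x)
  · show (g : Perm (Fin r)) ((emb ι x : Perm (Fin r)) (((g⁻¹ : A r) : Perm (Fin r)) (κ i))) = _
    rw [e, emb_apply, hg, emb_apply]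
  · show (g : Perm (Fin r)) ((emb ι x : Perm (Fin r)) (((g⁻¹ : A r) : Perm (Fin r)) y)) = y
    rw [emb_supp ι x _ fun h => hy ?_, Subgroup.coe_inv, Perm.inv_def, Equiv.apply_symm_apply]
    obtain ⟨j, hj⟩ := mem_pts.1 h
    refine mem_pts.2 ⟨j, ?_⟩
    rw [← hg j, hj, Subgroup.coe_inv, Perm.inv_def, Equiv.apply_symm_apply]

/-- The alternating group is transitive on short tuples. -/
theorem exists_map (hkr : k + 2 ≤ r) (ι κ : Fin k ↪ Fin r) :
    ∃ g : A r, ∀ i, (g : Perm (Fin r)) (ι i) = κ i := by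
  haveI h1 := alternatingGroup.isMultiplyPretransitive (Fin r)
  haveI h2 : MulAction.IsMultiplyPretransitive (A r) (Fin r) k :=
    MulAction.isMultiplyPretransitive_of_le (n := Nat.card (Fin r) - 2) (by simp; omega) (by simp)
  obtain ⟨g, hg⟩ := MulAction.exists_smul_eq (A r) ι κ
  exact ⟨g, fun i => by rw [← hg]; rfl⟩

theorem exists_conj (hkr : k + 2 ≤ r) (ι κ : Fin k ↪ Fin r) :
    ∃ g : A r, (∀ i, (g : Perm (Fin r)) (ι i) = κ i) ∧ ∀ x, g * emb ι x * g⁻¹ = emb κ x := by
  obtain ⟨g, hg⟩ := exists_map hkr ι κ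
  exact ⟨g, hg, conj_emb g ι κ hg⟩

/-- An injection from finitely many points into a large enough set. -/
theorem exists_pts {S : Finset (Fin r)} (h : k ≤ S.card) : ∃ ι : Fin k ↪ Fin r, pts ι ⊆ S := by
  obtain ⟨T, hTS, hT⟩ := Finset.exists_subset_card_eq h
  refine ⟨(T.equivFinOfCardEq hT).symm.toEmbedding.trans (Function.Embedding.subtype _), fun x hx => ?_⟩
  obtain ⟨i, rfl⟩ := mem_pts.1 hx
  exact hTS ((T.equivFinOfCardEq hT).symm i).2

/-- An injection with a given image. -/
theorem exists_pts_eq {S : Finset (Fin r)} (h : S.card = k) : ∃ ι : Fin k ↪ Fin r, pts ι = S := by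
  obtain ⟨ι, hι⟩ := exists_pts h.ge
  exact ⟨ι, Finset.eq_of_subset_of_card_le hι (by rw [card_pts, h])⟩

/-- Three distinct points as an injection. -/
def three (a b c : Fin r) (hab : a ≠ b) (hbc : b ≠ c) (hac : a ≠ c) : Fin 3 ↪ Fin r :=
  ⟨![a, b, c], fun i j h => by fin_cases i <;> fin_cases j <;> simp_all [eq_comm]⟩

theorem pts_three {a b c : Fin r} (hab : a ≠ b) (hbc : b ≠ c) (hac : a ≠ c) :
    pts (three a b c hab hbc hac) = {a, b, c} := by
  ext x
  rw [mem_pts]
  constructor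
  · rintro ⟨i, rfl⟩
    have : (![a, b, c] : Fin 3 → Fin r) i ∈ ({a, b, c} : Finset (Fin r)) := by fin_cases i <;> simp
    exact this
  · intro hx
    simp only [Finset.mem_insert, Finset.mem_singleton] at hx
    rcases hx with h | h | h
    exacts [⟨0, h.symm⟩, ⟨1, h.symm⟩, ⟨2, h.symm⟩]

/-- The three-cycle on three points. -/
def a3 : A 3 := ⟨c[0, 1, 2], Perm.mem_alternatingGroup.2 (by decide)⟩

/-- The three-cycle through three given points. -/
noncomputable def cyc (a b c : Fin r) (hab : a ≠ b) (hbc : b ≠ c) (hac : a ≠ c) : A r :=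
  emb (three a b c hab hbc hac) a3

theorem cyc_apply {a b c : Fin r} (hab : a ≠ b) (hbc : b ≠ c) (hac : a ≠ c) :
    (cyc a b c hab hbc hac : Perm (Fin r)) a = b ∧ (cyc a b c hab hbc hac : Perm (Fin r)) b = c ∧
      (cyc a b c hab hbc hac : Perm (Fin r)) c = a :=
  ⟨(emb_apply (three a b c hab hbc hac) a3 0).trans rfl,
    (emb_apply (three a b c hab hbc hac) a3 1).trans rfl,
    (emb_apply (three a b c hab hbc hac) a3 2).trans rfl⟩

theorem cyc_supp {a b c : Fin r} (hab : a ≠ b) (hbc : b ≠ c) (hac : a ≠ c) :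
    Supp {a, b, c} (cyc a b c hab hbc hac) := pts_three hab hbc hac ▸ emb_supp _ _

/-- Conjugating a three-cycle. -/
theorem conj_cyc (g : A r) {a b c : Fin r} (hab : a ≠ b) (hbc : b ≠ c) (hac : a ≠ c) :
    g * cyc a b c hab hbc hac * g⁻¹ = cyc ((g : Perm (Fin r)) a) ((g : Perm (Fin r)) b) ((g : Perm (Fin r)) c)
      ((g : Perm (Fin r)).injective.ne hab) ((g : Perm (Fin r)).injective.ne hbc)
      ((g : Perm (Fin r)).injective.ne hac) :=
  conj_emb g _ _ (fun i => by fin_cases i <;> rfl) _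

/-- A subgroup containing the three-cycles on `S` contains everything supported on `S`. -/
theorem mem_of_supp {S : Finset (Fin r)} (H : Subgroup (A r))
    (h : ∀ ι : Fin 3 ↪ Fin r, pts ι ⊆ S → emb ι a3 ∈ H) {g : A r} (hg : Supp S g) : g ∈ H := by
  have hiff : ∀ x, x ∈ S ↔ (g : Perm (Fin r)) x ∈ S := fun x =>
    ⟨hg.mem, fun hx => by
      by_contra hc
      rw [hg x hc] at hx
      exact hc hx⟩
  let φ : alternatingGroup {x // x ∈ S} →* A r :=
    ((Perm.ofSubtype).comp (alternatingGroup {x // x ∈ S}).subtype).codRestrict _ fun x => by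
      rw [Perm.mem_alternatingGroup]
      show Perm.sign (Perm.ofSubtype (x : Perm {x // x ∈ S})) = 1
      rw [Perm.sign_ofSubtype]
      exact Perm.mem_alternatingGroup.1 x.2
  have hmem : (g : Perm (Fin r)).subtypePerm (fun x => (hiff x).symm) ∈ alternatingGroup {x // x ∈ S} := by
    rw [Perm.mem_alternatingGroup]
    convert (Perm.sign_subtypePerm (p := fun x => x ∈ S) (g : Perm (Fin r)) (fun x => (hiff x).symm) ?_).trans
      (Perm.mem_alternatingGroup.1 g.2)
    intro x hx
    by_contra hc; exact hx (hg x hc)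
  have hge : φ ⟨_, hmem⟩ = g := Subtype.ext (Perm.ofSubtype_subtypePerm (fun x => (hiff x).symm) fun x hx => by
    by_contra hc; exact hx (hg x hc))
  suffices hall : ∀ (x : Perm {x // x ∈ S}) (hx : x ∈ alternatingGroup {x // x ∈ S}), φ ⟨x, hx⟩ ∈ H by
    rw [← hge]; exact hall _ hmem
  intro x hx
  have hx' : x ∈ Subgroup.closure {σ : Perm {x // x ∈ S} | σ.IsThreeCycle} := by
    rwa [Equiv.Perm.closure_three_cycles_eq_alternating]
  refine Subgroup.closure_induction
    (p := fun y _ => ∀ hy : y ∈ alternatingGroup {x // x ∈ S}, φ ⟨y, hy⟩ ∈ H) ?_ ?_ ?_ ?_ hx' hx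
  · intro σ hσ hy
    obtain ⟨a, ha⟩ : ∃ a, a ∈ σ.support :=
      Finset.card_pos.1 (by rw [Perm.IsThreeCycle.card_support hσ]; norm_num)
    have hn := (Perm.IsThreeCycle.nodup_iff_mem_support hσ).2 ha
    simp only [List.nodup_cons, List.mem_cons, List.not_mem_nil, or_false, not_or, List.nodup_nil,
      and_true] at hn
    obtain ⟨⟨h1, h2⟩, h3, -⟩ := hn
    have h1' : (a : Fin r) ≠ ((σ a : {x // x ∈ S}) : Fin r) := fun e => h1 (Subtype.ext e)
    have h3' : ((σ a : {x // x ∈ S}) : Fin r) ≠ (σ (σ a) : {x // x ∈ S}) := fun e => h3 (Subtype.ext e)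
    have h2' : (a : Fin r) ≠ ((σ (σ a) : {x // x ∈ S}) : Fin r) := fun e => h2 (Subtype.ext e)
    have e : φ ⟨σ, hy⟩ = cyc (a : Fin r) (σ a : {x // x ∈ S}) (σ (σ a) : {x // x ∈ S}) h1' h3' h2' := by
      have h333 : σ (σ (σ a)) = a := by
        have := hσ.orderOf ▸ pow_orderOf_eq_one σ
        exact (by rw [pow_succ, pow_two] at this; exact congrArg (fun f => f a) this :)
      refine ext_emb (ι := three _ _ _ h1' h3' h2') (fun i => ?_) (fun y hy' => ?_) (emb_supp _ _)
      · show Perm.ofSubtype σ _ = _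
        obtain ⟨c1, c2, c3⟩ := cyc_apply h1' h3' h2'
        fin_cases i
        · exact (Perm.ofSubtype_apply_coe σ a).trans c1.symm
        · exact (Perm.ofSubtype_apply_coe σ (σ a)).trans c2.symm
        · refine (Perm.ofSubtype_apply_coe σ (σ (σ a))).trans ?_
          rw [h333]
          exact c3.symm
      · show Perm.ofSubtype σ y = y
        by_cases hyS : y ∈ S
        · rw [Perm.ofSubtype_apply_of_mem σ hyS]
          have : (⟨y, hyS⟩ : {x // x ∈ S}) ∉ σ.support := by
            rw [(Perm.IsThreeCycle.support_eq_iff_mem_support hσ).2 ha]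
            rw [pts_three] at hy'
            simp only [Finset.mem_insert, Finset.mem_singleton, Subtype.ext_iff, not_or] at hy' ⊢
            exact hy'
          rw [Perm.notMem_support] at this
          rw [this]
        · exact Perm.ofSubtype_apply_of_not_mem σ hyS
    rw [e]
    refine h _ ?_
    rw [pts_three]
    intro y hy'
    simp only [Finset.mem_insert, Finset.mem_singleton] at hy'
    rcases hy' with rfl | rfl | rfl <;> exact Subtype.prop _
  · intro hy
    exact (map_one φ).symm ▸ H.one_mem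
  · intro y z hy hz ihy ihz h'
    rw [Equiv.Perm.closure_three_cycles_eq_alternating] at hy hz
    exact (map_mul φ ⟨y, hy⟩ ⟨z, hz⟩).symm ▸ H.mul_mem (ihy hy) (ihz hz)
  · intro y hy ihy h'
    rw [Equiv.Perm.closure_three_cycles_eq_alternating] at hy
    exact (map_inv φ ⟨y, hy⟩).symm ▸ H.inv_mem (ihy hy)

/-- Everything supported on the points of an injection comes from the smaller group. -/
theorem mem_range_of_supp (κ : Fin k ↪ Fin r) {g : A r} (hg : Supp (pts κ) g) : g ∈ (emb κ).range := by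
  refine mem_of_supp _ (fun ι hι => ?_) hg
  choose f hf using fun i => mem_pts.1 (hι (mem_pts.2 ⟨i, rfl⟩))
  obtain ⟨ι', hι'⟩ : ∃ ι' : Fin 3 ↪ Fin k, ι'.trans κ = ι := by
    refine ⟨⟨f, fun i j e => ι.injective ?_⟩, by ext i; exact congrArg Fin.val (hf i)⟩
    rw [← hf i, ← hf j, e]
  exact ⟨emb ι' a3, by rw [emb_trans, hι']⟩

/-- An element commuting with all three-cycles is trivial. -/
theorem eq_one_of_central (hr : 4 ≤ r) (g : A r)
    (h : ∀ ι : Fin 3 ↪ Fin r, g * emb ι a3 = emb ι a3 * g) : g = 1 := by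
  refine Subtype.ext (Equiv.ext fun x => ?_)
  by_contra hx
  replace hx : (g : Perm (Fin r)) x ≠ x := hx
  obtain ⟨y, hy⟩ : ∃ y, y = (g : Perm (Fin r)) x := ⟨_, rfl⟩
  have hc : 2 ≤ ({x, y}ᶜ : Finset (Fin r)).card := by
    have h2 : ({x, y} : Finset (Fin r)).card ≤ 2 := Finset.card_le_two
    rw [Finset.card_compl, Fintype.card_fin]
    omega
  obtain ⟨z, hz, w, hw, hzw⟩ := Finset.one_lt_card.1 hc
  simp only [Finset.mem_compl, Finset.mem_insert, Finset.mem_singleton, not_or] at hz hw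
  have hfix : (cyc y z w (Ne.symm hz.2) hzw (Ne.symm hw.2) : Perm (Fin r)) x = x :=
    cyc_supp _ _ _ x (by
      simp only [Finset.mem_insert, Finset.mem_singleton, not_or]
      exact ⟨hy ▸ Ne.symm hx, Ne.symm hz.1, Ne.symm hw.1⟩)
  have hh := congrArg (fun u : A r => (u : Perm (Fin r)) x) (h (three y z w (Ne.symm hz.2) hzw (Ne.symm hw.2)))
  simp only [Subgroup.coe_mul, Perm.mul_apply] at hh
  change (g : Perm (Fin r)) ((cyc y z w (Ne.symm hz.2) hzw (Ne.symm hw.2) : Perm (Fin r)) x) =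
    (cyc y z w (Ne.symm hz.2) hzw (Ne.symm hw.2) : Perm (Fin r)) ((g : Perm (Fin r)) x) at hh
  rw [hfix, ← hy, (cyc_apply (Ne.symm hz.2) hzw (Ne.symm hw.2)).1] at hh
  exact hz.2 hh.symm

/-- A subgroup containing all three-cycles is everything. -/
theorem eq_top_of_cyc (H : Subgroup (A r))
    (h : ∀ (a b c : Fin r) (hab : a ≠ b) (hbc : b ≠ c) (hac : a ≠ c), cyc a b c hab hbc hac ∈ H) : H = ⊤ :=
  eq_top_iff.2 fun g _ => mem_of_supp (S := Finset.univ) H (fun ι _ => by
    have e : ι = three (ι 0) (ι 1) (ι 2) (ι.injective.ne (by decide)) (ι.injective.ne (by decide))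
        (ι.injective.ne (by decide)) := by ext i; fin_cases i <;> rfl
    rw [e]; exact h _ _ _ _ _ _) (g := g) (fun x hx => absurd (Finset.mem_univ x) hx)

end Cfsg.Agent.Small.AltDeg
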