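import Cfsg.Agent.Lib.Small.AltDeg.Cover

/-!
Irreducible representations of alternating groups in which commutator spaces of disjoint blocks do not
interact have the degree of the deleted permutation module at least.
-/

set_option autoImplicit false
set_option linter.unusedSectionVars false
set_option linter.unusedVariables false
set_option linter.style.haveILetI false

namespace Cfsg.Agent.Small.AltDeg

open Module

variable {K : Type*} [Field K] {V : Type*} [AddCommGroup V] [Module K V] [FiniteDimensional K V]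
variable {r c : ℕ}

/-- The displacement space. -/
noncomputable def rg (σ : A r →* (End K V)ˣ) (g : A r) : Submodule K V :=
  LinearMap.range ((σ g : End K V) - 1)

variable {σ : A r →* (End K V)ˣ}

theorem mem_rg (g : A r) (v : V) : (σ g : End K V) v - v ∈ rg σ g := ⟨v, rfl⟩

/-- The elements displacing into a given subspace. -/
def intoSub (σ : A r →* (End K V)ˣ) (U : Submodule K V) : Subgroup (A r) where
  carrier := {g | rg σ g ≤ U}
  one_mem' := by
    rintro _ ⟨v, rfl⟩
    simp
  mul_mem' := by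
    rintro g h hg hh _ ⟨v, rfl⟩
    have e : ((σ (g * h) : End K V) - 1) v =
        ((σ g : End K V) - 1) ((σ h : End K V) v) + ((σ h : End K V) - 1) v := by
      rw [map_mul, Units.val_mul]; simp
    rw [e]
    exact U.add_mem (hg ⟨_, rfl⟩) (hh ⟨_, rfl⟩)
  inv_mem' := by
    rintro g hg _ ⟨v, rfl⟩
    have e : ((σ g⁻¹ : End K V) - 1) v = -(((σ g : End K V) - 1) ((σ g⁻¹ : End K V) v)) := by
      simp only [LinearMap.sub_apply, End.one_apply, apply_inv' (ρ := σ) g v, neg_sub]
    rw [e]
    exact U.neg_mem (hg ⟨_, rfl⟩)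

theorem rg_conj (g x : A r) : (rg σ x).map (σ g : End K V) = rg σ (g * x * g⁻¹) := by
  apply le_antisymm
  · rintro _ ⟨_, ⟨v, rfl⟩, rfl⟩
    refine ⟨(σ g : End K V) v, ?_⟩
    simp only [LinearMap.sub_apply, End.one_apply, map_sub]
    rw [apply_mul (ρ := σ) (g * x) g⁻¹, apply_inv (ρ := σ) g v, apply_mul (ρ := σ) g x]
  · rintro _ ⟨v, rfl⟩
    refine ⟨_, ⟨(σ g⁻¹ : End K V) v, rfl⟩, ?_⟩
    simp only [LinearMap.sub_apply, End.one_apply, map_sub]
    rw [apply_mul (ρ := σ) (g * x) g⁻¹, apply_mul (ρ := σ) g x, apply_inv' (ρ := σ) g v]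

theorem finrank_map_sigma (g : A r) (U : Submodule K V) : finrank K ↥(U.map (σ g : End K V)) = finrank K ↥U :=
  LinearEquiv.finrank_eq (Submodule.equivMapOfInjective _
    (Function.LeftInverse.injective (g := (σ g⁻¹ : End K V)) fun v => apply_inv g v) U).symm

/-- The bound for the degree. -/
def bd (K : Type*) [Field K] [DecidableEq K] (r : ℕ) : ℕ := if (r : K) = 0 then r - 2 else r - 1

/-- The space spanned by the blocks inside a set of points. -/
noncomputable def WS (σ : A r →* (End K V)ˣ) (Q : Set (A c)) (S : Finset (Fin r)) : Submodule K V :=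
  ⨆ (ι : Fin c ↪ Fin r) (_ : pts ι ⊆ S), ⨆ q ∈ Q, rg σ (emb ι q)

/-- The hypotheses on the blocks. -/
structure Blocks (σ : A r →* (End K V)ˣ) (Q : Set (A c)) : Prop where
  c3 : 3 ≤ c
  c4 : c ≤ 4
  r9 : 9 ≤ r
  inj : Function.Injective σ
  irr : ∀ U : Submodule K V, (∀ g : A r, ∀ v ∈ U, (σ g : End K V) v ∈ U) → U = ⊥ ∨ U = ⊤
  fix : ∀ (ι : Fin c ↪ Fin r), ∀ q ∈ Q, ∀ g : A r, Supp (pts ι)ᶜ g → ∀ v ∈ rg σ (emb ι q), (σ g : End K V) v = v
  base : ∀ ι : Fin c ↪ Fin r, c - 1 ≤ finrank K ↥(⨆ q ∈ Q, rg σ (emb ι q))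
  gen : ∀ S : Finset (Fin r), 5 ≤ S.card → ∀ H : Subgroup (A r),
    (∀ ι : Fin c ↪ Fin r, pts ι ⊆ S → ∀ q ∈ Q, emb ι q ∈ H) → ∀ ι : Fin 3 ↪ Fin r, pts ι ⊆ S → emb ι a3 ∈ H
  rank2 : ∀ ι : Fin 3 ↪ Fin r, 2 ≤ finrank K ↥(rg σ (emb ι a3))

variable {Q : Set (A c)}

theorem rg_le_WS {ι : Fin c ↪ Fin r} {S : Finset (Fin r)} (h : pts ι ⊆ S) {q : A c} (hq : q ∈ Q) :
    rg σ (emb ι q) ≤ WS σ Q S := le_iSup₂_of_le ι h (le_iSup₂_of_le q hq le_rfl)

theorem WS_le {S : Finset (Fin r)} {U : Submodule K V}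
    (h : ∀ ι : Fin c ↪ Fin r, pts ι ⊆ S → ∀ q ∈ Q, rg σ (emb ι q) ≤ U) : WS σ Q S ≤ U :=
  iSup₂_le fun ι hι => iSup₂_le fun q hq => h ι hι q hq

theorem WS_mono {S S' : Finset (Fin r)} (h : S ⊆ S') : WS σ Q S ≤ WS σ Q S' :=
  WS_le fun ι hι q hq => rg_le_WS (hι.trans h) hq

theorem WS_map_le (g : A r) {S S' : Finset (Fin r)} (h : ∀ x ∈ S, (g : Equiv.Perm (Fin r)) x ∈ S') :
    (WS σ Q S).map (σ g : End K V) ≤ WS σ Q S' := by
  rw [Submodule.map_le_iff_le_comap]
  refine WS_le fun ι hι q hq => ?_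
  rw [← Submodule.map_le_iff_le_comap, rg_conj,
    conj_emb g ι (ι.trans (g : Equiv.Perm (Fin r)).toEmbedding) (fun i => rfl)]
  refine rg_le_WS (fun x hx => ?_) hq
  obtain ⟨i, rfl⟩ := mem_pts.1 hx
  exact h _ (hι (mem_pts.2 ⟨i, rfl⟩))

theorem WS_invariant {g : A r} {S : Finset (Fin r)} (hg : Supp S g) :
    ∀ v ∈ WS σ Q S, (σ g : End K V) v ∈ WS σ Q S := fun v hv =>
  WS_map_le g (fun x hx => hg.mem hx) ⟨v, hv, rfl⟩

namespace Blocks

variable (B : Blocks σ Q)
include B

theorem fixed {S : Finset (Fin r)} {g : A r} (hg : Supp Sᶜ g) : ∀ v ∈ WS σ Q S, (σ g : End K V) v = v := by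
  have hle : WS σ Q S ≤ LinearMap.ker ((σ g : End K V) - 1) := WS_le fun ι hι q hq v hv => by
    rw [LinearMap.mem_ker, LinearMap.sub_apply, End.one_apply, sub_eq_zero]
    exact B.fix ι q hq g (hg.mono (Finset.compl_subset_compl.2 hι)) v hv
  intro v hv
  have := hle hv
  rwa [LinearMap.mem_ker, LinearMap.sub_apply, End.one_apply, sub_eq_zero] at this

theorem rg_le {S : Finset (Fin r)} (hS : 5 ≤ S.card) {g : A r} (hg : Supp S g) : rg σ g ≤ WS σ Q S :=
  mem_of_supp (intoSub σ (WS σ Q S)) (fun ι hι =>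
    B.gen S hS (intoSub σ _) (fun κ hκ q hq => rg_le_WS hκ hq) ι hι) hg

/-- Two maximal subsets span. -/
theorem le_sup {S : Finset (Fin r)} (hS : 6 ≤ S.card) {a b : Fin r} (ha : a ∈ S) (hb : b ∈ S) (hab : a ≠ b) :
    WS σ Q S ≤ WS σ Q (S.erase a) ⊔ WS σ Q (S.erase b) := by
  obtain ⟨U, hU⟩ : ∃ U, U = WS σ Q (S.erase a) ⊔ WS σ Q (S.erase b) := ⟨_, rfl⟩
  rw [← hU]
  have ha' : ∀ {x : Fin r} {g : A r}, Supp (S.erase x) g → x ∈ S → x = a ∨ x = b → g ∈ intoSub σ U := by
    rintro x g hg hx (rfl | rfl)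
    · exact le_trans (B.rg_le (by rw [Finset.card_erase_of_mem hx]; omega) hg) (hU ▸ le_sup_left)
    · exact le_trans (B.rg_le (by rw [Finset.card_erase_of_mem hx]; omega) hg) (hU ▸ le_sup_right)
  have hall : ∀ (x y z : Fin r) (hxy : x ≠ y) (hyz : y ≠ z) (hxz : x ≠ z), x ∈ S → y ∈ S → z ∈ S →
      cyc x y z hxy hyz hxz ∈ intoSub σ U := by
    intro x y z hxy hyz hxz hx hy hz
    by_cases h1 : a ∈ ({x, y, z} : Finset (Fin r))
    swap
    · refine ha' (x := a) ((cyc_supp hxy hyz hxz).mono fun w hw => ?_) ha (Or.inl rfl)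
      rw [Finset.mem_erase]
      simp only [Finset.mem_insert, Finset.mem_singleton] at hw h1 ⊢
      refine ⟨fun e => h1 (e ▸ hw), ?_⟩
      rcases hw with rfl | rfl | rfl <;> assumption
    by_cases h2 : b ∈ ({x, y, z} : Finset (Fin r))
    swap
    · refine ha' (x := b) ((cyc_supp hxy hyz hxz).mono fun w hw => ?_) hb (Or.inr rfl)
      rw [Finset.mem_erase]
      simp only [Finset.mem_insert, Finset.mem_singleton] at hw h2 ⊢
      refine ⟨fun e => h2 (e ▸ hw), ?_⟩
      rcases hw with rfl | rfl | rfl <;> assumption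
    -- conjugate by a three-cycle avoiding `b`
    obtain ⟨v, hv, w, hw, hvw⟩ := Finset.one_lt_card.1 (show 1 < (S \ {x, y, z}).card by
      have h4 := Finset.le_card_sdiff {x, y, z} S
      have h5 : ({x, y, z} : Finset (Fin r)).card ≤ 3 := Finset.card_le_three
      omega)
    simp only [Finset.mem_sdiff, Finset.mem_insert, Finset.mem_singleton, not_or] at hv hw
    have hav : a ≠ v := by
      simp only [Finset.mem_insert, Finset.mem_singleton] at h1
      rcases h1 with h | h | h <;> rw [h] <;> tauto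
    have haw : a ≠ w := by
      simp only [Finset.mem_insert, Finset.mem_singleton] at h1
      rcases h1 with h | h | h <;> rw [h] <;> tauto
    have hbv : b ≠ v := by
      simp only [Finset.mem_insert, Finset.mem_singleton] at h2
      rcases h2 with h | h | h <;> rw [h] <;> tauto
    have hbw : b ≠ w := by
      simp only [Finset.mem_insert, Finset.mem_singleton] at h2
      rcases h2 with h | h | h <;> rw [h] <;> tauto
    obtain ⟨g, hg⟩ : ∃ g, g = cyc a v w hav hvw haw := ⟨_, rfl⟩
    have hgS : g ∈ intoSub σ U := by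
      refine ha' (x := b) (hg ▸ (cyc_supp hav hvw haw).mono fun t ht => ?_) hb (Or.inr rfl)
      rw [Finset.mem_erase]
      simp only [Finset.mem_insert, Finset.mem_singleton] at ht
      rcases ht with rfl | rfl | rfl
      exacts [⟨hab, ha⟩, ⟨Ne.symm hbv, hv.1⟩, ⟨Ne.symm hbw, hw.1⟩]
    have hin : g * cyc x y z hxy hyz hxz * g⁻¹ ∈ intoSub σ U := by
      rw [conj_cyc]
      refine ha' (x := a) ((cyc_supp _ _ _).mono fun t ht => ?_) ha (Or.inl rfl)
      rw [Finset.mem_erase]
      have hgsupp : Supp S g := hg ▸ (cyc_supp hav hvw haw).mono fun u hu => by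
        simp only [Finset.mem_insert, Finset.mem_singleton] at hu
        rcases hu with rfl | rfl | rfl
        exacts [ha, hv.1, hw.1]
      have hne : ∀ u, u ≠ w → (g : Equiv.Perm (Fin r)) u ≠ a := fun u hu e => by
        refine hu ((g : Equiv.Perm (Fin r)).injective (e.trans ?_))
        rw [hg]; exact (cyc_apply hav hvw haw).2.2.symm
      simp only [Finset.mem_insert, Finset.mem_singleton] at ht
      rcases ht with rfl | rfl | rfl
      exacts [⟨hne x (Ne.symm hw.2.1), hgsupp.mem hx⟩, ⟨hne y (Ne.symm hw.2.2.1), hgsupp.mem hy⟩,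
        ⟨hne z (Ne.symm hw.2.2.2), hgsupp.mem hz⟩]
    have := (intoSub σ U).mul_mem ((intoSub σ U).mul_mem ((intoSub σ U).inv_mem hgS) hin) hgS
    simpa [mul_assoc] using this
  refine WS_le fun ι hι q hq => ?_
  refine mem_of_supp (intoSub σ U) (fun κ hκ => ?_) ((emb_supp ι q).mono hι)
  have e : κ = three (κ 0) (κ 1) (κ 2) (κ.injective.ne (by decide)) (κ.injective.ne (by decide))
      (κ.injective.ne (by decide)) := by ext i; fin_cases i <;> rfl
  rw [e]
  exact hall _ _ _ _ _ _ (hκ (mem_pts.2 ⟨0, rfl⟩)) (hκ (mem_pts.2 ⟨1, rfl⟩)) (hκ (mem_pts.2 ⟨2, rfl⟩))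

/-- Adding a point enlarges the space. -/
theorem strict {S : Finset (Fin r)} (hS : c ≤ S.card) (hS' : S.card + 3 ≤ r) {j : Fin r} (hj : j ∉ S) :
    finrank K ↥(WS σ Q S) < finrank K ↥(WS σ Q (insert j S)) := by
  by_contra hc
  have heq : WS σ Q S = WS σ Q (insert j S) :=
    Submodule.eq_of_le_of_finrank_le (WS_mono (Finset.subset_insert _ _)) (not_lt.1 hc)
  obtain ⟨U, hU⟩ : ∃ U, U = WS σ Q S := ⟨_, rfl⟩
  have hother : ∀ k, k ∉ S → WS σ Q (insert k S) ≤ U := by
    intro k hk
    by_cases hkj : k = j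
    · rw [hkj, ← heq, hU]
    obtain ⟨m, hm⟩ : ((insert k (insert j S))ᶜ : Finset (Fin r)).Nonempty := by
      rw [← Finset.card_pos, Finset.card_compl, Fintype.card_fin, Finset.card_insert_of_notMem
        (by simp [hkj, hk]), Finset.card_insert_of_notMem hj]
      omega
    simp only [Finset.mem_compl, Finset.mem_insert, not_or] at hm
    obtain ⟨g, hg⟩ : ∃ g, g = cyc j k m (Ne.symm hkj) (Ne.symm hm.1) (Ne.symm hm.2.1) := ⟨_, rfl⟩
    have hgsupp : Supp Sᶜ g := hg ▸ (cyc_supp _ _ _).mono fun t ht => by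
      simp only [Finset.mem_insert, Finset.mem_singleton] at ht
      rw [Finset.mem_compl]
      rcases ht with rfl | rfl | rfl
      exacts [hj, hk, hm.2.2]
    have hgi : ∀ x ∈ insert k S, ((g⁻¹ : A r) : Equiv.Perm (Fin r)) x ∈ insert j S := by
      intro x hx
      rw [Subgroup.coe_inv, Equiv.Perm.inv_def]
      rcases Finset.mem_insert.1 hx with rfl | hx
      · rw [show (g : Equiv.Perm (Fin r)).symm x = j from (Equiv.symm_apply_eq _).2
          (by rw [hg]; exact (cyc_apply _ _ _).1.symm)]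
        exact Finset.mem_insert_self _ _
      · rw [show (g : Equiv.Perm (Fin r)).symm x = x from (Equiv.symm_apply_eq _).2
          (hgsupp x (by simpa using hx)).symm]
        exact Finset.mem_insert_of_mem hx
    intro v hv
    have h1 : (σ g⁻¹ : End K V) v ∈ WS σ Q S := heq ▸ WS_map_le g⁻¹ hgi ⟨v, hv, rfl⟩
    have h2 := B.fixed hgsupp _ h1
    rw [apply_inv' (ρ := σ) g v] at h2
    rw [hU, h2]
    exact h1
  let N : Subgroup (A r) :=
    { carrier := {g | U.map (σ g : End K V) = U}
      one_mem' := by simp [Module.End.one_eq_id]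
      mul_mem' := by
        intro g h hg hh
        show U.map _ = U
        rw [map_mul, Units.val_mul, Module.End.mul_eq_comp, Submodule.map_comp, hh, hg]
      inv_mem' := by
        intro g hg
        show U.map _ = U
        conv_lhs => rw [← hg]
        rw [← Submodule.map_comp, ← Module.End.mul_eq_comp, ← Units.val_mul, ← map_mul, inv_mul_cancel, map_one,
          Units.val_one, Module.End.one_eq_id, Submodule.map_id] }
  have hN : ∀ k, k ∉ S → ∀ g : A r, Supp (insert k S) g → g ∈ N := by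
    intro k hk g hg
    show U.map _ = U
    refine Submodule.eq_of_le_of_finrank_le ?_ (finrank_map_sigma g U).ge
    refine le_trans (Submodule.map_mono ?_) (le_trans (WS_map_le g fun x hx => hg.mem hx) (hother k hk))
    exact hU ▸ WS_mono (Finset.subset_insert _ _)
  have hU2 : 2 ≤ finrank K ↥U := by
    obtain ⟨ι, hι⟩ := exists_pts hS
    have : (⨆ q ∈ Q, rg σ (emb ι q)) ≤ U := iSup₂_le fun q hq => hU ▸ rg_le_WS hι hq
    have := Submodule.finrank_mono this
    have := B.base ι
    have := B.c3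
    omega
  have hcyc : ∀ (x y z : Fin r) (hxy : x ≠ y) (hyz : y ≠ z) (hxz : x ≠ z), cyc x y z hxy hyz hxz ∈ N := by
    have one : ∀ (x y z : Fin r) (hxy : x ≠ y) (hyz : y ≠ z) (hxz : x ≠ z), x ∈ S → y ∈ S →
        cyc x y z hxy hyz hxz ∈ N := by
      intro x y z hxy hyz hxz hx hy
      obtain ⟨k, hk, hz⟩ : ∃ k, k ∉ S ∧ z ∈ insert k S := by
        by_cases hz : z ∈ S
        · exact ⟨j, hj, Finset.mem_insert_of_mem hz⟩
        · exact ⟨z, hz, Finset.mem_insert_self _ _⟩
      refine hN k hk _ ((cyc_supp hxy hyz hxz).mono fun w hw => ?_)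
      simp only [Finset.mem_insert, Finset.mem_singleton] at hw
      rcases hw with rfl | rfl | rfl
      exacts [Finset.mem_insert_of_mem hx, Finset.mem_insert_of_mem hy, hz]
    obtain ⟨s, hs, t, ht, hst⟩ := Finset.one_lt_card.1 (show 1 < S.card by have := B.c3; omega)
    -- two points outside
    have two : ∀ (x y z : Fin r) (hxy : x ≠ y) (hyz : y ≠ z) (hxz : x ≠ z), x ∈ S → y ∉ S → z ∉ S →
        cyc x y z hxy hyz hxz ∈ N := by
      intro x y z hxy hyz hxz hx hy hz
      obtain ⟨u, hu, hux⟩ : ∃ u ∈ S, u ≠ x := by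
        by_cases hsx : s = x
        · exact ⟨t, ht, fun e => hst (hsx.trans e.symm)⟩
        · exact ⟨s, hs, hsx⟩
      have huy : u ≠ y := fun e => hy (e ▸ hu)
      have huz : u ≠ z := fun e => hz (e ▸ hu)
      have h1 := one x u z hux.symm huz hxz hx hu
      have h2 := one u x y hux hxy huy hu hx
      have e : cyc x u z hux.symm huz hxz * cyc u x y hux hxy huy * (cyc x u z hux.symm huz hxz)⁻¹ =
          cyc z u y huz.symm huy hyz.symm := by
        rw [conj_cyc]
        have e1 := (cyc_apply hux.symm huz hxz).2.1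
        have e2 := (cyc_apply hux.symm huz hxz).1
        have e3 : (cyc x u z hux.symm huz hxz : Equiv.Perm (Fin r)) y = y := cyc_supp _ _ _ y (by
          simp only [Finset.mem_insert, Finset.mem_singleton, not_or]
          exact ⟨hxy.symm, huy.symm, hyz⟩)
        simp only [e1, e2, e3]
      have h3 := N.mul_mem (N.mul_mem h1 h2) (N.inv_mem h1)
      rw [e] at h3
      -- move u to x
      obtain ⟨w, hw⟩ : ∃ w, w = cyc u x y hux hxy huy := ⟨_, rfl⟩
      have h4 := N.mul_mem (N.mul_mem h2 h3) (N.inv_mem h2)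
      rw [conj_cyc] at h4
      have e1 := (cyc_apply hux hxy huy).1
      have e2 := (cyc_apply hux hxy huy).2.2
      have e3 : (cyc u x y hux hxy huy : Equiv.Perm (Fin r)) z = z := cyc_supp _ _ _ z (by
          simp only [Finset.mem_insert, Finset.mem_singleton, not_or]
          exact ⟨huz.symm, hxz.symm, hyz.symm⟩)
      simp only [e1, e2, e3] at h4
      -- h4 is the cycle z x u; combine
      have h5 := N.mul_mem (N.mul_mem (N.inv_mem h2) h3) h2
      rw [show (cyc u x y hux hxy huy)⁻¹ * cyc z u y huz.symm huy hyz.symm * cyc u x y hux hxy huy =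
        (cyc u x y hux hxy huy)⁻¹ * cyc z u y huz.symm huy hyz.symm * ((cyc u x y hux hxy huy)⁻¹)⁻¹ by rw [inv_inv],
        conj_cyc] at h5
      have f1 : ((cyc u x y hux hxy huy)⁻¹ : A r).1 u = y := by
        rw [Subgroup.coe_inv, Equiv.Perm.inv_def, Equiv.symm_apply_eq, e2]
      have f2 : ((cyc u x y hux hxy huy)⁻¹ : A r).1 y = x := by
        rw [Subgroup.coe_inv, Equiv.Perm.inv_def, Equiv.symm_apply_eq, (cyc_apply hux hxy huy).2.1]
      have f3 : ((cyc u x y hux hxy huy)⁻¹ : A r).1 z = z := by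
        rw [Subgroup.coe_inv, Equiv.Perm.inv_def, Equiv.symm_apply_eq, e3]
      simp only [f1, f2, f3] at h5
      -- h5 is the cycle z y x
      have h6 := N.inv_mem h5
      have e7 : (cyc z y x hyz.symm hxy.symm hxz.symm)⁻¹ = cyc x y z hxy hyz hxz := by
        refine (eq_inv_of_mul_eq_one_left ?_).symm
        refine Subtype.ext (Equiv.ext fun p => ?_)
        show (cyc x y z hxy hyz hxz : Equiv.Perm (Fin r)) ((cyc z y x hyz.symm hxy.symm hxz.symm : Equiv.Perm (Fin r)) p) = p
        obtain ⟨a1, a2, a3'⟩ := cyc_apply hxy hyz hxz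
        obtain ⟨b1, b2, b3⟩ := cyc_apply hyz.symm hxy.symm hxz.symm
        by_cases hp : p ∈ ({x, y, z} : Finset (Fin r))
        · simp only [Finset.mem_insert, Finset.mem_singleton] at hp
          rcases hp with rfl | rfl | rfl
          · rw [b3, a3']
          · rw [b2, a1]
          · rw [b1, a2]
        · rw [cyc_supp hyz.symm hxy.symm hxz.symm p (by
            simp only [Finset.mem_insert, Finset.mem_singleton] at hp ⊢; tauto), cyc_supp hxy hyz hxz p hp]
      rwa [e7] at h6
    have rot : ∀ (x y z : Fin r) (hxy : x ≠ y) (hyz : y ≠ z) (hxz : x ≠ z),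
        cyc y z x hyz hxz.symm hxy.symm = cyc x y z hxy hyz hxz := by
      intro x y z hxy hyz hxz
      refine Subtype.ext (Equiv.ext fun p => ?_)
      obtain ⟨a1, a2, a3'⟩ := cyc_apply hxy hyz hxz
      obtain ⟨b1, b2, b3⟩ := cyc_apply hyz hxz.symm hxy.symm
      by_cases hp : p ∈ ({x, y, z} : Finset (Fin r))
      · simp only [Finset.mem_insert, Finset.mem_singleton] at hp
        rcases hp with rfl | rfl | rfl
        · exact b3.trans a1.symm
        · exact b1.trans a2.symm
        · exact b2.trans a3'.symm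
      · rw [cyc_supp hxy hyz hxz p hp, cyc_supp hyz hxz.symm hxy.symm p (by
          simp only [Finset.mem_insert, Finset.mem_singleton] at hp ⊢; tauto)]
    intro x y z hxy hyz hxz
    by_cases hx : x ∈ S
    · by_cases hy : y ∈ S
      · exact one x y z hxy hyz hxz hx hy
      · by_cases hz : z ∈ S
        · rw [← rot x y z hxy hyz hxz, ← rot y z x hyz hxz.symm hxy.symm]
          exact one _ _ _ _ _ _ hz hx
        · exact two x y z hxy hyz hxz hx hy hz
    · by_cases hy : y ∈ S
      · by_cases hz : z ∈ S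
        · rw [← rot x y z hxy hyz hxz]; exact one _ _ _ _ _ _ hy hz
        · rw [← rot x y z hxy hyz hxz]; exact two _ _ _ _ _ _ hy hz hx
      · by_cases hz : z ∈ S
        · rw [← rot x y z hxy hyz hxz, ← rot y z x hyz hxz.symm hxy.symm]
          exact two _ _ _ _ _ _ hz hx hy
        · -- conjugate a triple with one point inside
          have hnz : ∀ p, p ∈ S → p ≠ z := fun p hp e => hz (e ▸ hp)
          have h1 := two s x y (fun e => hx (e ▸ hs)) hxy (fun e => hy (e ▸ hs)) hs hx hy
          have h2 := one s t z hst (hnz t ht) (hnz s hs) hs ht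
          have h3 := N.mul_mem (N.mul_mem (N.mul_mem h2 h2) h1) (N.inv_mem (N.mul_mem h2 h2))
          rw [conj_cyc] at h3
          obtain ⟨c1, c2, c3'⟩ := cyc_apply hst (hnz t ht) (hnz s hs)
          have fx : ∀ p, p ∉ S → p ≠ z →
              (cyc s t z hst (hnz t ht) (hnz s hs) : Equiv.Perm (Fin r)) p = p :=
            fun p hp hpz => cyc_supp _ _ _ p (by
              simp only [Finset.mem_insert, Finset.mem_singleton, not_or]
              exact ⟨fun e => hp (e ▸ hs), fun e => hp (e ▸ ht), hpz⟩)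
          simp only [Subgroup.coe_mul, Equiv.Perm.mul_apply, c1, c2, fx x hx hxz, fx y hy hyz] at h3
          rw [← rot z x y hxz.symm hxy hyz.symm] at h3
          exact h3
  have htop : N = ⊤ := eq_top_of_cyc N hcyc
  rcases B.irr U (fun g v hv => by
    have hg : g ∈ N := by rw [htop]; exact Subgroup.mem_top g
    have hm : (σ g : End K V) v ∈ U.map (σ g : End K V) := Submodule.mem_map_of_mem hv
    rwa [show U.map (σ g : End K V) = U from hg] at hm) with h | h
  · rw [h, finrank_bot] at hU2; omega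
  · obtain ⟨ι, hι⟩ := exists_pts (k := 3) (S := Sᶜ) (by rw [Finset.card_compl, Fintype.card_fin]; omega)
    have h1 : σ (emb ι a3) = 1 := Units.ext (LinearMap.ext fun v =>
      B.fixed ((emb_supp ι a3).mono hι) v (hU ▸ h ▸ Submodule.mem_top))
    have := B.inj (h1.trans (map_one σ).symm)
    rw [← map_one (emb ι)] at this
    exact absurd (congrArg Subtype.val (emb_injective ι this)) (by decide)

theorem lower : ∀ (i : ℕ) (S : Finset (Fin r)), S.card = c + i → c + i + 2 ≤ r →
    c - 1 + i ≤ finrank K ↥(WS σ Q S) := by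
  intro i
  induction i with
  | zero =>
    intro S hS _
    obtain ⟨ι, hι⟩ := exists_pts_eq (r := r) (S := S) (k := c) (by omega)
    exact (B.base ι).trans (Submodule.finrank_mono (iSup₂_le fun q hq => rg_le_WS hι.le hq))
  | succ i ih =>
    intro S hS hr
    obtain ⟨j, hj⟩ := Finset.card_pos.1 (show 0 < S.card by omega)
    have hc : (S.erase j).card = c + i := by rw [Finset.card_erase_of_mem hj]; omega
    have h1 := ih _ hc (by omega)
    have h2 := B.strict (S := S.erase j) (by omega) (by omega) (Finset.notMem_erase j S)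
    rw [Finset.insert_erase hj] at h2
    omega

end Blocks

end Cfsg.Agent.Small.AltDeg
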