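import Cfsg.Agent.Lib.Small.AltDeg.Spin

/-!
A perfect central extension of a large alternating group has kernel of order at most two, and if it is
proper then products of lifted three-cycles sharing two points square to the kernel generator.
-/

set_option autoImplicit false
set_option linter.unusedSectionVars false
set_option linter.unusedVariables false
set_option linter.style.haveILetI false

namespace Cfsg.Agent.Small.AltDeg

open scoped commutatorElement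

/-- Carmichael's relations bound the order. -/
theorem carmichael {Q : Type*} [Group Q] [Finite Q] (x : ℕ → Q) : ∀ n : ℕ,
    (∀ i, i ≤ n → x i ^ 3 = 1) → (∀ i j, i ≤ n → j ≤ n → i ≠ j → (x i * x j) ^ 2 = 1) →
    2 * Nat.card ↥(Subgroup.closure (x '' {i | i ≤ n})) ≤ (n + 3).factorial := by
  intro n
  induction n with
  | zero =>
    intro h3 _
    have e : x '' {i | i ≤ 0} = {x 0} := by ext; simp [eq_comm]
    rw [e, ← Subgroup.zpowers_eq_closure, Nat.card_zpowers]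
    have := Nat.le_of_dvd (by norm_num) (orderOf_dvd_of_pow_eq_one (h3 0 le_rfl))
    simp [Nat.factorial]
    omega
  | succ n ih =>
    intro h3 hp
    have hI := ih (fun i hi => h3 i (by omega)) fun i j hi hj => hp i j (by omega) (by omega)
    obtain ⟨H, hH⟩ : ∃ H, H = Subgroup.closure (x '' {i | i ≤ n}) := ⟨_, rfl⟩
    rw [← hH] at hI
    obtain ⟨y, hy⟩ : ∃ y, y = x (n + 1) := ⟨_, rfl⟩
    have y3 : y ^ 3 = 1 := hy ▸ h3 _ le_rfl
    have xH : ∀ i, i ≤ n → x i ∈ H := fun i hi => hH ▸ Subgroup.subset_closure ⟨i, hi, rfl⟩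
    have yinv : y⁻¹ = y * y := inv_eq_of_mul_eq_one_right (by rw [← mul_assoc, ← pow_two, ← pow_succ, y3])
    have xinv : ∀ i, i ≤ n → (x i)⁻¹ = x i * x i := fun i hi =>
      inv_eq_of_mul_eq_one_right (by rw [← mul_assoc, ← pow_two, ← pow_succ, h3 i (by omega)])
    have rel : ∀ k, k ≤ n → y * x k * y = (x k)⁻¹ := fun k hk => by
      refine eq_inv_of_mul_eq_one_left ?_
      rw [mul_assoc (y * x k), ← pow_two, hy]
      exact hp (n + 1) k le_rfl (by omega) (by omega)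
    have rel' : ∀ k, k ≤ n → x k * y * x k = y⁻¹ := fun k hk => by
      refine eq_inv_of_mul_eq_one_left ?_
      rw [mul_assoc (x k * y), ← pow_two, hy]
      exact hp k (n + 1) (by omega) le_rfl (by omega)
    obtain ⟨S, hS⟩ : ∃ S : Set Q, S = {q | q ∈ H ∨ q * y⁻¹ ∈ H ∨ q * (y * y)⁻¹ ∈ H ∨
      ∃ k ≤ n, q * (y * y * x k)⁻¹ ∈ H} := ⟨_, rfl⟩
    have mem0 : ∀ q ∈ H, q ∈ S := fun q hq => hS ▸ Or.inl hq
    have mem1 : ∀ h ∈ H, h * y ∈ S := fun h hh => hS ▸ Or.inr (Or.inl (by rwa [mul_inv_cancel_right]))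
    have mem2 : ∀ h ∈ H, h * (y * y) ∈ S := fun h hh => hS ▸ Or.inr (Or.inr (Or.inl (by rwa [mul_inv_cancel_right])))
    have mem3 : ∀ h ∈ H, ∀ k ≤ n, h * (y * y * x k) ∈ S := fun h hh k hk =>
      hS ▸ Or.inr (Or.inr (Or.inr ⟨k, hk, by rwa [mul_inv_cancel_right]⟩))
    have decomp : ∀ q ∈ S, q ∈ H ∨ (∃ h ∈ H, q = h * y) ∨ (∃ h ∈ H, q = h * (y * y)) ∨
        ∃ k ≤ n, ∃ h ∈ H, q = h * (y * y * x k) := by
      intro q hq
      rw [hS] at hq
      rcases hq with h | h | h | ⟨k, hk, h⟩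
      · exact Or.inl h
      · exact Or.inr (Or.inl ⟨_, h, by rw [inv_mul_cancel_right]⟩)
      · exact Or.inr (Or.inr (Or.inl ⟨_, h, by rw [inv_mul_cancel_right]⟩))
      · exact Or.inr (Or.inr (Or.inr ⟨k, hk, _, h, by rw [inv_mul_cancel_right]⟩))
    have ry : ∀ k, k ≤ n → y * x k = (x k)⁻¹ * y⁻¹ := fun k hk => by rw [← rel k hk, mul_inv_cancel_right]
    have ry' : ∀ k, k ≤ n → y⁻¹ * (x k)⁻¹ = x k * y := fun k hk => by rw [← rel' k hk, mul_inv_cancel_right]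
    have ry'' : ∀ k, k ≤ n → y * (x k)⁻¹ = (x k)⁻¹ * (y * y * x k) := fun k hk => by
      rw [← yinv, ← mul_assoc, ← ry k hk, mul_assoc, ← xinv k hk]
    have step : ∀ q ∈ S, ∀ i, i ≤ n + 1 → q * x i ∈ S := by
      intro q hq i hi
      rcases Nat.lt_or_ge i (n + 1) with hlt | hge
      · have hi' : i ≤ n := by omega
        rcases decomp q hq with h | ⟨h, hh, rfl⟩ | ⟨h, hh, rfl⟩ | ⟨k, hk, h, hh, rfl⟩
        · exact mem0 _ (H.mul_mem h (xH i hi'))
        · rw [mul_assoc h y, ry i hi', ← mul_assoc, yinv]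
          exact mem2 _ (H.mul_mem hh (H.inv_mem (xH i hi')))
        · rw [mul_assoc]
          exact mem3 h hh i hi'
        · by_cases hki : k = i
          · subst hki
            rw [mul_assoc h, mul_assoc (y * y), ← xinv k hk, ← yinv, ry' k hk, ← mul_assoc]
            exact mem1 _ (H.mul_mem hh (xH k hk))
          · have c : x k * x i = (x i)⁻¹ * (x k)⁻¹ := by
              rw [← mul_inv_rev]
              refine eq_inv_of_mul_eq_one_left ?_
              rw [← pow_two]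
              exact hp k i (by omega) (by omega) hki
            have e : h * (y * y * x k) * x i = h * (x i * (x k)⁻¹) * (y * y * x k) := by
              rw [mul_assoc h (y * y * x k), mul_assoc (y * y) (x k), c, ← mul_assoc (y * y), ← yinv, ry' i hi',
                mul_assoc (x i) y, ry'' k hk, ← yinv]
              simp only [mul_assoc]
            rw [e]
            exact mem3 _ (H.mul_mem hh (H.mul_mem (xH i hi') (H.inv_mem (xH k hk)))) k hk
      · have e : i = n + 1 := by omega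
        rw [e, ← hy]
        rcases decomp q hq with h | ⟨h, hh, rfl⟩ | ⟨h, hh, rfl⟩ | ⟨k, hk, h, hh, rfl⟩
        · exact mem1 _ h
        · rw [mul_assoc]
          exact mem2 h hh
        · rw [mul_assoc, ← pow_two, ← pow_succ, y3, mul_one]
          exact mem0 h hh
        · have e : y * y * x k * y = (x k)⁻¹ * (y * y * x k) := by
            rw [mul_assoc, mul_assoc y y, ← mul_assoc y (x k), rel k hk, ry'' k hk]
          rw [mul_assoc h, e, ← mul_assoc]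
          exact mem3 _ (H.mul_mem hh (H.inv_mem (xH k hk))) k hk
    have hsub : (Subgroup.closure (x '' {i | i ≤ n + 1}) : Set Q) ⊆ S := by
      intro q hq
      induction hq using Subgroup.closure_induction_right with
      | one => exact mem0 1 H.one_mem
      | mul_right a hprev b hb ha =>
        obtain ⟨i, hi, rfl⟩ := hb
        exact step a ha i hi
      | mul_inv_cancel a hprev b hb ha =>
        obtain ⟨i, hi, rfl⟩ := hb
        rw [inv_eq_of_mul_eq_one_right (b := x i * x i) (by rw [← mul_assoc, ← pow_two, ← pow_succ, h3 i hi]),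
          ← mul_assoc]
        exact step _ (step a ha i hi) i hi
    classical
    obtain ⟨f, hf⟩ : ∃ f : (↥H ⊕ ↥H ⊕ ↥H ⊕ (Fin (n + 1) × ↥H)) → Q, f =
        Sum.elim (fun h : ↥H => (h : Q)) (Sum.elim (fun h : ↥H => (h : Q) * y) (Sum.elim (fun h : ↥H => (h : Q) * (y * y))
          (fun p : Fin (n + 1) × ↥H => (p.2 : Q) * (y * y * x p.1)))) := ⟨_, rfl⟩
    have hcov : S ⊆ Set.range f := by
      intro q hq
      rw [hf]
      rcases decomp q hq with h | ⟨h, hh, rfl⟩ | ⟨h, hh, rfl⟩ | ⟨k, hk, h, hh, rfl⟩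
      · exact ⟨Sum.inl ⟨q, h⟩, rfl⟩
      · exact ⟨Sum.inr (Sum.inl ⟨h, hh⟩), rfl⟩
      · exact ⟨Sum.inr (Sum.inr (Sum.inl ⟨h, hh⟩)), rfl⟩
      · exact ⟨Sum.inr (Sum.inr (Sum.inr (⟨k, by omega⟩, ⟨h, hh⟩))), rfl⟩
    have hcard : Nat.card ↥(Subgroup.closure (x '' {i | i ≤ n + 1})) ≤ (n + 4) * Nat.card ↥H := by
      have h1 : Set.ncard (Subgroup.closure (x '' {i | i ≤ n + 1}) : Set Q) ≤ Set.ncard (Set.range f) :=
        Set.ncard_le_ncard (hsub.trans hcov) (Set.toFinite _)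
      have h2 : Nat.card ↥(Set.range f) ≤ _ := Finite.card_range_le f
      rw [Nat.card_sum, Nat.card_sum, Nat.card_sum, Nat.card_prod, Nat.card_fin] at h2
      rw [← Nat.card_coe_set_eq, ← Nat.card_coe_set_eq] at h1
      refine h1.trans (h2.trans (le_of_eq ?_))
      ring
    rw [show n + 1 + 3 = (n + 3) + 1 by omega, Nat.factorial_succ]
    calc 2 * Nat.card ↥(Subgroup.closure (x '' {i | i ≤ n + 1})) ≤ 2 * ((n + 4) * Nat.card ↥H) :=
          Nat.mul_le_mul_left 2 hcard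
      _ = (n + 4) * (2 * Nat.card ↥H) := by ring
      _ ≤ (n + 3 + 1) * (n + 3).factorial := Nat.mul_le_mul (by omega) hI

variable {G : Type*} [Group G] {r : ℕ} {π : G →* A r}

/-- A central extension. -/
structure IsExt (π : G →* A r) : Prop where
  surj : Function.Surjective π
  cent : ∀ z, π z = 1 → ∀ g : G, z * g = g * z
  nine : 9 ≤ r

theorem IsExt.conj_eq (h : IsExt π) {s X : G} {z : G} (hz : π z = 1) :
    s * (X * z) * s⁻¹ = s * X * s⁻¹ * z := by
  rw [← mul_assoc s, mul_assoc (s * X) z, h.cent z hz, ← mul_assoc]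

theorem a3_not : a3 ^ 3 = 1 ∧ a3 ^ 2 * a3 = 1 := ⟨Subtype.ext (by decide), Subtype.ext (by decide)⟩

/-- Lifts of elements centralising a three-cycle centralise its lifts. -/
theorem IsExt.commute_lift (h : IsExt π) (ι : Fin 3 ↪ Fin r) (X : G) (hX : π X = emb ι a3) (s : G)
    (hs : Commute (π s) (emb ι a3)) : Commute s X := by
  have hr := h.nine
  let P : Subgroup G :=
    { carrier := {u | Commute u X}
      one_mem' := Commute.one_left X
      mul_mem' := fun ha hb => Commute.mul_left ha hb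
      inv_mem' := fun ha => Commute.inv_left ha }
  have hXP : emb ι a3 ∈ P.map π := ⟨X, Commute.refl X, hX⟩
  have hcomp : ∀ g : A r, Supp (pts ι)ᶜ g → g ∈ P.map π := by
    intro g hg
    refine mem_of_supp (P.map π) (fun κ hκ => ?_) hg
    obtain ⟨u5, v5, huv⟩ : ∃ u v : A 5, emb (Fin.castAddEmb 2) a3 = u * v * u⁻¹ * v⁻¹ := by
      refine ⟨⟨c[1, 2, 3], Equiv.Perm.mem_alternatingGroup.2 (by decide)⟩,
        ⟨c[0, 4, 1], Equiv.Perm.mem_alternatingGroup.2 (by decide)⟩, ?_⟩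
      refine ext_emb (ι := Fin.castAddEmb 2) (fun i => ?_) (emb_supp _ _) (fun x hx => ?_)
      · rw [emb_apply]; revert i; decide
      · simp only [mem_pts] at hx; revert x; decide
    obtain ⟨μ, hμ⟩ := exists_pts (k := 2) (S := (pts ι)ᶜ \ pts κ) (by
      rw [Finset.card_sdiff_of_subset hκ, Finset.card_compl, Fintype.card_fin, card_pts, card_pts]; omega)
    obtain ⟨i5, hi5, hi5S⟩ : ∃ i5 : Fin 5 ↪ Fin r, (Fin.castAddEmb 2).trans i5 = κ ∧ pts i5 ⊆ (pts ι)ᶜ := by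
      refine ⟨⟨Fin.append κ μ, ?_⟩, Function.Embedding.ext fun i => Fin.append_left _ _ i, fun x hx => ?_⟩
      · rw [Fin.append_injective_iff]
        refine ⟨κ.injective, μ.injective, fun a b e => ?_⟩
        exact (Finset.mem_sdiff.1 (hμ (mem_pts.2 ⟨b, rfl⟩))).2 (mem_pts.2 ⟨a, e⟩)
      · obtain ⟨i, rfl⟩ := mem_pts.1 hx
        refine Fin.addCases (m := 3) (n := 2) (motive := fun i => Fin.append κ μ i ∈ (pts ι)ᶜ) (fun j => ?_)
          (fun j => ?_) i
        · rw [Fin.append_left]; exact hκ (mem_pts.2 ⟨j, rfl⟩)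
        · rw [Fin.append_right]; exact (Finset.mem_sdiff.1 (hμ (mem_pts.2 ⟨j, rfl⟩))).1
    obtain ⟨U, hU⟩ := h.surj (emb i5 u5)
    obtain ⟨W, hW⟩ := h.surj (emb i5 v5)
    refine ⟨U * W * U⁻¹ * W⁻¹, ?_, by rw [← hi5, ← emb_trans, huv]; simp [map_mul, hU, hW]⟩
    have key : ∀ (Y : G) (q : A 5), π Y = emb i5 q → ∃ z, π z = 1 ∧ Y * X * Y⁻¹ = X * z := by
      intro Y q hY
      refine ⟨X⁻¹ * (Y * X * Y⁻¹), ?_, by rw [mul_inv_cancel_left]⟩
      simp only [map_mul, map_inv, hY, hX]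
      rw [(Supp.commute disjoint_compl_left ((emb_supp i5 q).mono hi5S) (emb_supp ι a3)).eq, mul_inv_cancel_right,
        inv_mul_cancel]
    obtain ⟨z1, hz1, e1⟩ := key U u5 hU
    obtain ⟨z2, hz2, e2⟩ := key W v5 hW
    have f1 : U⁻¹ * X * U = X * z1⁻¹ := by
      have := congrArg (fun t => U⁻¹ * t * U) e1
      simp only [show U⁻¹ * (U * X * U⁻¹) * U = X by group] at this
      rw [eq_mul_inv_iff_mul_eq]
      conv_rhs => rw [this]
      rw [mul_assoc (U⁻¹ * X) U z1, ← h.cent z1 hz1 U, ← mul_assoc, mul_assoc U⁻¹ X z1]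
    have f2 : W⁻¹ * X * W = X * z2⁻¹ := by
      have := congrArg (fun t => W⁻¹ * t * W) e2
      simp only [show W⁻¹ * (W * X * W⁻¹) * W = X by group] at this
      rw [eq_mul_inv_iff_mul_eq]
      conv_rhs => rw [this]
      rw [mul_assoc (W⁻¹ * X) W z2, ← h.cent z2 hz2 W, ← mul_assoc, mul_assoc W⁻¹ X z2]
    have hz1' : π z1⁻¹ = 1 := by rw [map_inv, hz1, inv_one]
    have hz2' : π z2⁻¹ = 1 := by rw [map_inv, hz2, inv_one]
    have g1 : U⁻¹ * (X * z2⁻¹) * U = U⁻¹ * X * U * z2⁻¹ := by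
      rw [← mul_assoc, mul_assoc (U⁻¹ * X) z2⁻¹ U, h.cent _ hz2' U, ← mul_assoc]
    show Commute (U * W * U⁻¹ * W⁻¹) X
    rw [commute_iff_eq, ← mul_inv_eq_iff_eq_mul]
    calc U * W * U⁻¹ * W⁻¹ * X * (U * W * U⁻¹ * W⁻¹)⁻¹
        = U * (W * (U⁻¹ * (W⁻¹ * X * W) * U) * W⁻¹) * U⁻¹ := by group
      _ = U * (W * (U⁻¹ * X * U * z2⁻¹) * W⁻¹) * U⁻¹ := by
          rw [f2, g1]
      _ = U * (W * (X * (z1⁻¹ * z2⁻¹)) * W⁻¹) * U⁻¹ := by rw [f1, mul_assoc X]
      _ = U * (X * (z2 * (z1⁻¹ * z2⁻¹))) * U⁻¹ := by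
          have hk : π (z1⁻¹ * z2⁻¹) = 1 := by rw [map_mul, hz1', hz2', one_mul]
          rw [h.conj_eq (s := W) hk, e2, mul_assoc X]
      _ = X * (z1 * (z2 * (z1⁻¹ * z2⁻¹))) := by
          have hk : π (z2 * (z1⁻¹ * z2⁻¹)) = 1 := by rw [map_mul, map_mul, hz2, hz1', hz2', one_mul, one_mul]
          rw [h.conj_eq (s := U) hk, e1, mul_assoc X]
      _ = X := by
          rw [← mul_assoc z2, ← h.cent _ hz1' z2, mul_assoc z1⁻¹, mul_inv_cancel, mul_one, mul_inv_cancel, mul_one]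
  -- split off a power of the cycle
  have hpow : ∀ (e : ℕ) (i : Fin 3), (((emb ι a3) ^ e : A r) : Equiv.Perm (Fin r)) (ι i) =
      ι (((a3 ^ e : A 3) : Equiv.Perm (Fin 3)) i) := fun e i => by rw [← map_pow, emb_apply]
  have hmove : ∀ i : Fin 3, (π s : Equiv.Perm (Fin r)) (ι i) ∈ pts ι := by
    intro i
    by_contra hout
    have e := congrArg (fun u : A r => (u : Equiv.Perm (Fin r)) (ι i)) hs.eq
    simp only [Subgroup.coe_mul, Equiv.Perm.mul_apply] at e
    rw [emb_supp ι a3 _ hout, emb_apply] at e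
    have := ι.injective ((π s : Equiv.Perm (Fin r)).injective e)
    exact (show ∀ i : Fin 3, (a3 : Equiv.Perm (Fin 3)) i ≠ i by decide) i this
  obtain ⟨j, hj⟩ := mem_pts.1 (hmove 0)
  obtain ⟨g, hg⟩ : ∃ g, g = ((emb ι a3) ^ (j : ℕ))⁻¹ * π s := ⟨_, rfl⟩
  have hgc : Commute g (emb ι a3) := hg ▸ Commute.mul_left ((Commute.refl _).pow_left _).inv_left hs
  have g0 : (g : Equiv.Perm (Fin r)) (ι 0) = ι 0 := by
    rw [hg, Subgroup.coe_mul, Equiv.Perm.mul_apply, ← hj, Subgroup.coe_inv, Equiv.Perm.inv_def,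
      Equiv.symm_apply_eq, hpow]
    exact congrArg ι ((show ∀ j : Fin 3, j = ((a3 ^ (j : ℕ) : A 3) : Equiv.Perm (Fin 3)) 0 by decide) j)
  have gstep : ∀ i : Fin 3, (g : Equiv.Perm (Fin r)) (ι i) = ι i →
      (g : Equiv.Perm (Fin r)) (ι ((a3 : Equiv.Perm (Fin 3)) i)) = ι ((a3 : Equiv.Perm (Fin 3)) i) := by
    intro i hi
    have e := congrArg (fun u : A r => (u : Equiv.Perm (Fin r)) (ι i)) hgc.eq
    simp only [Subgroup.coe_mul, Equiv.Perm.mul_apply] at e
    rw [hi, emb_apply] at e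
    exact e
  have gsupp : Supp (pts ι)ᶜ g := fun x hx => by
    rw [Finset.mem_compl, not_not] at hx
    obtain ⟨i, rfl⟩ := mem_pts.1 hx
    fin_cases i
    exacts [g0, gstep 0 g0, gstep 1 (gstep 0 g0)]
  have hsP : π s ∈ P.map π := by
    rw [show π s = (emb ι a3) ^ (j : ℕ) * g by rw [hg, mul_inv_cancel_left]]
    exact Subgroup.mul_mem _ (Subgroup.pow_mem _ hXP _) (hcomp g gsupp)
  obtain ⟨s', hs', e⟩ := hsP
  have hz : π (s'⁻¹ * s) = 1 := by rw [map_mul, map_inv, e, inv_mul_cancel]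
  rw [show s = s' * (s'⁻¹ * s) by group]
  exact Commute.mul_left hs' (h.cent _ hz X)

/-- The canonical lift of a three-cycle. -/
def Good (π : G →* A r) (ι : Fin 3 ↪ Fin r) (X : G) : Prop :=
  π X = emb ι a3 ∧ X ^ 3 = 1 ∧ ∀ t : G, π t * emb ι a3 = (emb ι a3)⁻¹ * π t → t * X * t⁻¹ = X⁻¹

theorem IsExt.exists_inverter (h : IsExt π) (ι : Fin 3 ↪ Fin r) :
    ∃ t : G, π t * emb ι a3 = (emb ι a3)⁻¹ * π t := by
  obtain ⟨ι', hι'⟩ : ∃ ι' : Fin 3 ↪ Fin r, ι' = (Equiv.swap (1 : Fin 3) 2).toEmbedding.trans ι := ⟨_, rfl⟩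
  have hinv : emb ι' a3 = (emb ι a3)⁻¹ := by
    rw [hι', ← map_inv]
    refine ext_emb (ι := (Equiv.swap (1 : Fin 3) 2).toEmbedding.trans ι) (fun i => ?_) (emb_supp _ _)
      ((emb_supp ι a3⁻¹).mono fun x hx => ?_)
    · rw [emb_apply]
      show ι ((Equiv.swap (1 : Fin 3) 2) ((a3 : Equiv.Perm (Fin 3)) i)) = _
      rw [show ((Equiv.swap (1 : Fin 3) 2).toEmbedding.trans ι) i = ι ((Equiv.swap (1 : Fin 3) 2) i) from rfl,
        emb_apply]
      exact congrArg ι (by revert i; decide)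
    · obtain ⟨i, rfl⟩ := mem_pts.1 hx
      exact mem_pts.2 ⟨(Equiv.swap (1 : Fin 3) 2) i, by simp⟩
  obtain ⟨g, -, hg⟩ := exists_conj (r := r) (by have := h.nine; omega) ι ι'
  obtain ⟨t, rfl⟩ := h.surj g
  exact ⟨t, by rw [← hinv, ← hg, inv_mul_cancel_right]⟩

theorem IsExt.inverter_unique (h : IsExt π) (ι : Fin 3 ↪ Fin r) (X : G) (hX : π X = emb ι a3) {t t0 : G}
    (ht : π t * emb ι a3 = (emb ι a3)⁻¹ * π t) (ht0 : π t0 * emb ι a3 = (emb ι a3)⁻¹ * π t0) :
    t * X * t⁻¹ = t0 * X * t0⁻¹ := by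
  have a : π t * emb ι a3 * (π t)⁻¹ = (emb ι a3)⁻¹ := by rw [ht, mul_inv_cancel_right]
  have b : π t0 * emb ι a3 * (π t0)⁻¹ = (emb ι a3)⁻¹ := by rw [ht0, mul_inv_cancel_right]
  have hc : Commute (π (t0⁻¹ * t)) (emb ι a3) := by
    rw [commute_iff_eq, ← mul_inv_eq_iff_eq_mul, map_mul, map_inv, mul_inv_rev, inv_inv]
    calc (π t0)⁻¹ * π t * emb ι a3 * ((π t)⁻¹ * π t0)
        = (π t0)⁻¹ * (π t * emb ι a3 * (π t)⁻¹) * π t0 := by group
      _ = emb ι a3 := by rw [a, ← b]; group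
  have hcc := (h.commute_lift ι X hX _ hc).eq
  calc t * X * t⁻¹ = t0 * (t0⁻¹ * t * X) * t⁻¹ := by group
    _ = t0 * (X * (t0⁻¹ * t)) * t⁻¹ := by rw [hcc]
    _ = t0 * X * t0⁻¹ := by group

theorem IsExt.exists_good (h : IsExt π) (ι : Fin 3 ↪ Fin r) : ∃ X, Good π ι X := by
  obtain ⟨t, ht⟩ := h.exists_inverter ι
  obtain ⟨Y, hY⟩ := h.surj (emb ι a3)
  obtain ⟨z, hz⟩ : ∃ z, z = t * Y * t⁻¹ * Y := ⟨_, rfl⟩
  have hcu : emb ι a3 ^ 3 = 1 := by rw [← map_pow, a3_not.1, map_one]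
  have hzc : π z = 1 := by
    rw [hz, map_mul, map_mul, map_mul, map_inv, hY, ht, mul_inv_cancel_right, inv_mul_cancel]
  have htY : t * Y * t⁻¹ = z * Y⁻¹ := by rw [hz, mul_inv_cancel_right]
  obtain ⟨X1, hX1⟩ : ∃ X1, X1 = z * (Y⁻¹ * Y⁻¹) := ⟨_, rfl⟩
  have hX1p : π X1 = emb ι a3 := by
    rw [hX1, map_mul, map_mul, map_inv, hzc, hY, one_mul, ← mul_inv_rev, inv_eq_iff_mul_eq_one, ← pow_two,
      ← pow_succ, hcu]
  have hX1t : t * X1 * t⁻¹ = X1⁻¹ := by
    have h1 : t * (Y⁻¹ * Y⁻¹) * t⁻¹ = (t * Y * t⁻¹)⁻¹ * (t * Y * t⁻¹)⁻¹ := by group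
    rw [hX1, h.cent z hzc, h.conj_eq hzc, h1, htY]
    simp only [mul_inv_rev, inv_inv]
    have c1 : Commute Y z⁻¹ := ((show Commute z Y from h.cent z hzc Y).inv_left).symm
    calc Y * z⁻¹ * (Y * z⁻¹) * z = Y * (z⁻¹ * Y) := by simp only [mul_assoc, inv_mul_cancel, mul_one]
      _ = Y * Y * z⁻¹ := by rw [← c1.eq, mul_assoc]
      _ = z⁻¹ * (Y * Y) := (c1.mul_left c1).eq
  obtain ⟨w, hw⟩ : ∃ w, w = X1 ^ 3 := ⟨_, rfl⟩
  have hwc : π w = 1 := by rw [hw, map_pow, hX1p, hcu]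
  have hw2 : w ^ 2 = 1 := by
    have : t * w * t⁻¹ = w⁻¹ := by rw [hw, ← conj_pow, hX1t, inv_pow]
    rw [← h.cent w hwc t, mul_inv_cancel_right] at this
    rw [pow_two]; nth_rw 2 [this]; exact mul_inv_cancel w
  refine ⟨X1 ^ 4, by rw [map_pow, hX1p, pow_succ, hcu, one_mul], ?_, fun t' ht' => ?_⟩
  · rw [← pow_mul, show 4 * 3 = 3 * (2 * 2) by norm_num, pow_mul, ← hw, pow_mul, hw2, one_pow]
  · rw [← conj_pow, h.inverter_unique ι X1 hX1p ht' ht, hX1t, inv_pow]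

theorem IsExt.good_unique (h : IsExt π) {ι : Fin 3 ↪ Fin r} {X X' : G} (hX : Good π ι X) (hX' : Good π ι X') :
    X = X' := by
  obtain ⟨t, ht⟩ := h.exists_inverter ι
  obtain ⟨z, hz⟩ : ∃ z, z = X⁻¹ * X' := ⟨_, rfl⟩
  have hzc : π z = 1 := by rw [hz, map_mul, map_inv, hX.1, hX'.1, inv_mul_cancel]
  have hX'e : X' = X * z := by rw [hz, mul_inv_cancel_left]
  have e2 := hX'.2.2 t ht
  rw [hX'e, h.conj_eq hzc, hX.2.2 t ht, mul_inv_rev, h.cent z⁻¹ (by rw [map_inv, hzc, inv_one])] at e2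
  have hzz : z = z⁻¹ := mul_left_cancel e2
  have h3 : z ^ 3 = 1 := by
    have := hX'.2.1
    rwa [hX'e, (show Commute X z from (h.cent z hzc X).symm).mul_pow, hX.2.1, one_mul] at this
  have hz1 : z = 1 := by
    rwa [pow_succ, pow_two, show z * z = 1 from mul_eq_one_iff_eq_inv.2 hzz, one_mul] at h3
  rw [hX'e, hz1, mul_one]

theorem IsExt.good_conj (h : IsExt π) {ι : Fin 3 ↪ Fin r} {X : G} (hX : Good π ι X) (g : G)
    (ι' : Fin 3 ↪ Fin r) (hg : ∀ i, (π g : Equiv.Perm (Fin r)) (ι i) = ι' i) : Good π ι' (g * X * g⁻¹) := by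
  have e := conj_emb (π g) ι ι' hg a3
  refine ⟨by rw [map_mul, map_mul, map_inv, hX.1, e], by rw [conj_pow, hX.2.1, mul_one, mul_inv_cancel],
    fun t ht => ?_⟩
  have hq : π (g⁻¹ * t * g) * emb ι a3 = (emb ι a3)⁻¹ * π (g⁻¹ * t * g) := by
    rw [← e] at ht
    simp only [map_mul, map_inv]
    calc (π g)⁻¹ * π t * π g * emb ι a3 = (π g)⁻¹ * (π t * (π g * emb ι a3 * (π g)⁻¹)) * π g := by group
      _ = _ := by rw [ht]; group
  have := hX.2.2 _ hq
  calc t * (g * X * g⁻¹) * t⁻¹ = g * (g⁻¹ * t * g * X * (g⁻¹ * t * g)⁻¹) * g⁻¹ := by group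
    _ = (g * X * g⁻¹)⁻¹ := by rw [this]; group

/-- The kernel has order at most two. -/
theorem IsExt.dichotomy [Finite G] (h : IsExt π) (hperf : commutator G = ⊤) :
    ∃ ζ : G, π ζ = 1 ∧ ζ * ζ = 1 ∧ (∀ z, π z = 1 → z = 1 ∨ z = ζ) ∧
      (ζ ≠ 1 → ∀ (ι : Fin 4 ↪ Fin r) (g k : G), π g = emb ι a4 → π k = emb ι b4 → g ^ 3 = 1 → k ^ 3 = 1 →
        (g * k) ^ 2 = ζ) := by
  classical
  have hr := h.nine
  choose X hX using fun ι => h.exists_good ι
  have hequi : ∀ (g : G) (ι ι' : Fin 3 ↪ Fin r), (∀ i, (π g : Equiv.Perm (Fin r)) (ι i) = ι' i) →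
      g * X ι * g⁻¹ = X ι' := fun g ι ι' hg => h.good_unique (h.good_conj (hX ι) g ι' hg) (hX ι')
  obtain ⟨f1, hf1⟩ : ∃ f : Fin 3 ↪ Fin 4, f = Fin.castAddEmb 1 := ⟨_, rfl⟩
  obtain ⟨f2, hf2⟩ : ∃ f : Fin 3 ↪ Fin 4, f = ⟨![0, 1, 3], by decide⟩ := ⟨_, rfl⟩
  have ea : a4 = emb f1 a3 := by
    refine ext_emb (ι := f1) (fun i => ?_) (fun x hx => ?_) (emb_supp _ _)
    · rw [emb_apply, hf1]; revert i; decide
    · simp only [mem_pts, hf1] at hx; revert x; decide
  have eb : b4 = emb f2 a3 := by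
    refine ext_emb (ι := f2) (fun i => ?_) (fun x hx => ?_) (emb_supp _ _)
    · rw [emb_apply, hf2]; revert i; decide
    · simp only [mem_pts, hf2] at hx; revert x; decide
  obtain ⟨Z, hZ⟩ : ∃ Z : (Fin 4 ↪ Fin r) → G, Z = fun q => (X (f1.trans q) * X (f2.trans q)) ^ 2 := ⟨_, rfl⟩
  have hZker : ∀ q, π (Z q) = 1 := fun q => by
    rw [hZ, map_pow, map_mul, (hX _).1, (hX _).1, ← emb_trans, ← emb_trans, ← map_mul, ← ea, ← eb, ← map_pow,
      show (a4 * b4) ^ 2 = 1 from Subtype.ext (by decide), map_one]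
  have hZconst : ∀ q q', Z q = Z q' := by
    intro q q'
    obtain ⟨g0, hg0⟩ := exists_map (r := r) (by omega) q q'
    obtain ⟨g, rfl⟩ := h.surj g0
    have e : g * Z q * g⁻¹ = Z q' := by
      rw [hZ]; simp only
      rw [← conj_pow, ← conj_mul, hequi g (f1.trans q) (f1.trans q') (fun i => hg0 (f1 i)),
        hequi g (f2.trans q) (f2.trans q') (fun i => hg0 (f2 i))]
    rwa [← h.cent _ (hZker q), mul_inv_cancel_right] at e
  obtain ⟨q0, -⟩ := exists_pts (k := 4) (S := (Finset.univ : Finset (Fin r))) (by simp; omega)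
  -- the reversed quadruple
  have hrev : Z q0 = (Z q0)⁻¹ := by
    obtain ⟨sw, hsw⟩ : ∃ sw : Fin 4 ↪ Fin 4, sw = ⟨![1, 0, 3, 2], by decide⟩ := ⟨_, rfl⟩
    have r1 : ∀ (f : Fin 3 ↪ Fin r) (f' : Fin 3 ↪ Fin r), emb f' a3 = (emb f a3)⁻¹ → X f' = (X f)⁻¹ := by
      intro f f' e
      refine h.good_unique (hX f') ⟨by rw [map_inv, (hX f).1, e], by rw [inv_pow, (hX f).2.1, inv_one],
        fun t ht => ?_⟩
      rw [e, inv_inv] at ht
      have h1 : π t * emb f a3 = (emb f a3)⁻¹ * π t := by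
        rw [eq_inv_mul_iff_mul_eq, ← mul_assoc, ← ht]
        rw [mul_assoc (π t), inv_mul_cancel, mul_one]
      rw [← conj_inv, (hX f).2.2 t h1]
    have g1 : emb (f1.trans sw) a3 = (emb f2 a3)⁻¹ := by
      rw [← map_inv]
      refine ext_emb (ι := f1.trans sw) (fun i => ?_) (emb_supp _ _) ((emb_supp f2 a3⁻¹).mono fun x hx => ?_)
      · rw [emb_apply]
        have : (f1.trans sw) i = f2 (![1, 0, 2] i) := by rw [hf1, hf2, hsw]; revert i; decide
        rw [this, emb_apply]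
        clear this
        rw [hf1, hf2, hsw]; revert i; decide
      · simp only [mem_pts, hf1, hf2, hsw] at hx ⊢; revert x; decide
    have g2 : emb (f2.trans sw) a3 = (emb f1 a3)⁻¹ := by
      rw [← map_inv]
      refine ext_emb (ι := f2.trans sw) (fun i => ?_) (emb_supp _ _) ((emb_supp f1 a3⁻¹).mono fun x hx => ?_)
      · rw [emb_apply]
        have : (f2.trans sw) i = f1 (![1, 0, 2] i) := by rw [hf1, hf2, hsw]; revert i; decide
        rw [this, emb_apply]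
        clear this
        rw [hf1, hf2, hsw]; revert i; decide
      · simp only [mem_pts, hf1, hf2, hsw] at hx ⊢; revert x; decide
    calc Z q0 = Z (sw.trans q0) := hZconst _ _
      _ = ((X (f2.trans q0))⁻¹ * (X (f1.trans q0))⁻¹) ^ 2 := by
          rw [hZ]; simp only
          rw [r1 (f2.trans q0) (f1.trans (sw.trans q0)) (by
              rw [show f1.trans (sw.trans q0) = (f1.trans sw).trans q0 from rfl, ← emb_trans, g1, map_inv,
                emb_trans]),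
            r1 (f1.trans q0) (f2.trans (sw.trans q0)) (by
              rw [show f2.trans (sw.trans q0) = (f2.trans sw).trans q0 from rfl, ← emb_trans, g2, map_inv,
                emb_trans])]
      _ = (Z q0)⁻¹ := by rw [hZ]; simp only; rw [← mul_inv_rev, inv_pow]
  obtain ⟨ζ, hζ⟩ : ∃ ζ, ζ = Z q0 := ⟨_, rfl⟩
  have hζc : π ζ = 1 := hζ ▸ hZker q0
  have hζ2 : ζ * ζ = 1 := by rw [hζ]; exact mul_eq_one_iff_eq_inv.2 hrev
  refine ⟨ζ, hζc, hζ2, ?_⟩
  -- generators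
  obtain ⟨oa, hoa⟩ : ∃ a : Fin r, (a : ℕ) = 0 := ⟨⟨0, by omega⟩, rfl⟩
  obtain ⟨ob, hob⟩ : ∃ a : Fin r, (a : ℕ) = 1 := ⟨⟨1, by omega⟩, rfl⟩
  have hab : oa ≠ ob := fun e => by rw [e, hob] at hoa; omega
  obtain ⟨T, hT⟩ : ∃ T : (i : Fin r) → oa ≠ i → ob ≠ i → G, T = fun i h1 h2 => X (three oa ob i hab h2 h1) :=
    ⟨_, rfl⟩
  obtain ⟨x, hx⟩ : ∃ x : ℕ → G, x = fun n => if hn : n + 2 < r then
      T ⟨n + 2, hn⟩ (fun e => by rw [e] at hoa; simp at hoa) (fun e => by rw [e] at hob; simp at hob) else 1 :=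
    ⟨_, rfl⟩
  have hxX : ∀ n, (hn : n + 2 < r) → ∀ (p1 : oa ≠ ⟨n + 2, hn⟩) (p2 : ob ≠ ⟨n + 2, hn⟩),
      x n = X (three oa ob ⟨n + 2, hn⟩ hab p2 p1) := fun n hn p1 p2 => by rw [hx, hT]; simp [hn]
  obtain ⟨U, hU⟩ : ∃ U, U = Subgroup.closure (x '' {i | i ≤ r - 3}) := ⟨_, rfl⟩
  have hgen : ∀ (i : Fin r) (h1 : oa ≠ i) (h2 : ob ≠ i), cyc oa ob i hab h2 h1 ∈ U.map π := by
    intro i h1 h2
    have hi : 2 ≤ (i : ℕ) := by
      by_contra hlt
      rcases (show (i : ℕ) = 0 ∨ (i : ℕ) = 1 by omega) with e | e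
      · exact h1 (Fin.ext (hoa.trans e.symm))
      · exact h2 (Fin.ext (hob.trans e.symm))
    obtain ⟨n, hn⟩ : ∃ n, (i : ℕ) = n + 2 := ⟨i - 2, by omega⟩
    obtain ⟨iv, hiv⟩ := i
    simp only at hn
    subst hn
    exact ⟨x n, hU ▸ Subgroup.subset_closure ⟨n, by simp; omega, rfl⟩,
      by rw [hxX n _ h1 h2]; exact (hX _).1⟩
  have hUtop : U.map π = ⊤ := by
    obtain ⟨N, hN⟩ : ∃ N, N = U.map π := ⟨_, rfl⟩
    rw [← hN] at hgen ⊢
    have conj : ∀ {g : A r} {a b c : Fin r} {p1 : a ≠ b} {p2 : b ≠ c} {p3 : a ≠ c}, g ∈ N →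
        cyc a b c p1 p2 p3 ∈ N → ∀ {a' b' c' : Fin r} {q1 : a' ≠ b'} {q2 : b' ≠ c'} {q3 : a' ≠ c'},
        (g : Equiv.Perm (Fin r)) a = a' → (g : Equiv.Perm (Fin r)) b = b' → (g : Equiv.Perm (Fin r)) c = c' →
        cyc a' b' c' q1 q2 q3 ∈ N := by
      intro g a b c p1 p2 p3 hg hc a' b' c' q1 q2 q3 e1 e2 e3
      subst e1 e2 e3
      exact conj_cyc g p1 p2 p3 ▸ N.mul_mem (N.mul_mem hg hc) (N.inv_mem hg)
    have rot : ∀ {a b c : Fin r} (p1 : a ≠ b) (p2 : b ≠ c) (p3 : a ≠ c),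
        cyc b c a p2 p3.symm p1.symm = cyc a b c p1 p2 p3 := by
      intro a b c p1 p2 p3
      obtain ⟨a1, a2, a3'⟩ := cyc_apply p1 p2 p3
      obtain ⟨b1, b2, b3⟩ := cyc_apply p2 p3.symm p1.symm
      refine ext_emb (ι := three a b c p1 p2 p3) (fun i => ?_)
        ((cyc_supp p2 p3.symm p1.symm).mono fun z hz => ?_) (emb_supp _ _)
      · fin_cases i
        exacts [b3.trans a1.symm, b1.trans a2.symm, b2.trans a3'.symm]
      · rw [pts_three]; simp only [Finset.mem_insert, Finset.mem_singleton] at hz ⊢; tauto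
    -- cycles through a base point
    have hbij : ∀ i j (h1 : oa ≠ i) (h2 : ob ≠ i) (h3 : oa ≠ j) (h4 : ob ≠ j) (hij : i ≠ j),
        cyc ob i j h2 hij h4 ∈ N ∧ cyc i oa j h1.symm h3 hij ∈ N := by
      intro i j h1 h2 h3 h4 hij
      have G1 := hgen i h1 h2
      obtain ⟨a1, a2, a3'⟩ := cyc_apply hab h2 h1
      have hj : (cyc oa ob i hab h2 h1 : Equiv.Perm (Fin r)) j = j := cyc_supp _ _ _ j (by
        simp only [Finset.mem_insert, Finset.mem_singleton, not_or]; exact ⟨h3.symm, h4.symm, hij.symm⟩)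
      have q := conj G1 (hgen j h3 h4) (q1 := h2) (q2 := hij) (q3 := h4) a1 a2 hj
      exact ⟨q, conj G1 q (q1 := h1.symm) (q2 := h3) (q3 := hij) a2 a3' hj⟩
    have hijk : ∀ i j k (h1 : oa ≠ i) (h2 : ob ≠ i) (h3 : oa ≠ j) (h4 : ob ≠ j) (h5 : oa ≠ k) (h6 : ob ≠ k)
        (hij : i ≠ j) (hjk : j ≠ k) (hik : i ≠ k), cyc i j k hij hjk hik ∈ N := by
      intro i j k h1 h2 h3 h4 h5 h6 hij hjk hik
      obtain ⟨a1, a2, a3'⟩ := cyc_apply hab h6 h5
      have hfx : ∀ z, oa ≠ z → ob ≠ z → z ≠ k → (cyc oa ob k hab h6 h5 : Equiv.Perm (Fin r)) z = z :=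
        fun z p q s => cyc_supp _ _ _ z (by
          simp only [Finset.mem_insert, Finset.mem_singleton, not_or]; exact ⟨p.symm, q.symm, s⟩)
      have q := conj (hgen k h5 h6) (hbij i j h1 h2 h3 h4 hij).1 (q1 := hik.symm) (q2 := hij) (q3 := hjk.symm)
        a2 (hfx i h1 h2 hik) (hfx j h3 h4 hjk)
      rw [← rot hik.symm hij hjk.symm] at q
      exact q
    have inv_cyc : ∀ {a b c : Fin r} (p1 : a ≠ b) (p2 : b ≠ c) (p3 : a ≠ c),
        cyc a b c p1 p2 p3 ∈ N → cyc b a c p1.symm p3 p2 ∈ N := by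
      intro a b c p1 p2 p3 hm
      have e : cyc b a c p1.symm p3 p2 = (cyc a b c p1 p2 p3)⁻¹ := by
        refine eq_inv_of_mul_eq_one_left (ext_emb (ι := three a b c p1 p2 p3) (fun i => ?_) (fun z hz => ?_)
          (fun z _ => rfl))
        · obtain ⟨a1, a2, a3'⟩ := cyc_apply p1 p2 p3
          obtain ⟨b1, b2, b3⟩ := cyc_apply p1.symm p3 p2
          fin_cases i
          · show (cyc b a c p1.symm p3 p2 : Equiv.Perm (Fin r)) ((cyc a b c p1 p2 p3 : Equiv.Perm (Fin r)) a) = a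
            rw [a1, b1]
          · show (cyc b a c p1.symm p3 p2 : Equiv.Perm (Fin r)) ((cyc a b c p1 p2 p3 : Equiv.Perm (Fin r)) b) = b
            rw [a2, b3]
          · show (cyc b a c p1.symm p3 p2 : Equiv.Perm (Fin r)) ((cyc a b c p1 p2 p3 : Equiv.Perm (Fin r)) c) = c
            rw [a3', b2]
        · show (cyc b a c p1.symm p3 p2 : Equiv.Perm (Fin r)) ((cyc a b c p1 p2 p3 : Equiv.Perm (Fin r)) z) = z
          rw [pts_three] at hz
          rw [cyc_supp p1 p2 p3 z hz, cyc_supp p1.symm p3 p2 z (by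
            simp only [Finset.mem_insert, Finset.mem_singleton] at hz ⊢; tauto)]
      rw [e]; exact N.inv_mem hm
    refine eq_top_of_cyc N fun p q s hpq hqs hps => ?_
    -- first the triples starting at the first base point
    have first : ∀ q s (hq : oa ≠ q) (hqs : q ≠ s) (hs : oa ≠ s), cyc oa q s hq hqs hs ∈ N := by
      intro q s hq hqs hs
      by_cases hqb : ob = q
      · subst hqb; exact hgen s hs hqs
      by_cases hsb : ob = s
      · subst hsb
        have := inv_cyc hab hqb hq (hgen q hq hqb)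
        rw [rot hab.symm hq hqb]
        exact this
      · have := inv_cyc _ _ _ (hbij q s hq hqb hs hsb hqs).2
        exact this
    by_cases hp : oa = p
    · subst hp; exact first q s hpq hqs hps
    by_cases hq : oa = q
    · subst hq
      rw [← rot hpq hqs hps]
      exact first s p hqs hps.symm hpq.symm
    by_cases hs : oa = s
    · subst hs
      rw [← rot hpq hqs hps, ← rot hqs hps.symm hpq.symm]
      exact first p q hps.symm hpq hqs.symm
    by_cases hpb : ob = p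
    · subst hpb; exact (hbij q s hq hpq hs hps hqs).1
    by_cases hqb : ob = q
    · subst hqb
      rw [← rot hpq hqs hps]
      exact (hbij s p hs hqs hp hpb hps.symm).1
    by_cases hsb : ob = s
    · subst hsb
      rw [← rot hpq hqs hps, ← rot hqs hps.symm hpq.symm]
      exact (hbij p q hp hpb hq hqb hpq).1
    exact hijk p q s hp hpb hq hqb hs hsb hpq hqs hps
  have hUG : U = ⊤ := by
    rw [eq_top_iff, ← hperf, commutator_eq_closure, Subgroup.closure_le]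
    rintro _ ⟨a, b, rfl⟩
    obtain ⟨a', ha', ea'⟩ : π a ∈ U.map π := hUtop ▸ Subgroup.mem_top _
    obtain ⟨b', hb', eb'⟩ : π b ∈ U.map π := hUtop ▸ Subgroup.mem_top _
    obtain ⟨za, hza, rfl⟩ : ∃ z, π z = 1 ∧ a = a' * z :=
      ⟨a'⁻¹ * a, by rw [map_mul, map_inv, ea', inv_mul_cancel], by rw [mul_inv_cancel_left]⟩
    obtain ⟨zb, hzb, rfl⟩ : ∃ z, π z = 1 ∧ b = b' * z :=
      ⟨b'⁻¹ * b, by rw [map_mul, map_inv, eb', inv_mul_cancel], by rw [mul_inv_cancel_left]⟩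
    have : ⁅a' * za, b' * zb⁆ = ⁅a', b'⁆ := by
      rw [commutatorElement_def, commutatorElement_def]
      calc a' * za * (b' * zb) * (a' * za)⁻¹ * (b' * zb)⁻¹
          = a' * (za * b') * zb * za⁻¹ * a'⁻¹ * zb⁻¹ * b'⁻¹ := by group
        _ = a' * (b' * za) * zb * za⁻¹ * a'⁻¹ * zb⁻¹ * b'⁻¹ := by rw [h.cent za hza b']
        _ = a' * b' * (za * zb * za⁻¹) * a'⁻¹ * zb⁻¹ * b'⁻¹ := by group
        _ = a' * b' * (zb * a'⁻¹) * zb⁻¹ * b'⁻¹ := by
            rw [h.cent za hza zb, mul_inv_cancel_right]; group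
        _ = a' * b' * (a'⁻¹ * zb) * zb⁻¹ * b'⁻¹ := by rw [h.cent zb hzb a'⁻¹]
        _ = a' * b' * a'⁻¹ * b'⁻¹ := by group
    rw [this, commutatorElement_def]
    exact U.mul_mem (U.mul_mem (U.mul_mem ha' hb') (U.inv_mem ha')) (U.inv_mem hb')
  haveI : (Subgroup.zpowers ζ).Normal := ⟨fun y hy g => by
    obtain ⟨m, rfl⟩ := Subgroup.mem_zpowers_iff.1 hy
    rw [← h.cent _ (by rw [map_zpow, hζc, one_zpow]) g, mul_inv_cancel_right]
    exact Subgroup.zpow_mem _ (Subgroup.mem_zpowers ζ) m⟩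
  obtain ⟨mk, hmk⟩ : ∃ mk : G →* G ⧸ Subgroup.zpowers ζ, mk = QuotientGroup.mk' _ := ⟨_, rfl⟩
  have hclo : Subgroup.closure ((fun i => mk (x i)) '' {i | i ≤ r - 3}) = ⊤ := by
    have e : (U.map mk) = ⊤ := by
      rw [hUG, Subgroup.map_top_of_surjective mk (hmk ▸ QuotientGroup.mk'_surjective _)]
    rw [← e, hU, MonoidHom.map_closure, Set.image_image]
  have hcar := carmichael (fun i => mk (x i)) (r - 3) (fun i hi => by
      show mk (x i) ^ 3 = 1
      rw [← map_pow, hxX i (by omega) (fun e => by rw [e] at hoa; simp at hoa) (fun e => by rw [e] at hob; simp at hob),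
        (hX _).2.1, map_one])
    (fun i j hi hj hij => by
      show (mk (x i) * mk (x j)) ^ 2 = 1
      have pa : ∀ n (hn : n + 2 < r), oa ≠ ⟨n + 2, hn⟩ ∧ ob ≠ ⟨n + 2, hn⟩ := fun n hn =>
        ⟨fun e => by rw [e] at hoa; simp at hoa, fun e => by rw [e] at hob; simp at hob⟩
      obtain ⟨i1, i2⟩ := pa i (by omega)
      obtain ⟨j1, j2⟩ := pa j (by omega)
      obtain ⟨q, hq⟩ : ∃ q : Fin 4 ↪ Fin r, q = ⟨![oa, ob, ⟨i + 2, by omega⟩, ⟨j + 2, by omega⟩], by
          intro a b e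
          have e' := congrArg Fin.val e
          fin_cases a <;> fin_cases b <;> simp [hoa, hob] at e' ⊢ <;> omega⟩ := ⟨_, rfl⟩
      have e1 : x i = X (f1.trans q) := by
        rw [hxX i (by omega) i1 i2]; congr 1; ext t; rw [hf1, hq]; fin_cases t <;> rfl
      have e2 : x j = X (f2.trans q) := by
        rw [hxX j (by omega) j1 j2]; congr 1; ext t; rw [hf2, hq]; fin_cases t <;> rfl
      rw [← map_mul, ← map_pow, e1, e2, show (X (f1.trans q) * X (f2.trans q)) ^ 2 = ζ by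
        rw [hζ, ← hZconst q q0, hZ], hmk, QuotientGroup.mk'_apply, QuotientGroup.eq_one_iff]
      exact Subgroup.mem_zpowers ζ)
  rw [hclo, Subgroup.card_top, show r - 3 + 3 = r by omega] at hcar
  have hA : 2 * Nat.card (A r) = r.factorial := by
    haveI : Nontrivial (Fin r) := Fin.nontrivial_iff_two_le.2 (by omega)
    rw [Nat.card_eq_fintype_card, two_mul_card_alternatingGroup, Fintype.card_perm, Fintype.card_fin]
  have hkey : ∀ z, π z = 1 → z = 1 ∨ z = ζ := by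
    obtain ⟨pb, hpb⟩ : ∃ pb : G ⧸ Subgroup.zpowers ζ →* A r, ∀ g : G, pb g = π g :=
      ⟨QuotientGroup.lift _ π ((Subgroup.zpowers_le).2 hζc), fun g => rfl⟩
    have hsurj : Function.Surjective pb := fun a => by
      obtain ⟨g, hg⟩ := h.surj a
      exact ⟨g, by rw [hpb, hg]⟩
    have hbij := Nat.bijective_iff_surjective_and_card pb |>.2 ⟨hsurj,
      le_antisymm (by omega) (Nat.card_le_card_of_surjective pb hsurj)⟩
    intro z hz
    have hm : z ∈ Subgroup.zpowers ζ := by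
      rw [← QuotientGroup.eq_one_iff]
      exact hbij.1 (by rw [map_one, hpb, hz])
    obtain ⟨m, rfl⟩ := Subgroup.mem_zpowers_iff.1 hm
    rcases Int.even_or_odd m with ⟨k, rfl⟩ | ⟨k, rfl⟩
    · left
      rw [← two_mul, zpow_mul, show (2 : ℤ) = ((2 : ℕ) : ℤ) from rfl, zpow_natCast, pow_two, hζ2, one_zpow]
    · right
      rw [zpow_add, zpow_mul, show (2 : ℤ) = ((2 : ℕ) : ℤ) from rfl, zpow_natCast, pow_two, hζ2, one_zpow, one_mul,
        zpow_one]
  refine ⟨hkey, fun hne ι g k hg hk hg3 hk3 => ?_⟩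
  have uniq : ∀ (f : Fin 3 ↪ Fin r) (y : G), π y = emb f a3 → y ^ 3 = 1 → y = X f := by
    intro f y hy hy3
    have hz : π ((X f)⁻¹ * y) = 1 := by rw [map_mul, map_inv, (hX f).1, hy, inv_mul_cancel]
    rcases hkey _ hz with e | e
    · exact (inv_mul_eq_one.1 e).symm
    · exfalso
      have e' : y = X f * ζ := by rw [← e, mul_inv_cancel_left]
      rw [e', (show Commute (X f) ζ from (h.cent ζ hζc (X f)).symm).mul_pow, (hX f).2.1, one_mul, pow_succ,
        pow_two, hζ2, one_mul] at hy3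
      exact hne hy3
  rw [uniq (f1.trans ι) g (by rw [hg, ea, emb_trans]) hg3, uniq (f2.trans ι) k (by rw [hk, eb, emb_trans]) hk3,
    hζ, ← hZconst ι q0, hZ]

end Cfsg.Agent.Small.AltDeg
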