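import Cfsg.Agent.Lib.Small.AltDeg.Weight
import Mathlib.GroupTheory.Perm.Cycle.Type
import Mathlib.FieldTheory.Finiteness

/-!
A non-scalar nilpotent kernel gives a much smaller linear representation over a prime field.
-/

set_option autoImplicit false
set_option linter.unusedSectionVars false
set_option linter.unusedVariables false
set_option linter.style.haveILetI false

namespace Cfsg.Agent.Small.AltDeg

open Module

variable {K : Type*} [Field K] {V : Type*} [AddCommGroup V] [Module K V] [FiniteDimensional K V]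
variable {G : Type*} [Group G] [Finite G] {r : ℕ} {ρ : G →* (End K V)ˣ} {π : G →* A r}

theorem scal_comm (hinj : Function.Injective ρ) {z : G} (hz : z ∈ scal ρ) (g : G) : z * g = g * z := by
  obtain ⟨c, hc⟩ := hz
  refine hinj ?_
  rw [map_mul, map_mul, ← hc]
  exact Units.ext (Algebra.commutes (c : K) ((ρ g : End K V)))

instance scal_normal [hinj : Fact (Function.Injective ρ)] : (scal ρ).Normal :=
  ⟨fun z hz g => by rwa [← scal_comm hinj.out hz g, mul_inv_cancel_right]⟩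

/-- A normal subgroup of class two with elementary abelian quotient. -/
theorem Red.exists_two [IsAlgClosed K] (h : Red ρ π) (hnil : Group.IsNilpotent ↥π.ker)
    (hnc : ¬ π.ker ≤ scal ρ) :
    ∃ (N : Subgroup G) (q : ℕ), q.Prime ∧ N.Normal ∧ N ≤ π.ker ∧ ¬ N ≤ scal ρ ∧
      (∀ x ∈ N, ∀ y ∈ N, x * y * x⁻¹ * y⁻¹ ∈ scal ρ) ∧ ∀ x ∈ N, x ^ q ∈ scal ρ := by
  classical
  haveI := h.nontrivial
  haveI : Fact (Function.Injective ρ) := ⟨h.inj⟩
  haveI : Finite (Subgroup G) := Finite.of_injective (fun H : Subgroup G => (H : Set G)) SetLike.coe_injective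
  obtain ⟨N, ⟨hNn, hNk, hNs⟩, hmin⟩ := wellFounded_lt.has_min
    {N : Subgroup G | N.Normal ∧ N ≤ π.ker ∧ ¬ N ≤ scal ρ} ⟨π.ker, inferInstance, le_rfl, hnc⟩
  haveI := hNn
  have hle : ∀ M : Subgroup G, M.Normal → M ≤ N → M = N ∨ M ≤ scal ρ := fun M hMn hM => by
    by_contra hcon
    rw [not_or] at hcon
    exact hmin M ⟨hMn, hM.trans hNk, hcon.2⟩ (lt_of_le_of_ne hM hcon.1)
  have hcomm : ⁅N, N⁆ ≤ scal ρ := by
    refine (hle _ inferInstance N.commutator_le_self).resolve_left fun e => ?_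
    haveI : Group.IsNilpotent ↥π.ker := hnil
    haveI : Group.IsNilpotent ↥N := (Group.isNilpotent_congr (Subgroup.subgroupOfEquivOfLe hNk)).1 inferInstance
    haveI : Nontrivial ↥N := (Subgroup.nontrivial_iff_ne_bot N).2 fun e' => hNs (e' ▸ bot_le)
    refine (Group.IsSolvable.commutator_lt_top_of_nontrivial (G := ↥N)).ne ?_
    refine Subgroup.map_injective N.subtype_injective ?_
    rw [N.map_subtype_commutator, e, ← MonoidHom.range_eq_map, N.range_subtype]
  have hcl : ∀ x ∈ N, ∀ y ∈ N, x * y * x⁻¹ * y⁻¹ ∈ scal ρ := fun x hx y hy =>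
    hcomm (Subgroup.commutator_mem_commutator hx hy)
  obtain ⟨Zn, hZn⟩ : ∃ Zn, Zn = (scal ρ).subgroupOf N := ⟨_, rfl⟩
  haveI : Zn.Normal := hZn ▸ inferInstance
  haveI : Nontrivial (↥N ⧸ Zn) := by
    rw [QuotientGroup.nontrivial_iff, hZn]
    exact fun e => hNs (Subgroup.subgroupOf_eq_top.1 e)
  obtain ⟨q, hq, hqd⟩ := Nat.exists_prime_and_dvd (Finite.one_lt_card (α := ↥N ⧸ Zn)).ne'
  haveI := Fact.mk hq
  obtain ⟨a, ha⟩ := exists_prime_orderOf_dvd_card' q hqd
  have hmk : ∀ x : ↥N, (QuotientGroup.mk x : ↥N ⧸ Zn) = 1 ↔ (x : G) ∈ scal ρ := fun x => by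
    rw [QuotientGroup.eq_one_iff, hZn, Subgroup.mem_subgroupOf]
  have hab : ∀ u v : ↥N ⧸ Zn, Commute u v := fun u v => by
    induction u using QuotientGroup.induction_on
    induction v using QuotientGroup.induction_on
    rename_i x y
    rw [commute_iff_eq, ← mul_inv_eq_iff_eq_mul, ← mul_inv_eq_one]
    exact (hmk (x * y * x⁻¹ * y⁻¹)).2 (hcl x x.2 y y.2)
  let M : Subgroup G :=
    { carrier := {g | ∃ hg : g ∈ N, (QuotientGroup.mk (⟨g, hg⟩ : ↥N) : ↥N ⧸ Zn) ^ q = 1}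
      one_mem' := ⟨N.one_mem, by
        show (QuotientGroup.mk (1 : ↥N) : ↥N ⧸ Zn) ^ q = 1
        rw [QuotientGroup.mk_one, one_pow]⟩
      mul_mem' := fun {x y} hx hy => ⟨N.mul_mem hx.1 hy.1, by
        show (QuotientGroup.mk ((⟨x, hx.1⟩ : ↥N) * ⟨y, hy.1⟩) : ↥N ⧸ Zn) ^ q = 1
        rw [QuotientGroup.mk_mul, (hab _ _).mul_pow, hx.2, hy.2, one_mul]⟩
      inv_mem' := fun {x} hx => ⟨N.inv_mem hx.1, by
        show (QuotientGroup.mk ((⟨x, hx.1⟩ : ↥N)⁻¹) : ↥N ⧸ Zn) ^ q = 1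
        rw [QuotientGroup.mk_inv, inv_pow, hx.2, inv_one]⟩ }
  have hM : ∀ g, g ∈ M ↔ g ∈ N ∧ g ^ q ∈ scal ρ := fun g => by
    constructor
    · rintro ⟨hg, e⟩
      rw [← QuotientGroup.mk_pow, hmk] at e
      exact ⟨hg, e⟩
    · rintro ⟨hg, e⟩
      exact ⟨hg, by rw [← QuotientGroup.mk_pow, hmk]; exact e⟩
  have hMn : M.Normal := ⟨fun x hx g => by
    rw [hM] at hx ⊢
    refine ⟨hNn.conj_mem _ hx.1 g, ?_⟩
    rw [conj_pow]
    exact (scal_normal (ρ := ρ)).conj_mem _ hx.2 g⟩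
  have hMN : M = N := by
    refine (hle M hMn fun g hg => ((hM g).1 hg).1).resolve_right fun hle' => ?_
    induction a using QuotientGroup.induction_on
    rename_i x
    have hx : (x : G) ∈ M := ⟨x.2, by
      show (QuotientGroup.mk x : ↥N ⧸ Zn) ^ q = 1
      rw [← ha]; exact pow_orderOf_eq_one _⟩
    rw [(hmk x).2 (hle' hx), orderOf_one] at ha
    exact hq.one_lt.ne ha
  exact ⟨N, q, hq, hNn, hNk, hNs, hcl, fun x hx => ((hM x).1 (hMN ▸ hx)).2⟩

/-- The quotient of such a subgroup is at most the square of the dimension. -/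
theorem Red.quot_card [IsAlgClosed K] (h : Red ρ π) (N : Subgroup G) [N.Normal] (hN : N ≤ π.ker)
    (hcl : ∀ x ∈ N, ∀ y ∈ N, x * y * x⁻¹ * y⁻¹ ∈ scal ρ) :
    Nat.card (↥N ⧸ (scal ρ).subgroupOf N) ≤ finrank K V ^ 2 := by
  classical
  haveI := h.nontrivial
  haveI : Fact (Function.Injective ρ) := ⟨h.inj⟩
  obtain ⟨f, hf⟩ : ∃ f : ↥N → End K (End K V), ∀ y T, f y T = (ρ (y : G) : End K V) * T * (ρ (y : G)⁻¹ : End K V) :=
    ⟨fun y => (LinearMap.mulLeft K (ρ (y : G) : End K V)).comp (LinearMap.mulRight K (ρ (y : G)⁻¹ : End K V)),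
      fun y T => (mul_assoc _ _ _).symm⟩
  have hc : ∀ i j, Commute (f i) (f j) := fun i j => LinearMap.ext fun T => by
    obtain ⟨z, hz, hij⟩ : ∃ z, z ∈ scal ρ ∧ (i : G) * j = z * ((j : G) * i) :=
      ⟨_, hcl i i.2 j j.2, by group⟩
    obtain ⟨c, hcz⟩ := hz
    have e1 : f i (f j T) = (ρ ((i : G) * j) : End K V) * T * (ρ ((i : G) * j)⁻¹ : End K V) := by
      rw [hf, hf, mul_inv_rev, map_mul, map_mul, Units.val_mul, Units.val_mul]; simp only [mul_assoc]
    have e2 : f j (f i T) = (ρ ((j : G) * i) : End K V) * T * (ρ ((j : G) * i)⁻¹ : End K V) := by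
      rw [hf, hf, mul_inv_rev, map_mul, map_mul, Units.val_mul, Units.val_mul]; simp only [mul_assoc]
    obtain ⟨Y, hY⟩ : ∃ Y, Y = (j : G) * i := ⟨_, rfl⟩
    rw [← hY] at hij e2
    rw [End.mul_apply, End.mul_apply, e1, e2, hij, mul_inv_rev, map_mul, map_mul ρ Y⁻¹, map_inv ρ z,
      ← hcz, Units.val_mul, Units.val_mul]
    generalize (ρ Y : End K V) = P
    generalize (ρ Y⁻¹ : End K V) = P'
    have a1 := Algebra.commutes (c : K) (P * T * P')
    show algebraMap K (End K V) c * P * T * (P' * algebraMap K (End K V) ↑c⁻¹) = P * T * P'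
    rw [show algebraMap K (End K V) c * P * T * (P' * algebraMap K (End K V) ↑c⁻¹)
      = (algebraMap K (End K V) c * (P * T * P')) * algebraMap K (End K V) ↑c⁻¹ by simp only [mul_assoc],
      a1, mul_assoc, ← map_mul, Units.mul_inv, map_one, mul_one]
  have hscal : ∀ (x : ↥N) (y : ↥N), ∃ c : K, f y (ρ (x : G) : End K V) = c • (ρ (x : G) : End K V) ∧
      ∀ v, (ρ ((y : G) * x * (y : G)⁻¹ * (x : G)⁻¹) : End K V) v = c • v := fun x y => by
    obtain ⟨c, hcc⟩ := mem_scal.1 (hcl y y.2 x x.2)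
    refine ⟨c, LinearMap.ext fun v => ?_, hcc⟩
    rw [hf, ← Units.val_mul, ← Units.val_mul, ← map_mul, ← map_mul,
      show (y : G) * x * (y : G)⁻¹ = ((y : G) * x * (y : G)⁻¹ * (x : G)⁻¹) * x by group, map_mul,
      Units.val_mul, End.mul_apply, hcc]
    rfl
  choose χ hχ hχ' using hscal
  let rep : (↥N ⧸ (scal ρ).subgroupOf N) → ↥N := Quotient.out
  have hinj : Function.Injective fun u => χ (rep u) := by
    intro u u' e
    simp only at e
    obtain ⟨x, hx⟩ : ∃ x, x = rep u := ⟨_, rfl⟩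
    obtain ⟨x', hx'⟩ : ∃ x', x' = rep u' := ⟨_, rfl⟩
    rw [← hx, ← hx'] at e
    let C : Subgroup G := N ⊓ Subgroup.centralizer (N : Set G)
    haveI : C.Normal := inferInstance
    have hC : C ≤ scal ρ := h.abelian_scal C (inf_le_left.trans hN) fun a ha b hb =>
      (Subgroup.mem_centralizer_iff.1 hb.2 a ha.1)
    have hmem : (x : G)⁻¹ * x' ∈ C := by
      refine ⟨N.mul_mem (N.inv_mem x.2) x'.2, Subgroup.mem_centralizer_iff.2 fun y hy => ?_⟩
      have e1 : y * x * y⁻¹ * (x : G)⁻¹ = y * x' * y⁻¹ * (x' : G)⁻¹ :=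
        h.inj (Units.ext (LinearMap.ext fun v => by rw [hχ' x ⟨y, hy⟩ v, hχ' x' ⟨y, hy⟩ v, e]))
      calc y * ((x : G)⁻¹ * x') = (y * (x : G)⁻¹ * y⁻¹) * (y * x' * y⁻¹ * (x' : G)⁻¹) * x' * y := by group
        _ = _ := by rw [← e1]; group
    have : (QuotientGroup.mk x : ↥N ⧸ (scal ρ).subgroupOf N) = QuotientGroup.mk x' := by
      rw [QuotientGroup.eq, Subgroup.mem_subgroupOf]
      exact hC hmem
    rw [hx, hx', QuotientGroup.out_eq', QuotientGroup.out_eq'] at this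
    exact this
  have hv' : ∀ u, ((ρ (rep u : G) : End K V)) ≠ 0 := fun u => (ρ (rep u : G)).ne_zero
  obtain ⟨-, hcard⟩ := wt_card f hc (fun u => χ (rep u)) hinj (fun u => (ρ (rep u : G) : End K V))
    (fun u => mem_wt.2 fun y => hχ (rep u) y) hv'
  rwa [Module.finrank_linearMap, ← pow_two] at hcard

/-- An action on an elementary abelian group as a group of matrices. -/
theorem linearize {B A : Type*} [Group B] [CommGroup A] [Finite A] (q : ℕ) (hq : q.Prime) (hA : ∀ a : A, a ^ q = 1)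
    (α : B → (A →* A)) (h1 : ∀ a, α 1 a = a) (hm : ∀ g k a, α (g * k) a = α g (α k a)) :
    ∃ (d : ℕ) (τ : B →* (Matrix (Fin d) (Fin d) (ZMod q))ˣ), Nat.card A = q ^ d ∧
      ∀ g, τ g = 1 → ∀ a, α g a = a := by
  obtain ⟨instM⟩ : Nonempty (Module (ZMod q) (Additive A)) := ⟨AddCommGroup.zmodModule fun u => hA u.toMul⟩
  letI := instM
  haveI : Module.Finite (ZMod q) (Additive A) := Module.Finite.of_finite
  let L : B →* Module.End (ZMod q) (Additive A) :=
    { toFun := fun g => (MonoidHom.toAdditive (α g)).toZModLinearMap q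
      map_one' := LinearMap.ext fun u => h1 u.toMul
      map_mul' := fun g k => LinearMap.ext fun u => hm g k u.toMul }
  obtain ⟨d, ⟨b⟩⟩ : ∃ d, Nonempty (Basis (Fin d) (ZMod q) (Additive A)) := by
    haveI := Fact.mk hq
    exact ⟨_, ⟨Module.finBasis (ZMod q) (Additive A)⟩⟩
  refine ⟨d, ((LinearMap.toMatrixAlgEquiv b).toMulEquiv.toMonoidHom.comp L).toHomUnits, ?_, fun g hg a => ?_⟩
  · haveI : NeZero q := ⟨hq.ne_zero⟩
    have e := Nat.card_congr b.equivFun.toEquiv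
    rw [Nat.card_fun, Nat.card_zmod, Nat.card_fin] at e
    exact e
  · have h2 : L g = 1 := (LinearMap.toMatrixAlgEquiv b).injective (by
      rw [map_one]; exact (congrArg Units.val hg : _))
    exact congrArg Additive.toMul (LinearMap.congr_fun h2 (Additive.ofMul a))

/-- The resulting representation over a prime field. -/
theorem Red.classTwo [IsAlgClosed K] (h : Red ρ π) (hnil : Group.IsNilpotent ↥π.ker) (hnc : ¬ π.ker ≤ scal ρ) :
    ∃ (q d : ℕ) (τ : G →* (Matrix (Fin d) (Fin d) (ZMod q))ˣ), q.Prime ∧ τ.ker ≤ π.ker ∧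
      q ^ d ≤ finrank K V ^ 2 := by
  classical
  haveI := h.nontrivial
  haveI : Fact (Function.Injective ρ) := ⟨h.inj⟩
  obtain ⟨N, q, hq, hNn, hNk, hNs, hcl, hqp⟩ := h.exists_two hnil hnc
  haveI := hNn
  haveI := Fact.mk hq
  obtain ⟨Zn, hZn⟩ : ∃ Zn, Zn = (scal ρ).subgroupOf N := ⟨_, rfl⟩
  haveI : Zn.Normal := hZn ▸ inferInstance
  have hmk : ∀ x : ↥N, (QuotientGroup.mk x : ↥N ⧸ Zn) = 1 ↔ (x : G) ∈ scal ρ := fun x => by
    rw [QuotientGroup.eq_one_iff, hZn, Subgroup.mem_subgroupOf]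
  have hcomm : ∀ u v : ↥N ⧸ Zn, u * v = v * u := fun u v => by
    induction u using QuotientGroup.induction_on
    induction v using QuotientGroup.induction_on
    rename_i x y
    rw [← mul_inv_eq_iff_eq_mul, ← mul_inv_eq_one]
    exact (hmk (x * y * x⁻¹ * y⁻¹)).2 (hcl x x.2 y y.2)
  letI : CommGroup (↥N ⧸ Zn) := { (inferInstance : Group (↥N ⧸ Zn)) with mul_comm := hcomm }
  have hcomap : ∀ g : G, Zn ≤ Zn.comap ((MulAut.conjNormal g : ↥N ≃* ↥N).toMonoidHom) := fun g x hx => by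
    rw [hZn, Subgroup.mem_subgroupOf] at hx
    rw [Subgroup.mem_comap, hZn, Subgroup.mem_subgroupOf]
    show ((MulAut.conjNormal g x : ↥N) : G) ∈ scal ρ
    rw [MulAut.conjNormal_apply]
    exact (scal_normal (ρ := ρ)).conj_mem _ hx g
  obtain ⟨α, hα⟩ : ∃ α : G → ((↥N ⧸ Zn) →* (↥N ⧸ Zn)), ∀ g (x : ↥N),
      α g (QuotientGroup.mk x) = QuotientGroup.mk (MulAut.conjNormal g x) :=
    ⟨fun g => QuotientGroup.map Zn Zn ((MulAut.conjNormal g : ↥N ≃* ↥N).toMonoidHom) (hcomap g), fun g x => rfl⟩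
  have hA : ∀ u : ↥N ⧸ Zn, u ^ q = 1 := fun u => by
    obtain ⟨x, rfl⟩ := QuotientGroup.mk_surjective u
    rw [← QuotientGroup.mk_pow, hmk]
    exact hqp x x.2
  obtain ⟨d, τ, hd, hτ⟩ := linearize q hq hA α (fun u => by
      obtain ⟨x, rfl⟩ := QuotientGroup.mk_surjective u
      rw [hα, map_one, MulAut.one_apply])
    fun g k u => by
      obtain ⟨x, rfl⟩ := QuotientGroup.mk_surjective u
      rw [hα, hα, hα, map_mul, MulAut.mul_apply]
  refine ⟨q, d, τ, hq, ?_, ?_⟩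
  · refine (h.ker_or_top τ.ker inferInstance).resolve_right fun htop => hNs fun x hx => ?_
    have hfix : ∀ g : G, g * x * g⁻¹ * x⁻¹ ∈ scal ρ := fun g => by
      have h3 := hτ g (by rw [← MonoidHom.mem_ker, htop]; trivial) (QuotientGroup.mk ⟨x, hx⟩)
      rw [hα, ← mul_inv_eq_one, ← QuotientGroup.mk_inv, ← QuotientGroup.mk_mul, hmk] at h3
      simpa [MulAut.conjNormal_apply] using h3
    let M : Subgroup G :=
      { carrier := {y | y ∈ N ∧ ∃ m : ℤ, y * x ^ m ∈ scal ρ}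
        one_mem' := ⟨N.one_mem, 0, by simp⟩
        mul_mem' := fun {u v} hu hv => by
          obtain ⟨m, hm⟩ := hu.2
          obtain ⟨k, hk⟩ := hv.2
          refine ⟨N.mul_mem hu.1 hv.1, k + m, ?_⟩
          have := (scal ρ).mul_mem hm hk
          convert this using 1
          rw [mul_assoc u (x ^ m), ← scal_comm h.inj hk (x ^ m)]
          group
        inv_mem' := fun {u} hu => by
          obtain ⟨m, hm⟩ := hu.2
          refine ⟨N.inv_mem hu.1, -m, ?_⟩
          have e := scal_comm h.inj ((scal ρ).inv_mem hm) (x ^ m)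
          have : u⁻¹ * x ^ (-m) = (u * x ^ m)⁻¹ := by
            rw [mul_inv_rev, zpow_neg]
            calc u⁻¹ * (x ^ m)⁻¹ = (x ^ m * (u * x ^ m)⁻¹) * (x ^ m)⁻¹ := by group
              _ = ((u * x ^ m)⁻¹ * x ^ m) * (x ^ m)⁻¹ := by rw [e]
              _ = _ := by group
          rw [this]; exact (scal ρ).inv_mem hm }
    haveI : M.Normal := ⟨fun y hy g => by
      obtain ⟨m, hm⟩ := hy.2
      refine ⟨hNn.conj_mem y hy.1 g, m, ?_⟩
      have hgx : (g * x ^ m * g⁻¹) * (x ^ m)⁻¹ ∈ scal ρ := by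
        obtain ⟨z, hz, e⟩ : ∃ z ∈ scal ρ, g * x * g⁻¹ = z * x := ⟨_, hfix g, by rw [inv_mul_cancel_right]⟩
        rw [← conj_zpow, e, (show Commute z x from scal_comm h.inj hz x).mul_zpow, mul_inv_cancel_right]
        exact (scal ρ).zpow_mem hz m
      rw [show g * y * g⁻¹ * x ^ m = g * (y * x ^ m) * g⁻¹ *
          ((x ^ m)⁻¹ * (g * x ^ m * g⁻¹ * (x ^ m)⁻¹)⁻¹ * x ^ m) by group,
        ← scal_comm h.inj ((scal ρ).inv_mem hgx) (x ^ m)⁻¹, inv_mul_cancel_right]
      exact (scal ρ).mul_mem ((scal_normal (ρ := ρ)).conj_mem _ hm g) ((scal ρ).inv_mem hgx)⟩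
    have hMs : M ≤ scal ρ := h.abelian_scal M (fun y hy => hNk hy.1) fun u hu v hv => by
      obtain ⟨m, hm⟩ := hu.2
      obtain ⟨k, hk⟩ := hv.2
      obtain ⟨z, hz, rfl⟩ : ∃ z ∈ scal ρ, u = z * x ^ (-m) := ⟨_, hm, by group⟩
      obtain ⟨w, hw, rfl⟩ : ∃ w ∈ scal ρ, v = w * x ^ (-k) := ⟨_, hk, by group⟩
      have cz : ∀ g, Commute z g := scal_comm h.inj hz
      have cw : ∀ g, Commute w g := scal_comm h.inj hw
      exact ((cz _).mul_left ((cw _).symm.mul_right (Commute.zpow_zpow_self x _ _))).eq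
    exact hMs ⟨hx, -1, by simp⟩
  · rw [← hd]
    subst hZn
    exact h.quot_card N hNk hcl

end Cfsg.Agent.Small.AltDeg
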