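import Mathlib

/-!
Eigenspaces of endomorphisms of finite order.
-/

set_option autoImplicit false
set_option linter.unusedSectionVars false
set_option linter.unusedVariables false
set_option linter.style.haveILetI false

namespace Cfsg.Agent.Small.AltDeg

open Module

variable {K : Type*} [Field K] {V : Type*} [AddCommGroup V] [Module K V] [FiniteDimensional K V]

/-- A nontrivial endomorphism of odd prime order has a nontrivial eigenvalue. -/
theorem exists_eigen [IsAlgClosed K] {ℓ : ℕ} (hℓK : (ℓ : K) ≠ 0) (f : End K V) (hf : f ^ ℓ = 1) (h1 : f ≠ 1) :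
    ∃ ζ : K, ζ ≠ 1 ∧ ζ ^ ℓ = 1 ∧ f.eigenspace ζ ≠ ⊥ := by
  obtain ⟨S, hS⟩ : ∃ S : End K V, S = ∑ i ∈ Finset.range ℓ, f ^ i := ⟨_, rfl⟩
  have hS1 : S * (f - 1) = 0 := by rw [hS, geom_sum_mul, hf, sub_self]
  have hcomm : Commute S f := hS ▸ Commute.sum_left _ _ _ fun i _ => (Commute.refl f).pow_left i
  have hinv : ∀ v ∈ LinearMap.ker S, f v ∈ LinearMap.ker S := fun v hv => by
    rw [LinearMap.mem_ker] at hv ⊢
    rw [← End.mul_apply, hcomm.eq, End.mul_apply, hv, map_zero]
  have hne : LinearMap.ker S ≠ ⊥ := fun hbot => h1 (sub_eq_zero.1 (LinearMap.ext fun v => by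
    have hm : (f - 1) v ∈ LinearMap.ker S := by
      rw [LinearMap.mem_ker, ← End.mul_apply, hS1, LinearMap.zero_apply]
    rw [hbot, Submodule.mem_bot] at hm
    exact hm))
  haveI := Submodule.nontrivial_iff_ne_bot.2 hne
  obtain ⟨ζ, hζ⟩ := End.exists_eigenvalue (f.restrict hinv)
  obtain ⟨x, hx⟩ := hζ.exists_hasEigenvector
  have hx' : f (x : V) = ζ • (x : V) := congrArg Subtype.val hx.apply_eq_smul
  have hx0 : (x : V) ≠ 0 := fun h => hx.2 (Subtype.ext h)
  have hpow : ∀ i : ℕ, (f ^ i) (x : V) = ζ ^ i • (x : V) := fun i => by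
    induction i with
    | zero => simp
    | succ i ih => rw [pow_succ, End.mul_apply, hx', map_smul, ih, smul_smul, pow_succ, mul_comm]
  have hℓ1 : ζ ^ ℓ = 1 := by
    have h := hpow ℓ
    rw [hf] at h
    exact smul_left_injective K hx0 (show ζ ^ ℓ • (x : V) = (1 : K) • (x : V) by rw [one_smul, ← h]; rfl)
  refine ⟨ζ, fun h => hℓK ?_, hℓ1, fun hb => hx0 ?_⟩
  · have h2 : S (x : V) = 0 := LinearMap.mem_ker.1 x.2
    replace h2 : (∑ i ∈ Finset.range ℓ, f ^ i) (x : V) = 0 := (congrArg (fun T : End K V => T (x : V)) hS).symm.trans h2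
    rw [LinearMap.sum_apply] at h2
    simp only [hpow, h, one_pow, one_smul, Finset.sum_const, Finset.card_range] at h2
    rw [← Nat.cast_smul_eq_nsmul K] at h2
    exact (smul_eq_zero.1 h2).resolve_right hx0
  · rw [← Submodule.mem_bot K, ← hb, End.mem_eigenspace_iff]
    exact hx'

/-- Independent submodules of known dimension. -/
theorem sum_indep {k d : ℕ} (W : Fin k → Submodule K V) (h : iSupIndep W) (hd : ∀ i, d ≤ finrank K (W i)) :
    k * d ≤ finrank K V := by
  suffices ∀ s : Finset (Fin k), s.card * d ≤ finrank K ↥(s.sup W) by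
    have h2 := this Finset.univ
    rw [Finset.card_univ, Fintype.card_fin] at h2
    exact h2.trans (Submodule.finrank_le _)
  intro s
  induction s using Finset.induction with
  | empty => simp
  | insert a s ha ih =>
    rw [Finset.sup_insert, Finset.card_insert_of_notMem ha, add_mul, one_mul]
    have hdis : Disjoint (W a) (s.sup W) := by
      have := h.disjoint_biSup (x := a) (y := (s : Set (Fin k))) (by simpa using ha)
      rw [Finset.sup_eq_iSup]
      simpa using this
    have := Submodule.finrank_sup_add_finrank_inf_eq (W a) (s.sup W)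
    rw [hdis.eq_bot, finrank_bot, add_zero] at this
    rw [this]
    have := hd a
    omega

/-- Eigenspaces along an orbit. -/
theorem orbit_bound (f : End K V) (s : (End K V)ˣ) (m k d : ℕ) (ζ : K)
    (hs : f * (s : End K V) = (s : End K V) * f ^ m) (hinj : Function.Injective fun i : Fin k => ζ ^ m ^ (i : ℕ))
    (hd : d ≤ finrank K (f.eigenspace ζ)) : k * d ≤ finrank K V := by
  have step : ∀ η : K, finrank K (f.eigenspace η) ≤ finrank K (f.eigenspace (η ^ m)) := fun η => by
    have hmap : ∀ v ∈ f.eigenspace η, (s : End K V) v ∈ f.eigenspace (η ^ m) := fun v hv => by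
      rw [End.mem_eigenspace_iff] at hv ⊢
      have hp : ∀ i : ℕ, (f ^ i) v = η ^ i • v := fun i => by
        induction i with
        | zero => simp
        | succ i ih => rw [pow_succ, End.mul_apply, hv, map_smul, ih, smul_smul, pow_succ, mul_comm]
      rw [← End.mul_apply, hs, End.mul_apply, hp, map_smul]
    refine LinearMap.finrank_le_finrank_of_injective (f := (s : End K V).restrict hmap) fun a b hab => ?_
    have := congrArg (fun z : f.eigenspace (η ^ m) => ((s⁻¹ : (End K V)ˣ) : End K V) (z : V)) hab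
    simp only [LinearMap.coe_restrict_apply, ← End.mul_apply, Units.inv_mul, End.one_apply] at this
    exact Subtype.ext this
  have hall : ∀ i : ℕ, d ≤ finrank K (f.eigenspace (ζ ^ m ^ i)) := fun i => by
    induction i with
    | zero => rwa [pow_zero, pow_one]
    | succ i ih =>
      refine ih.trans ((step _).trans ?_)
      rw [← pow_mul, ← pow_succ]
  exact sum_indep (fun i : Fin k => f.eigenspace (ζ ^ m ^ (i : ℕ))) ((End.eigenspaces_iSupIndep f).comp hinj)
    fun i => hall i

theorem eigen_invariant {f g : End K V} (h : g * f = f * g) (ζ : K) :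
    ∀ v ∈ f.eigenspace ζ, g v ∈ f.eigenspace ζ := fun v hv => by
  rw [End.mem_eigenspace_iff] at hv ⊢
  rw [← End.mul_apply, ← h, End.mul_apply, hv, map_smul]

/-- Two anticommuting square roots of minus one halve the space. -/
theorem anticommute_half [IsAlgClosed K] (h2 : (2 : K) ≠ 0) (u v : End K V) (hu : u * u = -1) (hv : v * v = -1)
    (huv : v * u = -(u * v)) :
    ∃ c : K, finrank K V = 2 * finrank K (u.eigenspace c) ∧ c * c = -1 := by
  obtain ⟨c, hc⟩ : ∃ c : K, c * c = -1 := by
    obtain ⟨c, hc⟩ := IsAlgClosed.exists_eq_mul_self (-1 : K)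
    exact ⟨c, hc.symm⟩
  refine ⟨c, ?_, hc⟩
  have hc0 : c ≠ 0 := fun h => by simp [h] at hc
  have hu2 : ∀ x, u (u x) = -x := fun x => by rw [← End.mul_apply, hu]; simp
  have hv2 : ∀ x, v (v x) = -x := fun x => by rw [← End.mul_apply, hv]; simp
  have hswap : ∀ c' : K, ∀ x ∈ u.eigenspace c', v x ∈ u.eigenspace (-c') := fun c' x hx => by
    rw [End.mem_eigenspace_iff] at hx ⊢
    have e : u (v x) = -(v (u x)) := by
      rw [← End.mul_apply v u, huv]; simp
    rw [e, hx, map_smul, neg_smul]
  have hvinj : Function.Injective v := fun a b hab => by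
    have := congrArg v hab
    rw [hv2, hv2] at this
    exact neg_injective this
  have le : ∀ c' : K, finrank K (u.eigenspace c') ≤ finrank K (u.eigenspace (-c')) := fun c' =>
    LinearMap.finrank_le_finrank_of_injective (f := v.restrict (hswap c')) fun a b hab =>
      Subtype.ext (hvinj (congrArg Subtype.val hab))
  have heq : finrank K (u.eigenspace (-c)) = finrank K (u.eigenspace c) :=
    le_antisymm ((le (-c)).trans_eq (by rw [neg_neg])) (le c)
  have hne : c ≠ -c := fun h => hc0 (by
    have : (2 : K) * c = 0 := by rw [two_mul]; nth_rw 1 [h]; exact neg_add_cancel c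
    exact (mul_eq_zero.1 this).resolve_left h2)
  have hsum := Submodule.finrank_sup_add_finrank_inf_eq (u.eigenspace c) (u.eigenspace (-c))
  have hinf : u.eigenspace c ⊓ u.eigenspace (-c) = ⊥ :=
    ((End.eigenspaces_iSupIndep u).pairwiseDisjoint hne).eq_bot
  have hsup : u.eigenspace c ⊔ u.eigenspace (-c) = ⊤ := by
    refine eq_top_iff.2 fun x _ => ?_
    rw [show x = ((2 : K)⁻¹) • (x - c • u x) + ((2 : K)⁻¹) • (x + c • u x) by
      rw [← smul_add, show x - c • u x + (x + c • u x) = (2 : K) • x by rw [two_smul]; abel, smul_smul,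
        inv_mul_cancel₀ h2, one_smul]]
    refine Submodule.add_mem_sup (Submodule.smul_mem _ _ ?_) (Submodule.smul_mem _ _ ?_) <;>
      rw [End.mem_eigenspace_iff]
    · rw [map_sub, map_smul, hu2, smul_sub, smul_smul, hc]; module
    · rw [map_add, map_smul, hu2, smul_add, smul_smul, neg_mul, hc]; module
  rw [hinf, hsup, finrank_top, finrank_bot, heq] at hsum
  omega

end Cfsg.Agent.Small.AltDeg
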