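import Cfsg.Agent.Lib.Small.AltDeg.Perm
import Cfsg.Agent.Lib.Small.AltDeg.End

/-!
Representations of alternating groups up to sign.
-/

set_option autoImplicit false
set_option linter.unusedSectionVars false
set_option linter.unusedVariables false
set_option linter.style.haveILetI false

namespace Cfsg.Agent.Small.AltDeg

open Module

variable {K : Type*} [Field K] {V : Type*} [AddCommGroup V] [Module K V]
variable {G : Type*} [Group G] {r m k : ℕ} {π : G →* A r} {ρ : G →* (End K V)ˣ}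

/-- A map onto an alternating group whose kernel acts by signs. -/
structure IsCov (π : G →* A r) (ρ : G →* (End K V)ˣ) : Prop where
  surj : Function.Surjective π
  ker : ∀ g, π g = 1 → ρ g = 1 ∨ ρ g = -1

/-- Only the kernel acts by signs. -/
def Faith (π : G →* A r) (ρ : G →* (End K V)ˣ) : Prop := ∀ g, ρ g = 1 ∨ ρ g = -1 → π g = 1

/-- The action on a vector. -/
theorem apply_mul (g h : G) (v : V) :
    (ρ (g * h) : End K V) v = (ρ g : End K V) ((ρ h : End K V) v) := by
  rw [map_mul, Units.val_mul, End.mul_apply]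

theorem apply_inv (g : G) (v : V) : (ρ g⁻¹ : End K V) ((ρ g : End K V) v) = v := by
  rw [← apply_mul, inv_mul_cancel, map_one]; rfl

theorem apply_inv' (g : G) (v : V) : (ρ g : End K V) ((ρ g⁻¹ : End K V) v) = v := by
  rw [← apply_mul, mul_inv_cancel, map_one]; rfl

/-- The preimage of a smaller alternating group. -/
noncomputable abbrev subG (π : G →* A r) (ι : Fin m ↪ Fin r) : Subgroup G := (emb ι).range.comap π

/-- Its map onto the smaller group. -/
noncomputable def subPi (π : G →* A r) (ι : Fin m ↪ Fin r) : ↥(subG π ι) →* A m :=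
  (MonoidHom.ofInjective (emb_injective ι)).symm.toMonoidHom.comp
    ((π.comp (subG π ι).subtype).codRestrict (emb ι).range fun g => g.2)

theorem emb_subPi (π : G →* A r) (ι : Fin m ↪ Fin r) (g : ↥(subG π ι)) : emb ι (subPi π ι g) = π g :=
  congrArg Subtype.val ((MonoidHom.ofInjective (emb_injective ι)).apply_symm_apply ⟨π g, g.2⟩)

theorem IsCov.sub (h : IsCov π ρ) (ι : Fin m ↪ Fin r) :
    IsCov (subPi π ι) (ρ.comp (subG π ι).subtype) where
  surj a := by
    obtain ⟨g, hg⟩ := h.surj (emb ι a)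
    refine ⟨⟨g, ⟨a, hg.symm⟩⟩, emb_injective ι ?_⟩
    rw [emb_subPi]; exact hg
  ker g hg := h.ker g (by rw [← emb_subPi π ι g, hg, map_one])

theorem Faith.sub (h : Faith π ρ) (ι : Fin m ↪ Fin r) : Faith (subPi π ι) (ρ.comp (subG π ι).subtype) :=
  fun g hg => emb_injective ι (by rw [emb_subPi, map_one]; exact h g hg)

/-- The action on an invariant subspace. -/
noncomputable def res (ρ : G →* (End K V)ˣ) (W : Submodule K V) (hW : ∀ g, ∀ v ∈ W, (ρ g : End K V) v ∈ W) :
    G →* (End K W)ˣ :=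
  MonoidHom.toHomUnits
    { toFun := fun g => (ρ g : End K V).restrict (hW g)
      map_one' := LinearMap.ext fun v => Subtype.ext (by
        show (ρ 1 : End K V) v = v
        rw [map_one]; rfl)
      map_mul' := fun g h => LinearMap.ext fun v => Subtype.ext (apply_mul g h (v : V)) }

theorem res_apply (W : Submodule K V) (hW : ∀ g, ∀ v ∈ W, (ρ g : End K V) v ∈ W) (g : G) (v : W) :
    ((res ρ W hW g : End K W) v : V) = (ρ g : End K V) v := rfl

theorem res_of_one {W : Submodule K V} (hW : ∀ g, ∀ v ∈ W, (ρ g : End K V) v ∈ W) {g : G} (h : ρ g = 1) :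
    res ρ W hW g = 1 :=
  Units.ext (LinearMap.ext fun v => Subtype.ext (by
    rw [res_apply, h]; rfl))

theorem res_of_neg {W : Submodule K V} (hW : ∀ g, ∀ v ∈ W, (ρ g : End K V) v ∈ W) {g : G} (h : ρ g = -1) :
    res ρ W hW g = -1 :=
  Units.ext (LinearMap.ext fun v => Subtype.ext (by
    rw [res_apply, h]; rfl))

theorem IsCov.res (h : IsCov π ρ) (W : Submodule K V) (hW : ∀ g, ∀ v ∈ W, (ρ g : End K V) v ∈ W) :
    IsCov π (AltDeg.res ρ W hW) where
  surj := h.surj
  ker g hg := (h.ker g hg).elim (fun e => Or.inl (res_of_one hW e)) fun e => Or.inr (res_of_neg hW e)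

/-- An element of odd order lifts to one of the same order. -/
theorem IsCov.lift (h : IsCov π ρ) {ℓ : ℕ} (hℓ : Odd ℓ) {a : A r} (ha : a ^ ℓ = 1) :
    ∃ g, π g = a ∧ ρ g ^ ℓ = 1 := by
  obtain ⟨g, hg⟩ := h.surj a
  rcases h.ker (g ^ ℓ) (by rw [map_pow, hg, ha]) with e | e
  · exact ⟨g, hg, by rw [← map_pow]; exact e⟩
  · refine ⟨g ^ (ℓ + 1), by rw [map_pow, hg, pow_succ, ha, one_mul], ?_⟩
    rw [← map_pow, ← pow_mul, mul_comm, pow_mul, map_pow, e, (Odd.add_one hℓ).neg_one_pow]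

/-- Relations between elements of odd order lift exactly. -/
theorem IsCov.twist (h : IsCov π ρ) {ℓ : ℕ} (hℓ : Odd ℓ) {g t : G} (hg : ρ g ^ ℓ = 1) {n : ℕ}
    (ht : π t * π g = π g ^ n * π t) : ρ t * ρ g = ρ g ^ n * ρ t := by
  have hc : π (t * g * t⁻¹ * (g ^ n)⁻¹) = 1 := by
    rw [map_mul, map_mul, map_mul, ht, map_inv, map_inv, map_pow, mul_inv_cancel_right, mul_inv_cancel]
  have hgn : (ρ g ^ n) ^ ℓ = 1 := by rw [← pow_mul, mul_comm, pow_mul, hg, one_pow]
  rcases h.ker _ hc with e | e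
  · rwa [map_mul, map_inv, mul_inv_eq_one, map_mul, map_mul, map_inv, map_pow, mul_inv_eq_iff_eq_mul] at e
  · rw [map_mul, map_inv, mul_inv_eq_iff_eq_mul, map_mul, map_mul, map_inv, map_pow] at e
    have e2 := congrArg (fun x => x ^ ℓ) e
    simp only [conj_pow, hg, mul_one, mul_inv_cancel, neg_one_mul, Odd.neg_pow hℓ, hgn] at e2
    rw [mul_inv_eq_iff_eq_mul] at e
    rw [e, ← e2, one_mul]

theorem IsCov.comm (h : IsCov π ρ) {ℓ : ℕ} (hℓ : Odd ℓ) {g t : G} (hg : ρ g ^ ℓ = 1)
    (ht : Commute (π t) (π g)) : ρ t * ρ g = ρ g * ρ t := by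
  have := h.twist hℓ hg (t := t) (n := 1) (by rw [pow_one]; exact ht.eq)
  rwa [pow_one] at this

/-- The bound from an element of odd prime order and an element normalising it. -/
theorem IsCov.cycle_bound [FiniteDimensional K V] [IsAlgClosed K] (h : IsCov π ρ) (hf : Faith π ρ)
    (ℓ n k d : ℕ) (hℓp : ℓ.Prime) (hℓ : Odd ℓ) (hℓK : (ℓ : K) ≠ 0)
    (hinj : ∀ i j : ℕ, i < k → j < k → n ^ i % ℓ = n ^ j % ℓ → i = j)
    (x y : A r) (hx : x ^ ℓ = 1) (hx1 : x ≠ 1) (hy : y * x = x ^ n * y)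
    (hd : ∀ W : Submodule K V, W ≠ ⊥ →
      (∀ g, Commute (π g) x → ∀ v ∈ W, (ρ g : End K V) v ∈ W) → d ≤ finrank K W) :
    k * d ≤ finrank K V := by
  obtain ⟨g, hg, hgℓ⟩ := h.lift hℓ hx
  obtain ⟨t, ht⟩ := h.surj y
  have e := h.twist hℓ hgℓ (t := t) (n := n) (by rw [hg, ht]; exact hy)
  have hpow : (ρ g : End K V) ^ ℓ = 1 := by rw [← Units.val_pow_eq_pow_val, hgℓ, Units.val_one]
  obtain ⟨ζ, hζ, hζℓ, hne⟩ := exists_eigen hℓK (ρ g : End K V) hpow fun e1 => hx1 (by
    rw [← hg]; exact hf g (Or.inl (Units.ext e1)))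
  have hord : orderOf ζ = ℓ := by
    haveI := Fact.mk hℓp
    exact orderOf_eq_prime hζℓ hζ
  refine orbit_bound (ρ g : End K V) (ρ t)⁻¹ n k d ζ ?_ (fun i j hij => ?_) (hd _ hne fun g' hg' => ?_)
  · rw [← Units.val_pow_eq_pow_val, ← Units.val_mul, ← Units.val_mul]
    refine congrArg Units.val ?_
    rw [eq_inv_mul_iff_mul_eq, ← mul_assoc, e, mul_inv_cancel_right]
  · have hp : IsPrimitiveRoot ζ ℓ := hord ▸ IsPrimitiveRoot.orderOf ζ
    have e' : ζ ^ n ^ (i : ℕ) = ζ ^ n ^ (j : ℕ) := hij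
    rw [pow_eq_pow_mod _ hζℓ, pow_eq_pow_mod (n ^ (j : ℕ)) hζℓ] at e'
    exact Fin.ext (hinj _ _ i.2 j.2 (hp.pow_inj (Nat.mod_lt _ hℓp.pos) (Nat.mod_lt _ hℓp.pos) e'))
  · refine eigen_invariant ?_ ζ
    rw [← Units.val_mul, ← Units.val_mul, h.comm hℓ hgℓ (by rw [hg]; exact hg')]

/-- Two commuting elements of order three and an element of order four permuting them. -/
theorem IsCov.six_bound [FiniteDimensional K V] [IsAlgClosed K] (h : IsCov π ρ) (hf : Faith π ρ)
    (h3 : (3 : K) ≠ 0) (hr : 6 ≤ r) : 4 ≤ finrank K V := by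
  obtain ⟨P, A6, B6, hA3, hB3, hA1, hAB, hPA, hPB⟩ : ∃ P A6 B6 : A 6, A6 ^ 3 = 1 ∧ B6 ^ 3 = 1 ∧ A6 ≠ 1 ∧
      A6 * B6 = B6 * A6 ∧ P * A6 = B6 * P ∧ P * B6 = A6 ^ 2 * P := by
    refine ⟨⟨c[0, 3] * c[1, 4, 2, 5], Equiv.Perm.mem_alternatingGroup.2 (by decide)⟩,
      ⟨c[0, 1, 2], Equiv.Perm.mem_alternatingGroup.2 (by decide)⟩,
      ⟨c[3, 4, 5], Equiv.Perm.mem_alternatingGroup.2 (by decide)⟩, ?_, ?_, ?_, ?_, ?_, ?_⟩ <;>
      first
        | exact Subtype.ext (by decide)
        | exact fun e => absurd (congrArg Subtype.val e) (by decide)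
  obtain ⟨ι, hι⟩ : ∃ ι : A 6 →* A r, Function.Injective ι := ⟨emb (Fin.castLEEmb hr), emb_injective _⟩
  have ho : Odd 3 := ⟨1, rfl⟩
  obtain ⟨a, ha, ha3⟩ := h.lift ho (a := ι A6) (by rw [← map_pow, hA3, map_one])
  obtain ⟨b, hb, hb3⟩ := h.lift ho (a := ι B6) (by rw [← map_pow, hB3, map_one])
  obtain ⟨t, ht⟩ := h.surj (ι P)
  obtain ⟨ζ, hζ, hζ3, hne⟩ := exists_eigen (ℓ := 3) (by exact_mod_cast h3) (ρ a : End K V)
    (by rw [← Units.val_pow_eq_pow_val, ha3, Units.val_one]) fun e1 => hA1 (hι (by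
      rw [← ha, map_one]; exact hf a (Or.inl (Units.ext e1))))
  have hab : ρ b * ρ a = ρ a * ρ b := h.comm ho ha3 (by rw [ha, hb, Commute, SemiconjBy, ← map_mul, ← map_mul, hAB])
  have hta : ρ t * ρ a = ρ b * ρ t := by
    have hc : π (t * a * t⁻¹ * b⁻¹) = 1 := by
      rw [map_mul, map_mul, map_mul, map_inv, map_inv, ht, ha, hb, ← map_mul, hPA, map_mul,
        mul_inv_cancel_right, mul_inv_cancel]
    rcases h.ker _ hc with e | e
    · rwa [map_mul, map_inv, mul_inv_eq_one, map_mul, map_mul, map_inv, mul_inv_eq_iff_eq_mul] at e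
    · rw [map_mul, map_inv, mul_inv_eq_iff_eq_mul, map_mul, map_mul, map_inv] at e
      have e2 := congrArg (fun x => x ^ 3) e
      simp only [conj_pow, ha3, mul_one, mul_inv_cancel, neg_one_mul, Odd.neg_pow ho, hb3] at e2
      rw [mul_inv_eq_iff_eq_mul] at e
      rw [e, ← e2, one_mul]
  have htb : ρ t * ρ b = ρ a ^ 2 * ρ t := by
    have hc : π (t * b * t⁻¹ * (a ^ 2)⁻¹) = 1 := by
      rw [map_mul, map_mul, map_mul, map_inv, map_inv, map_pow, ht, ha, hb, ← map_pow, ← map_mul, hPB, map_mul,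
        mul_inv_cancel_right, mul_inv_cancel]
    have ha2 : (ρ a ^ 2) ^ 3 = 1 := by rw [← pow_mul, pow_mul', ha3, one_pow]
    rcases h.ker _ hc with e | e
    · rwa [map_mul, map_inv, mul_inv_eq_one, map_mul, map_mul, map_inv, map_pow, mul_inv_eq_iff_eq_mul] at e
    · rw [map_mul, map_inv, mul_inv_eq_iff_eq_mul, map_mul, map_mul, map_inv, map_pow] at e
      have e2 := congrArg (fun x => x ^ 3) e
      simp only [conj_pow, hb3, mul_one, mul_inv_cancel, neg_one_mul, Odd.neg_pow ho, ha2] at e2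
      rw [mul_inv_eq_iff_eq_mul] at e
      rw [e, ← e2, one_mul]
  -- a common eigenvector
  have hinv : ∀ v ∈ (ρ a : End K V).eigenspace ζ, (ρ b : End K V) v ∈ (ρ a : End K V).eigenspace ζ :=
    eigen_invariant (by rw [← Units.val_mul, ← Units.val_mul, hab]) ζ
  haveI := Submodule.nontrivial_iff_ne_bot.2 hne
  obtain ⟨η, hη⟩ := End.exists_eigenvalue ((ρ b : End K V).restrict hinv)
  obtain ⟨x, hx⟩ := hη.exists_hasEigenvector
  have hbv : (ρ b : End K V) (x : V) = η • (x : V) := congrArg Subtype.val hx.apply_eq_smul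
  have hav : (ρ a : End K V) (x : V) = ζ • (x : V) := End.mem_eigenspace_iff.1 x.2
  have hv0 : (x : V) ≠ 0 := fun e => hx.2 (Subtype.ext e)
  have hη3 : η ^ 3 = 1 := by
    have h' : ((ρ b ^ 3 : (End K V)ˣ) : End K V) (x : V) = (x : V) := by rw [hb3]; rfl
    rw [Units.val_pow_eq_pow_val, pow_three, End.mul_apply, End.mul_apply, hbv, map_smul, hbv, map_smul,
      map_smul, hbv, smul_smul, smul_smul] at h'
    refine smul_left_injective K hv0 (show η ^ 3 • (x : V) = (1 : K) • (x : V) from ?_)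
    rw [one_smul, pow_three]
    rw [mul_assoc] at h'
    exact h'
  -- the joint eigenspaces
  obtain ⟨J, hJ⟩ : ∃ J : K → K → Submodule K V, J = fun i j =>
      (ρ a : End K V).eigenspace i ⊓ (ρ b : End K V).eigenspace j := ⟨_, rfl⟩
  have step : ∀ i j : K, i ^ 3 = 1 → j ^ 3 = 1 → ∀ v ∈ J i j, (ρ t : End K V) v ∈ J (j ^ 2) i := by
    intro i j hi hj v hv
    rw [hJ, Submodule.mem_inf, End.mem_eigenspace_iff, End.mem_eigenspace_iff] at hv ⊢
    have e1 : (ρ b : End K V) ((ρ t : End K V) v) = i • (ρ t : End K V) v := by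
      rw [← End.mul_apply, ← Units.val_mul, ← hta, Units.val_mul, End.mul_apply, hv.1, map_smul]
    have e2 : (ρ a : End K V) ((ρ a : End K V) ((ρ t : End K V) v)) = j • (ρ t : End K V) v := by
      rw [← End.mul_apply, ← End.mul_apply, ← Units.val_mul, ← Units.val_mul, ← pow_two, ← htb, Units.val_mul,
        End.mul_apply, hv.2, map_smul]
    refine ⟨?_, e1⟩
    have h3' : ((ρ a ^ 3 : (End K V)ˣ) : End K V) = 1 := by rw [ha3]; rfl
    rw [Units.val_pow_eq_pow_val, pow_three] at h3'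
    have e4 : ∀ w, (ρ a : End K V) ((ρ a : End K V) ((ρ a : End K V) w)) = w := fun w => by
      rw [← End.mul_apply, ← End.mul_apply, mul_assoc, h3', End.one_apply]
    have e3 := congrArg (fun w => (ρ a : End K V) w) e2
    simp only [map_smul, e4] at e3
    conv_rhs => rw [e3, smul_smul, ← pow_succ, hj, one_smul]
  have h0 : (x : V) ∈ J ζ η := by
    rw [hJ]; exact ⟨x.2, End.mem_eigenspace_iff.2 hbv⟩
  have hsq : ∀ {u : K}, u ^ 3 = 1 → (u ^ 2) ^ 3 = 1 := fun hu => by rw [← pow_mul, pow_mul', hu, one_pow]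
  have hsq2 : ∀ {u : K}, u ^ 3 = 1 → (u ^ 2) ^ 2 = u := fun hu => by
    rw [← pow_mul, show 2 * 2 = 3 + 1 by norm_num, pow_succ, hu, one_mul]
  have h1 := step _ _ hζ3 hη3 _ h0
  have h2 := step _ _ (hsq hη3) hζ3 _ h1
  have h4 := step _ _ (hsq hζ3) (hsq hη3) _ h2
  rw [hsq2 hη3] at h4
  -- the four pairs differ
  obtain ⟨vs, hvs⟩ : ∃ vs : Fin 4 → V, vs = ![(x : V), (ρ t : End K V) x, (ρ t : End K V) ((ρ t : End K V) x),
      (ρ t : End K V) ((ρ t : End K V) ((ρ t : End K V) x))] := ⟨_, rfl⟩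
  obtain ⟨ps, hps⟩ : ∃ ps : Fin 4 → K × K, ps = ![(ζ, η), (η ^ 2, ζ), (ζ ^ 2, η ^ 2), (η, ζ ^ 2)] := ⟨_, rfl⟩
  have hmem : ∀ i, vs i ∈ J (ps i).1 (ps i).2 := by
    rw [hvs, hps]; intro i; fin_cases i
    exacts [h0, h1, h2, h4]
  have htinj : Function.Injective (ρ t : End K V) := Function.LeftInverse.injective (g := (ρ t⁻¹ : End K V))
    fun v => apply_inv t v
  have hnz : ∀ i, vs i ≠ 0 := by
    have hz : ∀ v : V, v ≠ 0 → (ρ t : End K V) v ≠ 0 := fun v hv e => hv (htinj (e.trans (map_zero _).symm))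
    rw [hvs]; intro i; fin_cases i
    exacts [hv0, hz _ hv0, hz _ (hz _ hv0), hz _ (hz _ (hz _ hv0))]
  have hz2 : ζ ^ 2 ≠ ζ ∧ ζ ^ 2 ≠ 1 := by
    have hz0 : ζ ≠ 0 := fun e => by simp [e] at hζ3
    refine ⟨fun e => hζ ?_, fun e => hζ ?_⟩
    · exact mul_left_cancel₀ hz0 (by rw [← pow_two, e, mul_one])
    · calc ζ = ζ * ζ ^ 2 := by rw [e, mul_one]
        _ = 1 := by rw [← pow_succ', hζ3]
  have hpinj : Function.Injective ps := by
    intro i j hij
    rw [hps] at hij
    fin_cases i <;> fin_cases j <;> first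
      | rfl
      | (exfalso; simp at hij
         grind)
  have hli : LinearIndependent K vs := by
    rw [linearIndependent_iff']
    intro s c hsum i hi
    by_contra hci
    -- separate by the two eigenvalues
    obtain ⟨p1, hp1⟩ : ∃ p1 : Fin 4 → K, p1 = fun j => (ps j).1 := ⟨_, rfl⟩
    have hA : ∀ j, (ρ a : End K V) (vs j) = (ps j).1 • vs j := fun j => by
      have := (Submodule.mem_inf.1 (hJ ▸ hmem j)).1
      exact End.mem_eigenspace_iff.1 this
    have hB : ∀ j, (ρ b : End K V) (vs j) = (ps j).2 • vs j := fun j => by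
      have := (Submodule.mem_inf.1 (hJ ▸ hmem j)).2
      exact End.mem_eigenspace_iff.1 this
    -- kill every other term
    have kill : ∀ (u : Finset (Fin 4)) (c : Fin 4 → K), i ∉ u →
        (∑ j ∈ insert i u, c j • vs j) = 0 → c i = 0 := by
      intro u
      induction u using Finset.induction with
      | empty =>
        intro c _ hc
        rw [Finset.sum_insert (Finset.notMem_empty _), Finset.sum_empty, add_zero] at hc
        exact (smul_eq_zero.1 hc).resolve_right (hnz i)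
      | insert o u ho ih =>
        intro c hiu hc
        rw [Finset.mem_insert, not_or] at hiu
        have hne' : ps i ≠ ps o := fun e => hiu.1 (hpinj e)
        have red : ∀ (f : End K V) (q : Fin 4 → K), (∀ j, f (vs j) = q j • vs j) → q i ≠ q o → c i = 0 := by
          intro f q hq hqne
          have h5 : ∑ j ∈ insert i (insert o u), ((q j - q o) * c j) • vs j = 0 := by
            simp only [sub_mul, sub_smul, Finset.sum_sub_distrib]
            rw [show ∑ j ∈ insert i (insert o u), (q j * c j) • vs j = f (∑ j ∈ insert i (insert o u), c j • vs j) by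
              rw [map_sum]; exact Finset.sum_congr rfl fun j _ => by rw [map_smul, hq, smul_smul, mul_comm],
              show ∑ j ∈ insert i (insert o u), (q o * c j) • vs j = q o • (∑ j ∈ insert i (insert o u), c j • vs j) by
              rw [Finset.smul_sum]; exact Finset.sum_congr rfl fun j _ => by rw [smul_smul], hc, map_zero,
              smul_zero, sub_zero]
          rw [Finset.insert_comm, Finset.sum_insert (by rw [Finset.mem_insert, not_or]; exact ⟨Ne.symm hiu.1, ho⟩),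
            sub_self, zero_mul, zero_smul, zero_add] at h5
          exact (mul_eq_zero.1 (ih _ hiu.2 h5)).resolve_left (sub_ne_zero.2 hqne)
        by_cases he : (ps i).1 = (ps o).1
        · exact red _ _ hB fun e => hne' (Prod.ext he e)
        · exact red _ _ hA he
    refine hci (kill (s.erase i) c (Finset.notMem_erase _ _) ?_)
    rw [Finset.insert_erase hi]; exact hsum
  simpa using hli.fintype_card_le_finrank

end Cfsg.Agent.Small.AltDeg
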