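import Cfsg.Agent.Lib.Small.AltDeg.Blocks

/-!
The degree in the equality case: covectors indexed by pairs of points form the deleted permutation module.
-/

set_option autoImplicit false
set_option linter.unusedSectionVars false
set_option linter.unusedVariables false
set_option linter.style.haveILetI false

namespace Cfsg.Agent.Small.AltDeg

open Module

variable {K : Type*} [Field K] {V : Type*} [AddCommGroup V] [Module K V] [FiniteDimensional K V]
variable {r c : ℕ} {σ : A r →* (End K V)ˣ} {Q : Set (A c)}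

theorem card_erase2 (i j : Fin r) (hij : i ≠ j) : ((Finset.univ.erase i).erase j).card = r - 2 := by
  rw [Finset.card_erase_of_mem (Finset.mem_erase.2 ⟨hij.symm, Finset.mem_univ _⟩),
    Finset.card_erase_of_mem (Finset.mem_univ _), Finset.card_univ, Fintype.card_fin]
  omega

/-- The permutation of a pair. -/
theorem exists_pair (hr : 4 ≤ r) {a b i j : Fin r} (hab : a ≠ b) (hij : i ≠ j) :
    ∃ g : A r, (g : Equiv.Perm (Fin r)) a = i ∧ (g : Equiv.Perm (Fin r)) b = j := by
  have emb2 : ∀ {x y : Fin r}, x ≠ y → ∃ e : Fin 2 ↪ Fin r, e 0 = x ∧ e 1 = y := fun {x y} h =>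
    ⟨⟨![x, y], fun p q e => by fin_cases p <;> fin_cases q <;> simp_all [eq_comm]⟩, rfl, rfl⟩
  obtain ⟨e, he0, he1⟩ := emb2 hab
  obtain ⟨f, hf0, hf1⟩ := emb2 hij
  obtain ⟨g, hg⟩ := exists_map (k := 2) hr e f
  exact ⟨g, by rw [← he0, hg, hf0], by rw [← he1, hg, hf1]⟩

/-- Covectors indexed by ordered pairs with the triangle property span the deleted permutation module. -/
theorem perm_module {r : ℕ} {D : Type*} [AddCommGroup D] [Module K D] [FiniteDimensional K D] (hr : 9 ≤ r)
    (hr0 : ¬ (r : K) = 0) (T : A r → D →ₗ[K] D) (lam : Fin r → Fin r → D) (o l u : Fin r)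
    (ho : (o : ℕ) = 0) (hl : (l : ℕ) = 1) (hu : (u : ℕ) = 2)
    (hequi : ∀ (g : A r) (i j : Fin r), i ≠ j →
      lam ((g : Equiv.Perm (Fin r)) i) ((g : Equiv.Perm (Fin r)) j) = T g (lam i j))
    (hnz : ∀ i j : Fin r, i ≠ j → lam i j ≠ 0)
    (hindep : ∀ i j k : Fin r, i ≠ j → i ≠ k → j ≠ k → ∀ s t : K, s • lam i j + t • lam i k = 0 → s = 0 ∧ t = 0)
    (ε : K) (heps : ∀ i j : Fin r, i ≠ j → lam j i = ε • lam i j) (a b : K)
    (hab : lam u o = a • lam o l + b • lam l u) : r - 1 ≤ finrank K D := by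
  have hol : o ≠ l := fun e => by rw [e, hl] at ho; omega
  have hou : o ≠ u := fun e => by rw [e, hu] at ho; omega
  have hlu : l ≠ u := fun e => by rw [e, hu] at hl; omega
  have hε : lam l o = ε • lam o l := heps o l hol
  -- transport a relation
  have htrans : ∀ (g : A r) {i1 j1 i2 j2 i3 j3 : Fin r}, i1 ≠ j1 → i2 ≠ j2 → i3 ≠ j3 → ∀ s t : K,
      lam i1 j1 = s • lam i2 j2 + t • lam i3 j3 →
      lam ((g : Equiv.Perm (Fin r)) i1) ((g : Equiv.Perm (Fin r)) j1) =
        s • lam ((g : Equiv.Perm (Fin r)) i2) ((g : Equiv.Perm (Fin r)) j2) +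
        t • lam ((g : Equiv.Perm (Fin r)) i3) ((g : Equiv.Perm (Fin r)) j3) := by
    intro g i1 j1 i2 j2 i3 j3 h1 h2 h3 s t he
    rw [hequi g i1 j1 h1, hequi g i2 j2 h2, hequi g i3 j3 h3, he, map_add, map_smul,
      map_smul]
  have hεε : ε * ε = 1 := by
    have h := heps l o hol.symm
    rw [hε, smul_smul] at h
    exact (smul_left_injective K (hnz o l hol) (show (1 : K) • lam o l = (ε * ε) • lam o l by rwa [one_smul])).symm
  obtain ⟨c1, c2, c3'⟩ := cyc_apply hol hlu hou
  have R1 := htrans (cyc o l u hol hlu hou) hou.symm hol hlu a b hab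
  rw [c1, c2, c3'] at R1
  obtain ⟨g2, hg2a, hg2b, hg2c⟩ : ∃ g : A r, (g : Equiv.Perm (Fin r)) o = l ∧ (g : Equiv.Perm (Fin r)) l = o ∧
      (g : Equiv.Perm (Fin r)) u = u := by
    obtain ⟨g, hg⟩ := exists_map (k := 3) (r := r) (by omega) (three o l u hol hlu hou)
      (three l o u hol.symm hou hlu)
    exact ⟨g, hg 0, hg 1, hg 2⟩
  have R2 := htrans g2 hou.symm hol hlu a b hab
  rw [hg2a, hg2b, hg2c] at R2
  -- R1: the rotated relation, R2: the reflected one
  have hab2 : a = -1 ∧ b = -1 := by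
    have hlo : lam l o = ε • lam o l := hε
    have hul : lam u l = ε • lam l u := heps l u hlu
    have houu : lam o u = ε • lam u o := heps u o hou.symm
    rw [hab] at houu
    rw [houu, hlo, hul] at R2
    rw [hab, smul_add, smul_smul, smul_smul] at R1
    have e1 : (b * a - 1) • lam o l + (a + b * b) • lam l u = 0 := by
      linear_combination (norm := module) (-1 : K) • R1
    have e2 : (ε * a + b * (ε * b)) • lam o l + (-ε + b * (ε * a)) • lam l u = 0 → True := fun _ => trivial
    clear e2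
    have ind : ∀ s t : K, s • lam o l + t • lam l u = 0 → s = 0 ∧ t = 0 := by
      intro s t hst
      rw [heps l o hol.symm, smul_smul] at hst
      have := hindep l o u hol.symm hlu hou _ _ hst
      refine ⟨(mul_eq_zero.1 this.1).resolve_right fun e => ?_, this.2⟩
      rw [e, mul_zero] at hεε
      exact zero_ne_one hεε
    obtain ⟨q1, q2⟩ := ind _ _ e1
    have e3 : (a * ε + b * (ε * a)) • lam o l + (b * (ε * b) - ε) • lam l u = 0 := by
      linear_combination (norm := module) (-1 : K) • R2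
    obtain ⟨q3, q4⟩ := ind _ _ e3
    have hε0 : ε ≠ 0 := fun e => by rw [e, mul_zero] at hεε; exact zero_ne_one hεε
    have ha0 : a ≠ 0 := fun e => by rw [e] at q1; simp at q1
    have hb : b = -1 := by
      have : ε * a * (1 + b) = 0 := by linear_combination q3
      linear_combination (mul_eq_zero.1 this).resolve_left (mul_ne_zero hε0 ha0)
    refine ⟨?_, hb⟩
    rw [hb] at q2; linear_combination q2
  have htri : ∀ i j k : Fin r, i ≠ j → j ≠ k → i ≠ k → lam i j + lam j k + lam k i = 0 := by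
    intro i j k hij hjk hik
    obtain ⟨g, hg⟩ := exists_map (k := 3) (r := r) (by omega) (three o l u hol hlu hou) (three i j k hij hjk hik)
    have h := htrans g hou.symm hol hlu a b hab
    have e0 : (g : Equiv.Perm (Fin r)) o = i := hg 0
    have e1 : (g : Equiv.Perm (Fin r)) l = j := hg 1
    have e2 : (g : Equiv.Perm (Fin r)) u = k := hg 2
    rw [e0, e1, e2, hab2.1, hab2.2] at h
    rw [h]; module
  -- the sign is minus one
  have hne : ∀ (m : ℕ) (hm : m < r) (x : Fin r), (x : ℕ) ≠ m → x ≠ ⟨m, hm⟩ := fun m hm x h e => h (congrArg Fin.val e)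
  have hεm : ε = -1 := by
    by_contra hc
    obtain ⟨v, hv⟩ : ∃ v : Fin r, (v : ℕ) = 3 := ⟨⟨3, by omega⟩, rfl⟩
    obtain ⟨w, hw⟩ : ∃ w : Fin r, (w : ℕ) = 4 := ⟨⟨4, by omega⟩, rfl⟩
    have key : ∀ x y z : Fin r, o ≠ x → o ≠ y → o ≠ z → x ≠ y → y ≠ z → x ≠ z →
        (1 + ε) • (lam o x + lam o y + lam o z) = 0 := by
      intro x y z hx hy hz hxy hyz hxz
      have t1 := htri o x y hx hxy hy
      have t2 := htri o y z hy hyz hz
      have t3 := htri o z x hz hxz.symm hx
      have t4 := htri x y z hxy hyz hxz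
      rw [heps o x hx] at t3
      rw [heps o y hy] at t1
      rw [heps o z hz] at t2
      linear_combination (norm := module) t1 + t2 + t3 - t4
    have hne' : ∀ x y : Fin r, (x : ℕ) ≠ (y : ℕ) → x ≠ y := fun x y h e => h (congrArg Fin.val e)
    have p1 := key l u v hol hou (hne' _ _ (by omega)) hlu (hne' _ _ (by omega)) (hne' _ _ (by omega))
    have p2 := key l u w hol hou (hne' _ _ (by omega)) hlu (hne' _ _ (by omega)) (hne' _ _ (by omega))
    have p3 : (1 + ε) • lam o v + (-(1 + ε)) • lam o w = 0 := by linear_combination (norm := module) p1 - p2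
    exact hc (by linear_combination (hindep o v w (hne' _ _ (by omega)) (hne' _ _ (by omega))
      (hne' _ _ (by omega)) _ _ p3).1)
  obtain ⟨Φ, hΦ⟩ : ∃ Φ : (Fin r → K) → D, Φ = fun co => ∑ j, co j • (if j = o then 0 else lam o j) :=
    ⟨_, rfl⟩
  have hdiff : ∀ i j : Fin r, i ≠ j → lam i j = (if j = o then 0 else lam o j) - (if i = o then 0 else lam o i) := by
    intro i j hij
    by_cases hi : i = o
    · rw [hi] at hij ⊢; rw [if_neg hij.symm, if_pos rfl, sub_zero]
    by_cases hj : j = o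
    · rw [hj, if_pos rfl, if_neg hi, zero_sub, heps o i (Ne.symm hi), hεm, neg_one_smul]
    rw [if_neg hi, if_neg hj]
    have t := htri o i j (Ne.symm hi) hij (Ne.symm hj)
    rw [heps o j (Ne.symm hj), hεm, neg_one_smul] at t
    linear_combination (norm := module) t
  have hΦeq : ∀ (g : A r) (co : Fin r → K), (∑ j, co j) = 0 →
      Φ (fun x => co (((g⁻¹ : A r) : Equiv.Perm (Fin r)) x)) = T g (Φ co) := by
    intro g co hco
    rw [hΦ]
    simp only
    rw [← Equiv.sum_comp (g : Equiv.Perm (Fin r))]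
    simp only [Subgroup.coe_inv, Equiv.Perm.inv_def, Equiv.symm_apply_apply]
    obtain ⟨z, hz⟩ : ∃ z, z = (if (g : Equiv.Perm (Fin r)) o = o then 0 else lam o ((g : Equiv.Perm (Fin r)) o)) :=
      ⟨_, rfl⟩
    have each : ∀ j, co j • (if (g : Equiv.Perm (Fin r)) j = o then 0 else lam o ((g : Equiv.Perm (Fin r)) j)) =
        co j • T g (if j = o then 0 else lam o j) + co j • z := by
      intro j
      by_cases hj : j = o
      · rw [hj, if_pos (rfl : o = o), map_zero, smul_zero, zero_add, hz]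
      · rw [if_neg hj, ← hequi g o j (Ne.symm hj), hdiff _ _ ((g : Equiv.Perm (Fin r)).injective.ne (Ne.symm hj)),
          hz, ← smul_add, sub_add_cancel]
    rw [Finset.sum_congr rfl fun j _ => each j, Finset.sum_add_distrib, ← Finset.sum_smul, hco, zero_smul, add_zero]
    simp only [map_sum, map_smul]
  have hli : LinearIndependent K (fun j : {j : Fin r // j ≠ o} => lam o j) := by
    rw [Fintype.linearIndependent_iff]
    intro co0 hsum
    obtain ⟨co, hco⟩ : ∃ co : Fin r → K, co = fun j => if h : j = o then -∑ i, co0 i else co0 ⟨j, h⟩ := ⟨_, rfl⟩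
    have hcosum : ∑ j, co j = 0 := by
      rw [← Finset.add_sum_erase _ _ (Finset.mem_univ o)]
      have e : ∑ j ∈ Finset.univ.erase o, co j = ∑ i, co0 i := by
        rw [Finset.sum_subtype (p := fun j => j ≠ o) (Finset.univ.erase o) (fun x => by simp) co]
        exact Finset.sum_congr rfl fun i _ => by rw [hco]; simp [i.2]
      rw [e, hco]; simp
    have hΦ0 : Φ co = 0 := by
      rw [hΦ]; simp only
      rw [← Finset.add_sum_erase _ _ (Finset.mem_univ o), if_pos rfl, smul_zero, zero_add,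
        Finset.sum_subtype (p := fun j => j ≠ o) (Finset.univ.erase o) (fun x => by simp)
          (fun j => co j • (if j = o then 0 else lam o j))]
      refine Eq.trans (Finset.sum_congr rfl fun i _ => ?_) hsum
      rw [hco, if_neg i.2]; simp [i.2]
    have hconst : ∀ p q : Fin r, co p = co q := by
      intro p q
      by_contra hpq
      have hpq' : p ≠ q := fun e => hpq (e ▸ rfl)
      obtain ⟨s, hs⟩ : ((({p, q} : Finset (Fin r)))ᶜ).Nonempty := by
        rw [← Finset.card_pos, Finset.card_compl, Fintype.card_fin]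
        have : ({p, q} : Finset (Fin r)).card ≤ 2 := Finset.card_le_two
        omega
      simp only [Finset.mem_compl, Finset.mem_insert, Finset.mem_singleton, not_or] at hs
      obtain ⟨g, hg⟩ : ∃ g, g = cyc p q s hpq' (Ne.symm hs.2) (Ne.symm hs.1) := ⟨_, rfl⟩
      obtain ⟨b1, b2, b3⟩ := cyc_apply hpq' (Ne.symm hs.2) (Ne.symm hs.1)
      have i1 : ((g⁻¹ : A r) : Equiv.Perm (Fin r)) q = p := by
        rw [Subgroup.coe_inv, Equiv.Perm.inv_def, Equiv.symm_apply_eq, hg, b1]
      have i2 : ((g⁻¹ : A r) : Equiv.Perm (Fin r)) s = q := by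
        rw [Subgroup.coe_inv, Equiv.Perm.inv_def, Equiv.symm_apply_eq, hg, b2]
      have i3 : ((g⁻¹ : A r) : Equiv.Perm (Fin r)) p = s := by
        rw [Subgroup.coe_inv, Equiv.Perm.inv_def, Equiv.symm_apply_eq, hg, b3]
      obtain ⟨w, hw⟩ : ∃ w : Fin r → K, w = fun x => co (((g⁻¹ : A r) : Equiv.Perm (Fin r)) x) - co x := ⟨_, rfl⟩
      have hw0 : Φ w = 0 := by
        have h1 := hΦeq g co hcosum
        rw [hΦ0, map_zero] at h1
        have h3 : Φ w = Φ (fun x => co (((g⁻¹ : A r) : Equiv.Perm (Fin r)) x)) - Φ co := by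
          rw [hw, hΦ]; simp only [sub_smul, Finset.sum_sub_distrib]
        rw [h3, h1, hΦ0, sub_zero]
      have hout : ∀ x ∉ ({p, q, s} : Finset (Fin r)), w x = 0 := fun x hx => by
        have : ((g⁻¹ : A r) : Equiv.Perm (Fin r)) x = x := by
          rw [Subgroup.coe_inv, Equiv.Perm.inv_def, Equiv.symm_apply_eq, hg, cyc_supp _ _ _ x hx]
        rw [hw]
        show co (((g⁻¹ : A r) : Equiv.Perm (Fin r)) x) - co x = 0
        rw [this, sub_self]
      rw [hΦ] at hw0
      simp only at hw0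
      rw [← Finset.sum_subset (Finset.subset_univ ({p, q, s} : Finset (Fin r)))
        (fun x _ hx => by rw [hout x hx, zero_smul]), Finset.sum_insert (by simp [hpq', Ne.symm hs.1]),
        Finset.sum_pair (Ne.symm hs.2)] at hw0
      have e0 : w p + w q + w s = 0 := by
        rw [hw]
        show (co _ - co p) + (co _ - co q) + (co _ - co s) = 0
        rw [i1, i2, i3]; ring
      have e4 : w q • lam p q + w s • lam p s = 0 := by
        have hwp : w p = -(w q + w s) := by linear_combination e0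
        rw [hwp] at hw0
        rw [hdiff p q hpq', hdiff p s (Ne.symm hs.1)]
        linear_combination (norm := module) hw0
      have := hindep p q s hpq' (Ne.symm hs.1) (Ne.symm hs.2) _ _ e4
      rw [hw] at this
      have h7 : co (((g⁻¹ : A r) : Equiv.Perm (Fin r)) q) - co q = 0 := this.1
      rw [i1] at h7
      exact hpq (by linear_combination h7)
    have hco0 : co o = 0 := by
      have : ∑ j, co j = (r : K) * co o := by
        rw [Finset.sum_congr rfl fun j _ => hconst j o, Finset.sum_const, Finset.card_univ, Fintype.card_fin,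
          nsmul_eq_mul]
      rw [hcosum] at this
      exact (mul_eq_zero.1 this.symm).resolve_left hr0
    intro i
    have := hconst (i : Fin r) o
    rw [hco0, hco] at this
    simpa [i.2] using this
  have hlim := hli.fintype_card_le_finrank
  rw [Fintype.card_subtype_compl, Fintype.card_fin, Fintype.card_subtype_eq] at hlim
  exact hlim

namespace Blocks

/-- The degree is at least r − 2. -/
theorem lower_two (B : Blocks σ Q) : r - 2 ≤ finrank K V := by
  have hr := B.r9
  have hc3 := B.c3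
  have hc4 := B.c4
  -- the complement of a three-cycle
  obtain ⟨ι, -⟩ := exists_pts (k := 3) (S := (Finset.univ : Finset (Fin r))) (by simp; omega)
  have hcard : (pts ι)ᶜ.card = r - 3 := by rw [Finset.card_compl, Fintype.card_fin, card_pts]
  have h1 := B.lower (r - 3 - c) ((pts ι)ᶜ) (by omega) (by omega)
  have h2 := B.rank2 ι
  have hle : WS σ Q (pts ι)ᶜ ≤ LinearMap.ker ((σ (emb ι a3) : End K V) - 1) := fun v hv => by
    rw [LinearMap.mem_ker, LinearMap.sub_apply, End.one_apply, sub_eq_zero]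
    exact B.fixed (S := (pts ι)ᶜ) (by rw [compl_compl]; exact emb_supp ι a3) v hv
  have h3 := Submodule.finrank_mono hle
  have h4 := LinearMap.finrank_range_add_finrank_ker ((σ (emb ι a3) : End K V) - 1)
  rw [rg] at h2
  omega

/-- The dimensions in the equality case. -/
theorem eq_dims (B : Blocks σ Q) (hn2 : finrank K V = r - 2) :
    (∀ S : Finset (Fin r), S.card = r - 3 → finrank K ↥(WS σ Q S) = r - 4) ∧
    (∀ i j : Fin r, i ≠ j → finrank K ↥(WS σ Q ((Finset.univ.erase i).erase j)) = r - 3) ∧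
    (∀ i j k : Fin r, i ≠ j → i ≠ k → j ≠ k →
      WS σ Q ((Finset.univ.erase i).erase j) ≠ WS σ Q ((Finset.univ.erase i).erase k)) := by
  have hr := B.r9
  have hc3 := B.c3
  have hc4 := B.c4
  -- dimensions
  have hup : ∀ S : Finset (Fin r), S.card = r - 3 → finrank K ↥(WS σ Q S) = r - 4 := by
    intro S hS
    have h1 := B.lower (r - 3 - c) S (by omega) (by omega)
    obtain ⟨ι, hι⟩ := exists_pts_eq (S := Sᶜ) (k := 3) (by rw [Finset.card_compl, Fintype.card_fin]; omega)
    have h2 := B.rank2 ι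
    have hle : WS σ Q S ≤ LinearMap.ker ((σ (emb ι a3) : End K V) - 1) := fun v hv => by
      rw [LinearMap.mem_ker, LinearMap.sub_apply, End.one_apply, sub_eq_zero]
      exact B.fixed (S := S) (hι ▸ emb_supp ι a3) v hv
    have h3 := Submodule.finrank_mono hle
    have h4 := LinearMap.finrank_range_add_finrank_ker ((σ (emb ι a3) : End K V) - 1)
    rw [rg] at h2
    omega
  have hd2 : ∀ i j : Fin r, i ≠ j → finrank K ↥(WS σ Q ((Finset.univ.erase i).erase j)) = r - 3 := by
    intro i j hij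
    obtain ⟨S, hS⟩ : ∃ S, S = (Finset.univ.erase i).erase j := ⟨_, rfl⟩
    have hScard : S.card = r - 2 := hS ▸ card_erase2 i j hij
    rw [← hS]
    obtain ⟨a, ha, b, hb, hab⟩ := Finset.one_lt_card.1 (show 1 < S.card by omega)
    have hca : (S.erase a).card = r - 3 := by rw [Finset.card_erase_of_mem ha]; omega
    have hcb : (S.erase b).card = r - 3 := by rw [Finset.card_erase_of_mem hb]; omega
    have hcab : ((S.erase a).erase b).card = r - 4 := by
      rw [Finset.card_erase_of_mem (Finset.mem_erase.2 ⟨hab.symm, hb⟩), hca]; omega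
    have h1 := hup _ hca
    have h2 := hup _ hcb
    have h3 := B.lower (r - 4 - c) _ (show ((S.erase a).erase b).card = c + (r - 4 - c) by omega) (by omega)
    have h4 := Submodule.finrank_mono (B.le_sup (S := S) (by omega) ha hb hab)
    have h5 := Submodule.finrank_sup_add_finrank_inf_eq (WS σ Q (S.erase a)) (WS σ Q (S.erase b))
    have h6 : WS σ Q ((S.erase a).erase b) ≤ WS σ Q (S.erase a) ⊓ WS σ Q (S.erase b) :=
      le_inf (WS_mono (Finset.erase_subset _ _))
        (WS_mono (by rw [Finset.erase_right_comm]; exact Finset.erase_subset _ _))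
    have h7 := Submodule.finrank_mono h6
    have h8 := B.strict (S := S.erase a) (by omega) (by omega) (Finset.notMem_erase a S)
    rw [Finset.insert_erase ha] at h8
    omega
  -- distinct pairs give distinct hyperplanes
  have hdist : ∀ i j k : Fin r, i ≠ j → i ≠ k → j ≠ k →
      WS σ Q ((Finset.univ.erase i).erase j) ≠ WS σ Q ((Finset.univ.erase i).erase k) := by
    intro i j k hij hik hjk he
    obtain ⟨T, hT⟩ : ∃ T : Fin r → Finset (Fin r), T = fun x => Finset.univ.erase x := ⟨_, rfl⟩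
    have hTi : WS σ Q (T i) = WS σ Q ((T i).erase j) := by
      refine le_antisymm (le_trans (B.le_sup (S := T i) ?_ (a := j) (b := k) ?_ ?_ hjk) ?_)
        (WS_mono (Finset.erase_subset _ _))
      · rw [hT, Finset.card_erase_of_mem (Finset.mem_univ _), Finset.card_univ, Fintype.card_fin]; omega
      · rw [hT]; exact Finset.mem_erase.2 ⟨hij.symm, Finset.mem_univ _⟩
      · rw [hT]; exact Finset.mem_erase.2 ⟨hik.symm, Finset.mem_univ _⟩
      · rw [hT, ← he, sup_idem]
    have hdim : ∀ x, finrank K ↥(WS σ Q (T x)) = r - 3 := by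
      intro x
      obtain ⟨y, hy⟩ : ∃ y : Fin r, y ≠ x := Fintype.exists_ne_of_one_lt_card (by simp; omega) x
      obtain ⟨g, hg, -⟩ := exists_pair (by omega) hy.symm hij
      obtain ⟨g', hg', -⟩ := exists_pair (by omega) hij hy.symm
      have l1 := Submodule.finrank_mono (WS_map_le (σ := σ) (Q := Q) g (S := T x) (S' := T i) fun z hz => by
        rw [hT] at hz ⊢
        refine Finset.mem_erase.2 ⟨fun e => Finset.ne_of_mem_erase hz ?_, Finset.mem_univ _⟩
        exact (g : Equiv.Perm (Fin r)).injective (e.trans hg.symm))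
      have l2 := Submodule.finrank_mono (WS_map_le (σ := σ) (Q := Q) g' (S := T i) (S' := T x) fun z hz => by
        rw [hT] at hz ⊢
        refine Finset.mem_erase.2 ⟨fun e => Finset.ne_of_mem_erase hz ?_, Finset.mem_univ _⟩
        exact (g' : Equiv.Perm (Fin r)).injective (e.trans hg'.symm))
      rw [finrank_map_sigma] at l1 l2
      have l3 : finrank K ↥(WS σ Q (T i)) = r - 3 := by rw [hTi, hT]; exact hd2 i j hij
      omega
    have hall : ∀ x, WS σ Q (T x) = WS σ Q (T i) := by
      intro x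
      by_cases hx : x = i
      · rw [hx]
      have e1 : WS σ Q ((T i).erase x) = WS σ Q (T i) := by
        refine Submodule.eq_of_le_of_finrank_le (WS_mono (Finset.erase_subset _ _)) ?_
        rw [hdim, hT, hd2 i x (Ne.symm hx)]
      have e2 : WS σ Q ((T i).erase x) = WS σ Q (T x) := by
        refine Submodule.eq_of_le_of_finrank_le
          (WS_mono (by rw [hT]; simp only; rw [Finset.erase_right_comm]; exact Finset.erase_subset _ _)) ?_
        rw [hdim, hT, hd2 i x (Ne.symm hx)]
      rw [← e2, e1]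
    rcases B.irr (WS σ Q (T i)) (fun g v hv => by
      have := WS_map_le (σ := σ) (Q := Q) g (S := T i) (S' := T ((g : Equiv.Perm (Fin r)) i)) (fun z hz => by
        rw [hT] at hz ⊢
        exact Finset.mem_erase.2 ⟨fun e => Finset.ne_of_mem_erase hz ((g : Equiv.Perm (Fin r)).injective e),
          Finset.mem_univ _⟩) ⟨v, hv, rfl⟩
      rwa [hall] at this) with h | h
    · have := hdim i; rw [h, finrank_bot] at this; omega
    · have := hdim i; rw [h, finrank_top] at this; omega
  exact ⟨hup, hd2, hdist⟩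

/-- The covectors of pairs. -/
theorem exists_lam (B : Blocks σ Q) (hn2 : finrank K V = r - 2) : ∃ lam : Fin r → Fin r → Dual K V,
    (∀ (g : A r) (i j : Fin r), i ≠ j →
      lam ((g : Equiv.Perm (Fin r)) i) ((g : Equiv.Perm (Fin r)) j) = (lam i j).comp (σ g⁻¹ : End K V)) ∧
    (∀ i j : Fin r, i ≠ j →
      lam i j ∈ (WS σ Q ((Finset.univ.erase i).erase j)).dualAnnihilator ∧ lam i j ≠ 0) ∧
    (∀ i j k : Fin r, i ≠ j → i ≠ k → j ≠ k → ∀ s t : K, s • lam i j + t • lam i k = 0 → s = 0 ∧ t = 0) := by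
  have hr := B.r9
  have hc3 := B.c3
  have hc4 := B.c4
  obtain ⟨hup, hd2, hdist⟩ := B.eq_dims hn2
  -- the covectors
  obtain ⟨o, ho⟩ : ∃ o : Fin r, (o : ℕ) = 0 := ⟨⟨0, by omega⟩, rfl⟩
  obtain ⟨l, hl⟩ : ∃ l : Fin r, (l : ℕ) = 1 := ⟨⟨1, by omega⟩, rfl⟩
  have hol : o ≠ l := fun e => by rw [e, hl] at ho; omega
  obtain ⟨lam₀, hlam₀, hlam₀0⟩ : ∃ φ ∈ (WS σ Q ((Finset.univ.erase o).erase l)).dualAnnihilator, φ ≠ 0 := by
    refine Submodule.exists_mem_ne_zero_of_ne_bot fun e => ?_
    have := Subspace.finrank_add_finrank_dualAnnihilator_eq (WS σ Q ((Finset.univ.erase o).erase l))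
    rw [e, finrank_bot, hd2 o l hol] at this
    omega
  choose g₀ hg₀a hg₀b using fun p : {p : Fin r × Fin r // p.1 ≠ p.2} => exists_pair (r := r) (by omega) hol p.2
  obtain ⟨lam, hlam⟩ : ∃ lam : Fin r → Fin r → Dual K V, lam = fun i j =>
      if h : i ≠ j then lam₀.comp (σ (g₀ ⟨(i, j), h⟩)⁻¹ : End K V) else 0 := ⟨_, rfl⟩
  have hwell : ∀ (g : A r) (i j : Fin r), (g : Equiv.Perm (Fin r)) o = i → (g : Equiv.Perm (Fin r)) l = j →
      lam i j = lam₀.comp (σ g⁻¹ : End K V) := by
    intro g i j hi hj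
    have hij : i ≠ j := hi ▸ hj ▸ (g : Equiv.Perm (Fin r)).injective.ne hol
    obtain ⟨g', hg'⟩ : ∃ g', g' = g₀ ⟨(i, j), hij⟩ := ⟨_, rfl⟩
    rw [hlam]; simp only [dif_pos hij]; rw [← hg']
    have hsupp : Supp ((Finset.univ.erase o).erase l) (g'⁻¹ * g) := by
      intro x hx
      simp only [Finset.mem_erase, Finset.mem_univ, and_true, not_and_or, not_not] at hx
      rw [Subgroup.coe_mul, Equiv.Perm.mul_apply, Subgroup.coe_inv, Equiv.Perm.inv_def, Equiv.symm_apply_eq]
      rcases hx with rfl | rfl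
      · rw [hj, hg']; exact (hg₀b ⟨(i, j), hij⟩).symm
      · rw [hi, hg']; exact (hg₀a ⟨(i, j), hij⟩).symm
    refine LinearMap.ext fun v => ?_
    show lam₀ ((σ g'⁻¹ : End K V) v) = lam₀ ((σ g⁻¹ : End K V) v)
    have hmem := B.rg_le (by rw [card_erase2 o l hol]; omega) hsupp (mem_rg (σ := σ) (g'⁻¹ * g) ((σ g⁻¹ : End K V) v))
    rw [apply_mul (ρ := σ) g'⁻¹ g, apply_inv' (ρ := σ) g v] at hmem
    exact sub_eq_zero.1 (by rw [← map_sub]; exact (Submodule.mem_dualAnnihilator _).1 hlam₀ _ hmem)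
  have hequi : ∀ (g : A r) (i j : Fin r), i ≠ j →
      lam ((g : Equiv.Perm (Fin r)) i) ((g : Equiv.Perm (Fin r)) j) = (lam i j).comp (σ g⁻¹ : End K V) := by
    intro g i j hij
    rw [hwell (g * g₀ ⟨(i, j), hij⟩) _ _ (by rw [Subgroup.coe_mul, Equiv.Perm.mul_apply, hg₀a])
      (by rw [Subgroup.coe_mul, Equiv.Perm.mul_apply, hg₀b]), hlam]
    simp only [dif_pos hij, mul_inv_rev, map_mul, Units.val_mul]
    rfl
  have hvan : ∀ i j : Fin r, i ≠ j →
      lam i j ∈ (WS σ Q ((Finset.univ.erase i).erase j)).dualAnnihilator ∧ lam i j ≠ 0 := by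
    intro i j hij
    refine ⟨(Submodule.mem_dualAnnihilator _).2 fun v hv => ?_, fun e => hlam₀0 ?_⟩
    · rw [hlam]; simp only [dif_pos hij]
      refine (Submodule.mem_dualAnnihilator _).1 hlam₀ _ (WS_map_le _ (fun x hx => ?_) ⟨v, hv, rfl⟩)
      simp only [Finset.mem_erase, Finset.mem_univ, and_true] at hx ⊢
      rw [Subgroup.coe_inv, Equiv.Perm.inv_def]
      refine ⟨fun e => hx.1 ?_, fun e => hx.2 ?_⟩
      · rw [Equiv.symm_apply_eq] at e; exact e.trans (hg₀b ⟨(i, j), hij⟩)
      · rw [Equiv.symm_apply_eq] at e; exact e.trans (hg₀a ⟨(i, j), hij⟩)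
    · rw [hlam] at e; simp only [dif_pos hij] at e
      refine LinearMap.ext fun v => ?_
      have h0 : lam₀ ((σ (g₀ ⟨(i, j), hij⟩)⁻¹ : End K V) ((σ (g₀ ⟨(i, j), hij⟩) : End K V) v)) = 0 :=
        congrArg (fun φ : Dual K V => φ ((σ (g₀ ⟨(i, j), hij⟩) : End K V) v)) e
      rwa [apply_inv (ρ := σ)] at h0
  -- covectors for pairs sharing a point are independent
  have hindep : ∀ i j k : Fin r, i ≠ j → i ≠ k → j ≠ k → ∀ s t : K, s • lam i j + t • lam i k = 0 → s = 0 ∧ t = 0 := by
    intro i j k hij hik hjk s t hst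
    have hker : ∀ p q : Fin r, p ≠ q → WS σ Q ((Finset.univ.erase p).erase q) = LinearMap.ker (lam p q) := by
      intro p q hpq
      refine Submodule.eq_of_le_of_finrank_le
        (fun v hv => (Submodule.mem_dualAnnihilator _).1 (hvan p q hpq).1 v hv) ?_
      rw [hd2 p q hpq]
      have h4 := LinearMap.finrank_range_add_finrank_ker (lam p q)
      have h5 : 1 ≤ finrank K ↥(LinearMap.range (lam p q)) := Submodule.one_le_finrank_iff.2 fun e =>
        (hvan p q hpq).2 (LinearMap.range_eq_bot.1 e)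
      omega
    by_cases ht : t = 0
    · rw [ht, zero_smul, add_zero] at hst
      exact ⟨(smul_eq_zero.1 hst).resolve_right (hvan i j hij).2, ht⟩
    · refine absurd ?_ (hdist i j k hij hik hjk)
      refine Submodule.eq_of_le_of_finrank_le (fun v hv => ?_) (by rw [hd2 i j hij, hd2 i k hik])
      rw [hker i k hik, LinearMap.mem_ker]
      have h1 : lam i j v = 0 := (Submodule.mem_dualAnnihilator _).1 (hvan i j hij).1 v hv
      have h2 := congrArg (fun φ : Dual K V => φ v) hst
      simp only [LinearMap.add_apply, LinearMap.smul_apply, h1, smul_eq_mul, mul_zero, zero_add,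
        LinearMap.zero_apply] at h2
      exact (mul_eq_zero.1 h2).resolve_left ht
  exact ⟨lam, hequi, hvan, hindep⟩

/-- The sign of reversal. -/
theorem exists_sign (B : Blocks σ Q) (hn2 : finrank K V = r - 2) (lam : Fin r → Fin r → Dual K V)
    (hequi : ∀ (g : A r) (i j : Fin r), i ≠ j →
      lam ((g : Equiv.Perm (Fin r)) i) ((g : Equiv.Perm (Fin r)) j) = (lam i j).comp (σ g⁻¹ : End K V))
    (hvan : ∀ i j : Fin r, i ≠ j →
      lam i j ∈ (WS σ Q ((Finset.univ.erase i).erase j)).dualAnnihilator ∧ lam i j ≠ 0)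
    (o l : Fin r) (hol : o ≠ l) : ∃ ε : K, ∀ i j : Fin r, i ≠ j → lam j i = ε • lam i j := by
  have hr := B.r9
  have hc3 := B.c3
  have hc4 := B.c4
  obtain ⟨hup, hd2, hdist⟩ := B.eq_dims hn2
  -- the sign
  obtain ⟨ε, hε⟩ : ∃ ε : K, lam l o = ε • lam o l := by
    obtain ⟨U, hU⟩ : ∃ U, U = (WS σ Q ((Finset.univ.erase o).erase l)).dualAnnihilator := ⟨_, rfl⟩
    have hU1 : finrank K ↥U = 1 := by
      have := Subspace.finrank_add_finrank_dualAnnihilator_eq (WS σ Q ((Finset.univ.erase o).erase l))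
      rw [← hU, hd2 o l hol] at this; omega
    obtain ⟨s, hs⟩ := exists_smul_eq_of_finrank_eq_one hU1
      (x := ⟨lam o l, hU ▸ (hvan o l hol).1⟩) (fun e => (hvan o l hol).2 (congrArg Subtype.val e))
      ⟨lam l o, by
        rw [hU, Finset.erase_right_comm]; exact (hvan l o hol.symm).1⟩
    exact ⟨s, (congrArg Subtype.val hs).symm⟩
  have heps : ∀ i j : Fin r, i ≠ j → lam j i = ε • lam i j := by
    intro i j hij
    obtain ⟨g, rfl, rfl⟩ := exists_pair (r := r) (by omega) hol hij
    rw [hequi g l o hol.symm, hequi g o l hol, hε, LinearMap.smul_comp]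
  exact ⟨ε, heps⟩

/-- The relation on three points. -/
theorem exists_rel (B : Blocks σ Q) (hn2 : finrank K V = r - 2) (lam : Fin r → Fin r → Dual K V)
    (hvan : ∀ i j : Fin r, i ≠ j →
      lam i j ∈ (WS σ Q ((Finset.univ.erase i).erase j)).dualAnnihilator ∧ lam i j ≠ 0)
    (hindep : ∀ i j k : Fin r, i ≠ j → i ≠ k → j ≠ k → ∀ s t : K, s • lam i j + t • lam i k = 0 → s = 0 ∧ t = 0)
    (ε : K) (heps : ∀ i j : Fin r, i ≠ j → lam j i = ε • lam i j)
    (o l u : Fin r) (hol : o ≠ l) (hou : o ≠ u) (hlu : l ≠ u) :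
    ∃ a b : K, lam u o = a • lam o l + b • lam l u := by
  have hr := B.r9
  have hc3 := B.c3
  have hc4 := B.c4
  obtain ⟨hup, hd2, hdist⟩ := B.eq_dims hn2
  obtain ⟨U, hU⟩ : ∃ U, U = (WS σ Q (Finset.univ \ {o, l, u})).dualAnnihilator := ⟨_, rfl⟩
  have hcard : (Finset.univ \ {o, l, u} : Finset (Fin r)).card = r - 3 := by
    rw [Finset.card_univ_sdiff, Fintype.card_fin]
    simp [hol, hou, hlu]
  have hU2 : finrank K ↥U = 2 := by
    have := Subspace.finrank_add_finrank_dualAnnihilator_eq (WS σ Q (Finset.univ \ {o, l, u}))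
    rw [← hU, hup _ hcard] at this; omega
  have hmem : ∀ p q : Fin r, p ≠ q → p ∈ ({o, l, u} : Finset _) → q ∈ ({o, l, u} : Finset _) → lam p q ∈ U := by
    intro p q hpq hp hq
    rw [hU]
    refine Submodule.dualAnnihilator_anti (WS_mono fun x hx => ?_) (hvan p q hpq).1
    rw [Finset.mem_sdiff] at hx
    exact Finset.mem_erase.2 ⟨fun e => hx.2 (e ▸ hq), Finset.mem_erase.2 ⟨fun e => hx.2 (e ▸ hp), hx.1⟩⟩
  have hli : LinearIndependent K ![lam o l, lam l u] := by
    rw [Fintype.linearIndependent_iff]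
    intro co hst
    suffices h01 : co 0 = 0 ∧ co 1 = 0 by
      intro i
      fin_cases i
      exacts [h01.1, h01.2]
    rw [Fin.sum_univ_two] at hst
    have h : co 0 • lam o l + co 1 • lam l u = 0 := hst
    rw [heps l o hol.symm, smul_smul] at h
    have := hindep l o u hol.symm hlu hou _ _ h
    refine ⟨(mul_eq_zero.1 this.1).resolve_right fun e => ?_, this.2⟩
    exact (hvan o l hol).2 (by rw [heps l o hol.symm, e, zero_smul])
  have hle : Submodule.span K (Set.range ![lam o l, lam l u]) ≤ U := by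
    rw [Submodule.span_le]
    rintro _ ⟨i, rfl⟩
    fin_cases i
    exacts [hmem o l hol (by simp) (by simp), hmem l u hlu (by simp) (by simp)]
  have heq := Submodule.eq_of_le_of_finrank_le hle (by rw [finrank_span_eq_card hli, Fintype.card_fin, hU2])
  have hm := hmem u o hou.symm (by simp) (by simp)
  rw [← heq] at hm
  obtain ⟨co, hco⟩ := (Submodule.mem_span_range_iff_exists_fun K).1 hm
  rw [Fin.sum_univ_two] at hco
  exact ⟨co 0, co 1, hco.symm⟩

/-- The degree is at least that of the deleted permutation module. -/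
theorem bound [DecidableEq K] (B : Blocks σ Q) : bd K r ≤ finrank K V := by
  have hr := B.r9
  have hfirst := B.lower_two
  by_cases hn : r - 1 ≤ finrank K V
  · unfold bd; split_ifs <;> omega
  have hn2 : finrank K V = r - 2 := by omega
  suffices hr0 : (r : K) = 0 by unfold bd; rw [if_pos hr0]; omega
  by_contra hr0
  obtain ⟨o, ho⟩ : ∃ o : Fin r, (o : ℕ) = 0 := ⟨⟨0, by omega⟩, rfl⟩
  obtain ⟨l, hl⟩ : ∃ l : Fin r, (l : ℕ) = 1 := ⟨⟨1, by omega⟩, rfl⟩
  obtain ⟨u, hu⟩ : ∃ u : Fin r, (u : ℕ) = 2 := ⟨⟨2, by omega⟩, rfl⟩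
  have hol : o ≠ l := fun e => by rw [e, hl] at ho; omega
  have hou : o ≠ u := fun e => by rw [e, hu] at ho; omega
  have hlu : l ≠ u := fun e => by rw [e, hu] at hl; omega
  obtain ⟨lam, hequi, hvan, hindep⟩ := B.exists_lam hn2
  obtain ⟨ε, heps⟩ := B.exists_sign hn2 lam hequi hvan o l hol
  obtain ⟨a, b, hab⟩ := B.exists_rel hn2 lam hvan hindep ε heps o l u hol hou hlu
  have hfin := perm_module (D := Dual K V) hr hr0 (fun g => LinearMap.lcomp K K (σ g⁻¹ : End K V)) lam o l u ho hl hu
    (fun g i j hij => hequi g i j hij) (fun i j hij => (hvan i j hij).2) hindep ε heps a b hab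
  rw [Subspace.dual_finrank_eq, hn2] at hfin
  omega

end Blocks

end Cfsg.Agent.Small.AltDeg
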