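import Cfsg.Agent.Lib.Small.AltDeg.SmallLin

/-!
The smallest faithful linear representations of alternating groups of degree at least nine.
-/

set_option autoImplicit false
set_option linter.unusedSectionVars false
set_option linter.unusedVariables false
set_option linter.style.haveILetI false

namespace Cfsg.Agent.Small.AltDeg

open Module

universe u v

variable {K : Type u} [Field K] [IsAlgClosed K] [DecidableEq K]
variable {V : Type v} [AddCommGroup V] [Module K V] [FiniteDimensional K V]
variable {r : ℕ} {σ : A r →* (End K V)ˣ}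

theorem bd_bounds (r : ℕ) : r - 2 ≤ bd K r ∧ bd K r ≤ r - 1 := by
  unfold bd; split_ifs <;> omega

/-- The statement for one degree. -/
def LinBound (K : Type u) [Field K] [DecidableEq K] (r : ℕ) : Prop :=
  ∀ (W : Type v) [AddCommGroup W] [Module K W] [FiniteDimensional K W] (τ : A r →* (End K W)ˣ),
    Function.Injective τ → bd K r ≤ finrank K W

/-- Endomorphisms of a line commute. -/
theorem comm_of_one (h : finrank K V = 1) (f g : End K V) : f * g = g * f := by
  obtain ⟨e, he, hs⟩ := finrank_eq_one_iff'.1 h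
  obtain ⟨a, ha⟩ := hs (f e)
  obtain ⟨b, hb⟩ := hs (g e)
  refine LinearMap.ext fun x => ?_
  obtain ⟨c, hc⟩ := hs x
  rw [← hc, End.mul_apply, End.mul_apply, map_smul, map_smul, map_smul, map_smul, ← ha, ← hb, map_smul, map_smul,
    ← ha, ← hb]
  module

theorem not_inj_line {m : ℕ} (hm : 5 ≤ m) (h : finrank K V ≤ 1) (τ : A m →* (End K V)ˣ) :
    ¬ Function.Injective τ := by
  intro hinj
  obtain ⟨x, y, hxy⟩ : ∃ x y : A 5, x * y ≠ y * x := by
    refine ⟨⟨c[0, 1, 2], Equiv.Perm.mem_alternatingGroup.2 (by decide)⟩,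
      ⟨c[2, 3, 4], Equiv.Perm.mem_alternatingGroup.2 (by decide)⟩, fun e => ?_⟩
    exact absurd (congrArg Subtype.val e) (by decide)
  refine hxy (emb_injective (Fin.castLEEmb hm) (hinj (Units.ext ?_)))
  simp only [map_mul, Units.val_mul]
  rcases Nat.lt_or_ge (finrank K V) 1 with h0 | h0
  · haveI : Subsingleton V := Module.finrank_zero_iff.1 (Nat.lt_one_iff.1 h0)
    exact Subsingleton.elim _ _
  · exact comm_of_one (by omega) _ _

/-- Blocks from four-groups. -/
theorem blocks_odd (hr : 9 ≤ r) (h2 : (2 : K) ≠ 0) (IH : ∀ s, 9 ≤ s → s < r → LinBound.{u, v} K s)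
    (hinj : Function.Injective σ)
    (hirr : ∀ U : Submodule K V, (∀ g : A r, ∀ v ∈ U, (σ g : End K V) v ∈ U) → U = ⊥ ∨ U = ⊤)
    (hn : finrank K V + 1 ≤ bd K r) : Blocks σ ({k14, k24} : Set (A 4)) where
  c3 := by norm_num
  c4 := le_rfl
  r9 := hr
  inj := hinj
  irr := hirr
  fix := by
    intro ι q hq g hg v hv
    obtain ⟨κ, hκ⟩ := exists_pts_eq (k := r - 4) (S := (pts ι)ᶜ)
      (by rw [Finset.card_compl, Fintype.card_fin, card_pts])
    obtain ⟨hw1, hw3, j1, j2⟩ := klein h2 hinj ι
    have hle := Submodule.finrank_le (rg σ (emb ι k14) ⊔ rg σ (emb ι k24))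
    have hn' := (bd_bounds (K := K) r).2
    have hfixW : ∀ i, ∀ x ∈ kW σ ι i, (σ g : End K V) x = x := by
      intro i
      refine fix_of_small (m := r - 4) (by omega) κ (kW σ ι i) (fun y => kW_comm ?_ ?_ i) (fun τ hτ => ?_) g
        (by rwa [hκ])
      · exact Supp.commute (hκ ▸ disjoint_compl_left) (emb_supp _ _) (emb_supp _ _)
      · exact Supp.commute (hκ ▸ disjoint_compl_left) (emb_supp _ _) (emb_supp _ _)
      · have hdim := kW_dim (σ := σ) ι i
        rcases Nat.lt_or_ge r 11 with h | h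
        · have := three_le h2 hτ (by omega)
          omega
        rcases Nat.lt_or_ge r 13 with h' | h'
        · have := four_le h2 hτ (by omega)
          omega
        · have := IH (r - 4) (by omega) (by omega) _ τ hτ
          have := (bd_bounds (K := K) (r - 4)).1
          omega
    have hsub : rg σ (emb ι q) ≤ LinearMap.ker ((σ g : End K V) - 1) := by
      have h0 : kW σ ι 0 ⊔ kW σ ι 1 ⊔ kW σ ι 2 ≤ LinearMap.ker ((σ g : End K V) - 1) := by
        refine sup_le (sup_le ?_ ?_) ?_ <;> intro x hx <;>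
          rw [LinearMap.mem_ker, LinearMap.sub_apply, End.one_apply, sub_eq_zero] <;> exact hfixW _ x hx
      rcases hq with rfl | rfl
      · exact j1.trans h0
      · exact j2.trans h0
    have := hsub hv
    rwa [LinearMap.mem_ker, LinearMap.sub_apply, End.one_apply, sub_eq_zero] at this
  base := by
    intro ι
    obtain ⟨hw1, hw3, -, -⟩ := klein h2 hinj ι
    have hle : rg σ (emb ι k14) ⊔ rg σ (emb ι k24) ≤ ⨆ q ∈ ({k14, k24} : Set (A 4)), rg σ (emb ι q) :=
      sup_le (le_iSup₂_of_le k14 (Or.inl rfl) le_rfl) (le_iSup₂_of_le k24 (Or.inr rfl) le_rfl)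
    have := Submodule.finrank_mono hle
    omega
  gen := by
    intro S hS H hH ι hι
    obtain ⟨μ, hμ⟩ := exists_pts (k := 2) (S := S \ pts ι) (by rw [Finset.card_sdiff_of_subset hι, card_pts]; omega)
    obtain ⟨i5, hi5, hi5S⟩ : ∃ i5 : Fin 5 ↪ Fin r, (Fin.castAddEmb 2).trans i5 = ι ∧ pts i5 ⊆ S := by
      refine ⟨⟨Fin.append ι μ, ?_⟩, Function.Embedding.ext fun i => Fin.append_left _ _ i, fun x hx => ?_⟩
      · rw [Fin.append_injective_iff]
        refine ⟨ι.injective, μ.injective, fun a b e => ?_⟩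
        exact (Finset.mem_sdiff.1 (hμ (mem_pts.2 ⟨b, rfl⟩))).2 (mem_pts.2 ⟨a, e⟩)
      · obtain ⟨i, rfl⟩ := mem_pts.1 hx
        refine Fin.addCases (m := 3) (n := 2) (motive := fun i => Fin.append ι μ i ∈ S) (fun j => ?_) (fun j => ?_) i
        · show Fin.append ι μ (Fin.castAdd 2 j) ∈ S
          rw [Fin.append_left]; exact hι (mem_pts.2 ⟨j, rfl⟩)
        · show Fin.append ι μ (Fin.natAdd 3 j) ∈ S
          rw [Fin.append_right]; exact (Finset.mem_sdiff.1 (hμ (mem_pts.2 ⟨j, rfl⟩))).1
    obtain ⟨κ1, κ2, hk⟩ : ∃ κ1 κ2 : Fin 4 ↪ Fin 5, emb (Fin.castAddEmb 2) a3 = emb κ1 k14 * emb κ2 k14 := by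
      obtain ⟨κ1, hκ1⟩ : ∃ κ : Fin 4 ↪ Fin 5, κ = ⟨![0, 1, 3, 4], by decide⟩ := ⟨_, rfl⟩
      obtain ⟨κ2, hκ2⟩ : ∃ κ : Fin 4 ↪ Fin 5, κ = ⟨![3, 4, 1, 2], by decide⟩ := ⟨_, rfl⟩
      refine ⟨κ1, κ2, ?_⟩
      have e0 : emb (Fin.castAddEmb 2) a3 =
          (⟨c[(0 : Fin 5), 1, 2], Equiv.Perm.mem_alternatingGroup.2 (by decide)⟩ : A 5) := by
        refine ext_emb (ι := Fin.castAddEmb 2) (fun i => ?_) (emb_supp _ _) (fun x hx => ?_)
        · rw [emb_apply]; revert i; decide
        · simp only [mem_pts] at hx; revert x; decide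
      have e1 : emb κ1 k14 =
          (⟨c[(0 : Fin 5), 1] * c[3, 4], Equiv.Perm.mem_alternatingGroup.2 (by decide)⟩ : A 5) := by
        refine ext_emb (ι := κ1) (fun i => ?_) (emb_supp _ _) (fun x hx => ?_)
        · rw [emb_apply, hκ1]; revert i; decide
        · simp only [mem_pts, hκ1] at hx; revert x; decide
      have e2 : emb κ2 k14 =
          (⟨c[(3 : Fin 5), 4] * c[1, 2], Equiv.Perm.mem_alternatingGroup.2 (by decide)⟩ : A 5) := by
        refine ext_emb (ι := κ2) (fun i => ?_) (emb_supp _ _) (fun x hx => ?_)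
        · rw [emb_apply, hκ2]; revert i; decide
        · simp only [mem_pts, hκ2] at hx; revert x; decide
      rw [e0, e1, e2]
      exact Subtype.ext (by decide)
    have hin : ∀ κ : Fin 4 ↪ Fin 5, pts (κ.trans i5) ⊆ S := fun κ x hx => by
      obtain ⟨i, rfl⟩ := mem_pts.1 hx
      exact hi5S (mem_pts.2 ⟨κ i, rfl⟩)
    rw [← hi5, ← emb_trans, hk, map_mul, emb_trans, emb_trans]
    exact H.mul_mem (hH _ (hin _) _ (Or.inl rfl)) (hH _ (hin _) _ (Or.inl rfl))
  rank2 := by
    intro ι
    obtain ⟨d, hd⟩ : ((pts ι)ᶜ : Finset (Fin r)).Nonempty := by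
      rw [← Finset.card_pos, Finset.card_compl, Fintype.card_fin, card_pts]; omega
    rw [Finset.mem_compl] at hd
    obtain ⟨i4, hi4⟩ : ∃ i4 : Fin 4 ↪ Fin r, i4 = ⟨Fin.append ι ![d], by
        rw [Fin.append_injective_iff]
        refine ⟨ι.injective, Function.injective_of_subsingleton _, fun a b e => hd (mem_pts.2 ⟨a, ?_⟩)⟩
        fin_cases b; exact e⟩ := ⟨_, rfl⟩
    obtain ⟨μ, hμ⟩ : ∃ μ : Fin 3 ↪ Fin r, μ = (⟨![0, 1, 3], by decide⟩ : Fin 3 ↪ Fin 4).trans i4 := ⟨_, rfl⟩
    have ea : emb i4 a4 = emb ι a3 := by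
      have e0 : a4 = emb (Fin.castAddEmb 1 : Fin 3 ↪ Fin 4) a3 := by
        refine ext_emb (ι := Fin.castAddEmb 1) (fun i => ?_) (fun x hx => ?_) (emb_supp _ _)
        · rw [emb_apply]; revert i; decide
        · simp only [mem_pts] at hx; revert x; decide
      rw [e0, emb_trans]
      congr 2
      exact Function.Embedding.ext fun i => by rw [hi4]; exact Fin.append_left _ _ i
    have eb : emb i4 b4 = emb μ a3 := by
      obtain ⟨κ, hκ⟩ : ∃ κ : Fin 3 ↪ Fin 4, κ = ⟨![0, 1, 3], by decide⟩ := ⟨_, rfl⟩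
      have e0 : b4 = emb κ a3 := by
        refine ext_emb (ι := κ) (fun i => ?_) (fun x hx => ?_) (emb_supp _ _)
        · rw [emb_apply, hκ]; revert i; decide
        · simp only [mem_pts, hκ] at hx; revert x; decide
      rw [e0, emb_trans, hμ, hκ]
    obtain ⟨U, hU⟩ : ∃ U, U = rg σ (emb ι a3) ⊔ rg σ (emb μ a3) := ⟨_, rfl⟩
    have ha : emb i4 a4 ∈ intoSub σ U := ea ▸ (hU ▸ le_sup_left : rg σ (emb ι a3) ≤ U)
    have hb : emb i4 b4 ∈ intoSub σ U := eb ▸ (hU ▸ le_sup_right : rg σ (emb μ a3) ≤ U)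
    obtain ⟨-, -, -, -, -, e24, e14, -⟩ := k4_rel
    have hk24 : emb i4 k24 ∈ intoSub σ U := by rw [e24, map_mul]; exact mul_mem ha hb
    have hk14 : emb i4 k14 ∈ intoSub σ U := by
      rw [e14, map_mul, map_mul, map_mul]; exact mul_mem (mul_mem ha hb) (mul_mem hb ha)
    have h1 := Submodule.finrank_mono (sup_le hk14 hk24 : rg σ (emb i4 k14) ⊔ rg σ (emb i4 k24) ≤ U)
    obtain ⟨hw1, hw3, -, -⟩ := klein h2 hinj i4
    have h4 := Submodule.finrank_add_le_finrank_add_finrank (rg σ (emb ι a3)) (rg σ (emb μ a3))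
    rw [← hU] at h4
    obtain ⟨g, -, hg⟩ := exists_conj (r := r) (by omega) ι μ
    have h5 : finrank K ↥(rg σ (emb μ a3)) = finrank K ↥(rg σ (emb ι a3)) := by
      rw [← hg, ← rg_conj, finrank_map_sigma]
    omega

/-- In characteristic two, three-cycles without fixed vectors are impossible in this range. -/
theorem no_fpf (hr : 10 ≤ r) (h5 : (5 : K) ≠ 0) (hinj : Function.Injective σ) (hn : finrank K V ≤ 9)
    (hfix : ∀ ι : Fin 3 ↪ Fin r, (σ (emb ι a3) : End K V).eigenspace 1 = ⊥) : False := by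
  have h := pair (lin_cov σ) (lin_faith (by omega) hinj) h5 hr fun ι W hW0 hW => ?_
  · omega
  by_contra hlt
  obtain ⟨v, hv, hv0⟩ := Submodule.exists_mem_ne_zero_of_ne_bot hW0
  have hfx : (σ (emb ((Fin.castAddEmb 2).trans ι) a3) : End K V) v = v :=
    fix_of_small (m := 5) le_rfl ι W (fun x => hW ⟨emb ι x, ⟨x, rfl⟩⟩)
      (fun τ hτ => not_inj_line le_rfl (by omega) τ hτ) _ (by
        rw [← emb_trans]; exact emb_supp _ _) v hv
  refine hv0 ?_
  rw [← Submodule.mem_bot K, ← hfix ((Fin.castAddEmb 2).trans ι), End.mem_eigenspace_iff, one_smul]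
  exact hfx

/-- Blocks from three-cycles. -/
theorem blocks_two (hr : 9 ≤ r) (h2 : (2 : K) = 0) (IH : ∀ s, 9 ≤ s → s < r → LinBound.{u, v} K s)
    (hinj : Function.Injective σ)
    (hirr : ∀ U : Submodule K V, (∀ g : A r, ∀ v ∈ U, (σ g : End K V) v ∈ U) → U = ⊥ ∨ U = ⊤)
    (hn : finrank K V + 1 ≤ bd K r) : Blocks σ ({a3} : Set (A 3)) where
  c3 := le_rfl
  c4 := by norm_num
  r9 := hr
  inj := hinj
  irr := hirr
  fix := by
    have h3 : (3 : K) ≠ 0 := fun e => one_ne_zero (α := K) (by linear_combination e - h2)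
    have h5 : (5 : K) ≠ 0 := fun e => one_ne_zero (α := K) (by linear_combination e - 2 * h2)
    intro ι q hq g hg
    obtain rfl : q = a3 := hq
    obtain ⟨κ, hκ⟩ := exists_pts_eq (k := r - 3) (S := (pts ι)ᶜ)
      (by rw [Finset.card_compl, Fintype.card_fin, card_pts])
    obtain ⟨ζ, hζ, hζ3, hw1, hw2, hrg, heq, htot⟩ := three_split h3 hinj (by omega) ι
    have hn' := (bd_bounds (K := K) r).2
    have hinvE : ∀ (η : K) (x : A (r - 3)), ∀ w ∈ (σ (emb ι a3) : End K V).eigenspace η,
        (σ (emb κ x) : End K V) w ∈ (σ (emb ι a3) : End K V).eigenspace η := fun η x =>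
      eigen_invariant (by
        rw [← Units.val_mul, ← Units.val_mul, ← map_mul, ← map_mul,
          (Supp.commute (hκ ▸ disjoint_compl_left) (emb_supp κ x) (emb_supp ι a3)).eq]) η
    have six : ∀ (s : ℕ), 6 ≤ s → ∀ (W : Type v) [AddCommGroup W] [Module K W] [FiniteDimensional K W]
        (τ : A s →* (End K W)ˣ), Function.Injective τ → 4 ≤ finrank K W := fun s hs W _ _ _ τ hτ =>
      (lin_cov τ).six_bound (lin_faith (by omega) hτ) h3 hs
    by_cases hbad : ∀ η : K, finrank K ↥((σ (emb ι a3) : End K V).eigenspace η) =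
        finrank K ↥((σ (emb ι a3) : End K V).eigenspace ζ) → ∀ τ : A (r - 3) →* (End K
          ↥((σ (emb ι a3) : End K V).eigenspace η))ˣ, ¬ Function.Injective τ
    · intro v hv
      have hle : rg σ (emb ι a3) ≤ LinearMap.ker ((σ g : End K V) - 1) := by
        refine hrg.trans (sup_le ?_ ?_) <;> intro w hw <;>
          rw [LinearMap.mem_ker, LinearMap.sub_apply, End.one_apply, sub_eq_zero]
        · exact fix_of_small (by omega) κ _ (hinvE ζ) (hbad ζ rfl) g (by rwa [hκ]) w hw
        · exact fix_of_small (by omega) κ _ (hinvE (ζ ^ 2)) (hbad (ζ ^ 2) heq) g (by rwa [hκ]) w hw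
      have := hle hv
      rwa [LinearMap.mem_ker, LinearMap.sub_apply, End.one_apply, sub_eq_zero] at this
    exfalso
    push Not at hbad
    obtain ⟨η, hη, τ, hτ⟩ := hbad
    have hw4 := six _ (by omega) _ τ hτ
    rcases Nat.lt_or_ge r 12 with h12 | h12
    swap
    · have := IH (r - 3) (by omega) (by omega) _ τ hτ
      have := (bd_bounds (K := K) (r - 3)).1
      omega
    rcases (show r = 9 ∨ r = 10 ∨ r = 11 by omega) with rfl | rfl | rfl
    · omega
    · have : bd K 10 = 8 := by
        rw [bd, if_pos (show ((10 : ℕ) : K) = 0 by push_cast; linear_combination 5 * h2)]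
      omega
    -- degree eleven: no three-cycle fixes a vector
    have hdimF : ∀ ι' : Fin 3 ↪ Fin 11, finrank K ↥((σ (emb ι' a3) : End K V).eigenspace 1) =
        finrank K ↥((σ (emb ι a3) : End K V).eigenspace 1) ∧
        ∀ g : A 11, (∀ x, g * emb ι' a3 = emb x a3 * g →
          ((σ (emb ι' a3) : End K V).eigenspace 1).map (σ g : End K V) ≤ (σ (emb x a3) : End K V).eigenspace 1) := by
      intro ι'
      have hmap : ∀ (g : A 11) (x y : Fin 3 ↪ Fin 11), g * emb x a3 = emb y a3 * g →
          ((σ (emb x a3) : End K V).eigenspace 1).map (σ g : End K V) ≤ (σ (emb y a3) : End K V).eigenspace 1 := by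
        rintro g x y e _ ⟨w, hw, rfl⟩
        rw [SetLike.mem_coe, End.mem_eigenspace_iff, one_smul] at hw
        rw [End.mem_eigenspace_iff, one_smul, ← apply_mul, ← e, apply_mul, hw]
      refine ⟨?_, fun g x e => hmap g ι' x e⟩
      obtain ⟨g1, -, hg1⟩ := exists_conj (r := 11) (by norm_num) ι' ι
      obtain ⟨g2, -, hg2⟩ := exists_conj (r := 11) (by norm_num) ι ι'
      have l1 := Submodule.finrank_mono (hmap g1 ι' ι (by rw [← hg1, inv_mul_cancel_right]))
      have l2 := Submodule.finrank_mono (hmap g2 ι ι' (by rw [← hg2, inv_mul_cancel_right]))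
      rw [finrank_map_sigma] at l1 l2
      omega
    have hdisj : ∀ x y : Fin 3 ↪ Fin 11, Disjoint (pts x) (pts y) →
        (σ (emb x a3) : End K V).eigenspace 1 = (σ (emb y a3) : End K V).eigenspace 1 := by
      intro x y hxy
      refine Submodule.eq_of_le_of_finrank_le (fun w hw => ?_) (by rw [(hdimF x).1, (hdimF y).1])
      obtain ⟨μ, hμ⟩ := exists_pts_eq (k := 8) (S := (pts x)ᶜ)
        (by rw [Finset.card_compl, Fintype.card_fin, card_pts])
      rw [End.mem_eigenspace_iff, one_smul]
      refine fix_of_small (m := 8) (by norm_num) μ _ (fun z => eigen_invariant (by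
          rw [← Units.val_mul, ← Units.val_mul, ← map_mul, ← map_mul,
            (Supp.commute (hμ ▸ disjoint_compl_left) (emb_supp μ z) (emb_supp x a3)).eq]) 1)
        (fun τ' hτ' => ?_) _ (hμ ▸ (emb_supp y a3).mono fun z hz =>
          Finset.mem_compl.2 fun hz' => Finset.disjoint_left.1 hxy hz' hz) w hw
      have := six _ (by norm_num) _ τ' hτ'
      have := (hdimF x).1
      omega
    have hall : ∀ x y : Fin 3 ↪ Fin 11,
        (σ (emb x a3) : End K V).eigenspace 1 = (σ (emb y a3) : End K V).eigenspace 1 := by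
      intro x y
      obtain ⟨z, hz⟩ := exists_pts (k := 3) (S := (pts x ∪ pts y)ᶜ) (by
        have := Finset.card_union_le (pts x) (pts y)
        rw [card_pts, card_pts] at this
        rw [Finset.card_compl, Fintype.card_fin]; omega)
      rw [hdisj x z (Finset.disjoint_left.2 fun w hw hw' => Finset.mem_compl.1 (hz hw') (Finset.mem_union_left _ hw)),
        hdisj y z (Finset.disjoint_left.2 fun w hw hw' => Finset.mem_compl.1 (hz hw') (Finset.mem_union_right _ hw))]
    obtain ⟨x0, -⟩ := exists_pts (k := 3) (S := (Finset.univ : Finset (Fin 11))) (by simp)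
    have hbot : (σ (emb x0 a3) : End K V).eigenspace 1 = ⊥ := by
      rcases hirr ((σ (emb x0 a3) : End K V).eigenspace 1) (fun g w hw => by
        have := (hdimF x0).2 g (x0.trans (g : Equiv.Perm (Fin 11)).toEmbedding)
          (by rw [← conj_emb g x0 (x0.trans (g : Equiv.Perm (Fin 11)).toEmbedding) (fun i => rfl), inv_mul_cancel_right]) ⟨w, hw, rfl⟩
        rwa [← hall x0] at this) with e | e
      · exact e
      · exfalso
        have := hinj (a₁ := emb x0 a3) (a₂ := 1) (by
          rw [map_one]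
          refine Units.ext (LinearMap.ext fun w => ?_)
          have hw : w ∈ (σ (emb x0 a3) : End K V).eigenspace 1 := e ▸ Submodule.mem_top
          rw [End.mem_eigenspace_iff, one_smul] at hw
          exact hw)
        rw [← map_one (emb x0)] at this
        exact absurd (congrArg Subtype.val (emb_injective x0 this)) (by decide)
    exact no_fpf (by norm_num) h5 hinj (by omega) fun x => (hall x x0).trans hbot
  base := by
    intro ι
    obtain ⟨ζ, -, -, hw1, hw2, -, -, -⟩ :=
      three_split (fun e => one_ne_zero (α := K) (by linear_combination e - h2)) hinj (by omega) ι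
    have hle : rg σ (emb ι a3) ≤ ⨆ q ∈ ({a3} : Set (A 3)), rg σ (emb ι q) := le_iSup₂_of_le a3 rfl le_rfl
    have := Submodule.finrank_mono hle
    omega
  gen := fun S hS H hH ι hι => hH ι hι a3 rfl
  rank2 := by
    intro ι
    obtain ⟨ζ, -, -, hw1, hw2, -, -, -⟩ :=
      three_split (fun e => one_ne_zero (α := K) (by linear_combination e - h2)) hinj (by omega) ι
    omega

/-- Faithful linear representations have degree at least that of the deleted permutation module. -/
theorem linear : ∀ (r : ℕ), 9 ≤ r → LinBound.{u, v} K r := by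
  intro r
  induction r using Nat.strong_induction_on with
  | _ r IH =>
    intro hr
    suffices H : ∀ (n : ℕ) (W : Type v) [AddCommGroup W] [Module K W] [FiniteDimensional K W]
        (τ : A r →* (End K W)ˣ), finrank K W = n → Function.Injective τ → bd K r ≤ n by
      intro W _ _ _ τ hτ
      exact H _ W τ rfl hτ
    intro n
    induction n using Nat.strong_induction_on with
    | _ n IHn =>
      intro W _ _ _ τ hn hτ
      by_contra hlt
      by_cases hirr : ∀ U : Submodule K W, (∀ g : A r, ∀ v ∈ U, (τ g : End K W) v ∈ U) → U = ⊥ ∨ U = ⊤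
      · by_cases h2 : (2 : K) = 0
        · have := (blocks_two hr h2 (fun s hs hs' => IH s hs' hs) hτ hirr (by omega)).bound
          omega
        · have := (blocks_odd hr h2 (fun s hs hs' => IH s hs' hs) hτ hirr (by omega)).bound
          omega
      push Not at hirr
      obtain ⟨U, hU, hU0, hUtop⟩ := hirr
      have hlt' := Submodule.finrank_lt (K := K) hUtop
      rcases triv_or_inj (by omega) (res τ U hU) with h | h
      · have := IHn _ (by omega) U (res τ U hU) rfl h
        omega
      -- the quotient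
      have hfixU : ∀ g, ∀ v ∈ U, (τ g : End K W) v = v := fun g v hv =>
        congrArg Subtype.val (congrArg (fun u : (End K U)ˣ => (u : End K U) ⟨v, hv⟩) (DFunLike.congr_fun h g))
      obtain ⟨q, hq⟩ : ∃ q : A r →* (End K (W ⧸ U))ˣ, ∀ g v,
          (q g : End K (W ⧸ U)) (Submodule.Quotient.mk v) = Submodule.Quotient.mk ((τ g : End K W) v) := by
        refine ⟨MonoidHom.toHomUnits
          { toFun := fun g => U.mapQ U (τ g : End K W) (hU g)
            map_one' := Submodule.linearMap_qext _ (LinearMap.ext fun v => by simp)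
            map_mul' := fun g h' => Submodule.linearMap_qext _ (LinearMap.ext fun v => by
              simp only [LinearMap.comp_apply, Submodule.mkQ_apply, Submodule.mapQ_apply, End.mul_apply]
              rw [apply_mul]) }, fun g v => rfl⟩
      rcases triv_or_inj (by omega) q with hq' | hq'
      · have h4 := U.finrank_quotient_add_finrank
        have h5 : 0 < finrank K U := Submodule.one_le_finrank_iff.2 hU0
        have := IHn _ (by omega) (W ⧸ U) q rfl hq'
        omega
      · -- unipotent, hence commutative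
        have hin : ∀ g v, (τ g : End K W) v - v ∈ U := fun g v => by
          rw [← Submodule.Quotient.eq, ← hq, hq']; rfl
        obtain ⟨x, y, hxy⟩ : ∃ x y : A r, x * y ≠ y * x := by
          obtain ⟨e5⟩ : Nonempty (Fin 5 ↪ Fin r) := ⟨Fin.castLEEmb (by omega)⟩
          refine ⟨emb e5 ⟨c[0, 1, 2], Equiv.Perm.mem_alternatingGroup.2 (by decide)⟩,
            emb e5 ⟨c[2, 3, 4], Equiv.Perm.mem_alternatingGroup.2 (by decide)⟩, fun e => ?_⟩
          rw [← map_mul, ← map_mul] at e
          exact absurd (congrArg Subtype.val (emb_injective e5 e)) (by decide)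
        refine hxy (hτ (Units.ext (LinearMap.ext fun v => ?_)))
        rw [apply_mul, apply_mul]
        have e1 : (τ x : End K W) ((τ y : End K W) v) = (τ x : End K W) v + ((τ y : End K W) v - v) := by
          conv_lhs => rw [← add_sub_cancel v ((τ y : End K W) v), map_add, hfixU x _ (hin y v)]
        have e2 : (τ y : End K W) ((τ x : End K W) v) = (τ y : End K W) v + ((τ x : End K W) v - v) := by
          conv_lhs => rw [← add_sub_cancel v ((τ x : End K W) v), map_add, hfixU y _ (hin x v)]
        rw [e1, e2]; abel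

end Cfsg.Agent.Small.AltDeg
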