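import Cfsg.Agent.Lib.Small.AltDeg.Spin

/-!
Two commuting elements of order five need degree ten.
-/

set_option autoImplicit false
set_option linter.unusedSectionVars false
set_option linter.unusedVariables false
set_option linter.style.haveILetI false

namespace Cfsg.Agent.Small.AltDeg

open Module

variable {K : Type*} [Field K] {V : Type*} [AddCommGroup V] [Module K V]
variable {G : Type*} [Group G] {r m k : ℕ} {π : G →* A r} {ρ : G →* (End K V)ˣ}

/-- The five-cycle. -/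
def f5 : A 5 := ⟨c[0, 1, 2, 3, 4], Equiv.Perm.mem_alternatingGroup.2 (by decide)⟩

theorem f5_pow : f5 ^ 5 = 1 := Subtype.ext (by decide)

theorem f5_ne : f5 ≠ 1 := fun e => absurd (congrArg Subtype.val e) (by decide)

/-- The eigenvalue of the image of an eigenvector. -/
theorem shift_eigen (f : End K V) (hf : f ^ 5 = 1) {η : K} (hη : η ^ 5 = 1) {u : V}
    (h : f (f u) = η • u) : f u = η ^ 3 • u := by
  have h6 : (f ^ 6) u = η ^ 3 • u := by
    rw [show 6 = 2 + (2 + 2) by norm_num, pow_add, pow_add, End.mul_apply, End.mul_apply, pow_two,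
      End.mul_apply, End.mul_apply, End.mul_apply, h, map_smul, map_smul, h, smul_smul, map_smul, map_smul, h,
      smul_smul]
    congr 1
    ring
  rw [show 6 = 5 + 1 by norm_num, pow_add, hf, one_mul, pow_one] at h6
  exact h6

theorem five_arith : ∀ i : Fin 5, ∀ j : Fin 5, i ≠ 0 → j ≠ 0 → ∃ k : Fin 4,
    (3 ^ (k : ℕ) * (3 * (j : ℕ))) % 5 = i ∧ (3 ^ (k : ℕ) * (i : ℕ)) % 5 ≠ j ∧
      (3 ^ (k : ℕ) * (i : ℕ)) % 5 ≠ 4 * (j : ℕ) % 5 ∧ (j : ℕ) ≠ 4 * (j : ℕ) % 5 := by decide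

theorem two_pow_inj : ∀ a : Fin 5, a ≠ 0 → ∀ x y : Fin 4,
    (a : ℕ) * (2 ^ (x : ℕ) % 5) % 5 = (a : ℕ) * (2 ^ (y : ℕ) % 5) % 5 → x = y := by decide

set_option maxHeartbeats 800000 in
/-- Two commuting elements of order five need degree ten. -/
theorem pair [FiniteDimensional K V] [IsAlgClosed K] (h : IsCov π ρ) (hf : Faith π ρ) (h5 : (5 : K) ≠ 0)
    (hr : 10 ≤ r)
    (hd : ∀ (ι : Fin 5 ↪ Fin r) (W : Submodule K V), W ≠ ⊥ →
      (∀ g : ↥(subG π ι), ∀ v ∈ W, (ρ g : End K V) v ∈ W) → 2 ≤ finrank K W) :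
    10 ≤ finrank K V := by
  by_contra hlt
  rw [not_le] at hlt
  have ho : Odd 5 := ⟨2, rfl⟩
  obtain ⟨P, S, I, A0, B0, hPA, hPB, hSA, hSB, hIA, hIB, hA5, hB5, hA1, hAB⟩ :
      ∃ P S I A0 B0 : A 10, P * A0 = B0 * P ∧ P * B0 = A0 ^ 2 * P ∧ S * A0 = A0 ^ 2 * S ∧
        S * B0 = B0 ^ 2 * S ∧ I * A0 = A0 * I ∧ I * B0 = B0 ^ 4 * I ∧
        A0 = emb (Fin.castAddEmb 5) f5 ∧ B0 = emb (Fin.natAddEmb 5) f5 ∧ A0 ≠ 1 ∧ A0 * B0 = B0 * A0 := by
    have eA : emb (Fin.castAddEmb 5) f5 =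
        (⟨c[(0 : Fin 10), 1, 2, 3, 4], Equiv.Perm.mem_alternatingGroup.2 (by decide)⟩ : A 10) := by
      refine ext_emb (ι := Fin.castAddEmb 5) (fun i => ?_) (emb_supp _ _) (fun x hx => ?_)
      · rw [emb_apply]; revert i; decide
      · simp only [mem_pts] at hx; revert x; decide
    have eB : emb (Fin.natAddEmb 5) f5 =
        (⟨c[(5 : Fin 10), 6, 7, 8, 9], Equiv.Perm.mem_alternatingGroup.2 (by decide)⟩ : A 10) := by
      refine ext_emb (ι := Fin.natAddEmb 5) (fun i => ?_) (emb_supp _ _) (fun x hx => ?_)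
      · rw [emb_apply]; revert i; decide
      · simp only [mem_pts] at hx; revert x; decide
    refine ⟨⟨c[0, 5] * c[1, 6, 2, 7, 4, 9, 3, 8], Equiv.Perm.mem_alternatingGroup.2 (by decide)⟩,
      ⟨c[1, 2, 4, 3] * c[6, 7, 9, 8], Equiv.Perm.mem_alternatingGroup.2 (by decide)⟩,
      ⟨c[6, 9] * c[7, 8], Equiv.Perm.mem_alternatingGroup.2 (by decide)⟩, _, _,
      ?_, ?_, ?_, ?_, ?_, ?_, eA.symm, eB.symm, ?_, ?_⟩ <;>
      first
        | exact Subtype.ext (by decide)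
        | exact fun e => absurd (congrArg Subtype.val e) (by decide)
  obtain ⟨e10, -⟩ : ∃ e : Fin 10 ↪ Fin r, True := ⟨Fin.castLEEmb hr, trivial⟩
  have hA : emb e10 A0 = emb ((Fin.castAddEmb 5).trans e10) f5 := by rw [hA5, emb_trans]
  have hB : emb e10 B0 = emb (((Fin.natAddEmb 5 : Fin 5 ↪ Fin 10)).trans e10) f5 := by rw [hB5, emb_trans]
  obtain ⟨a, ha, ha5⟩ := h.lift ho (a := emb e10 A0) (by rw [hA, ← map_pow, f5_pow, map_one])
  obtain ⟨b, hb, hb5⟩ := h.lift ho (a := emb e10 B0) (by rw [hB, ← map_pow, f5_pow, map_one])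
  obtain ⟨p, hp⟩ := h.surj (emb e10 P)
  obtain ⟨s, hs⟩ := h.surj (emb e10 S)
  obtain ⟨t, ht⟩ := h.surj (emb e10 I)
  have tw : ∀ (g x : G) (X Y : A 10) (n : ℕ), ρ g ^ 5 = 1 → π g = emb e10 Y → π x = emb e10 X →
      X * Y = Y ^ n * X → (ρ x : End K V) * (ρ g : End K V) = (ρ g : End K V) ^ n * (ρ x : End K V) := by
    intro g x X Y n hg hgY hxX hXY
    rw [← Units.val_pow_eq_pow_val, ← Units.val_mul, ← Units.val_mul,
      h.twist ho hg (t := x) (n := n) (by rw [hxX, hgY, ← map_mul, hXY, map_mul, map_pow])]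
  have hsa := tw a s S A0 2 ha5 ha hs hSA
  have hsb := tw b s S B0 2 hb5 hb hs hSB
  have hta := tw a t I A0 1 ha5 ha ht (by rw [pow_one]; exact hIA)
  have htb := tw b t I B0 4 hb5 hb ht hIB
  have hba := tw a b B0 A0 1 ha5 ha hb (by rw [pow_one]; exact hAB.symm)
  rw [pow_one] at hta hba
  have hexact : ∀ (x y z : G), ρ y ^ 5 = 1 → ρ z ^ 5 = 1 → π (x * y * x⁻¹ * z⁻¹) = 1 →
      (ρ x : End K V) * (ρ y : End K V) = (ρ z : End K V) * (ρ x : End K V) := by
    intro x y z hy hz hc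
    rw [← Units.val_mul, ← Units.val_mul]
    refine congrArg Units.val ?_
    rcases h.ker _ hc with e | e
    · rwa [map_mul, map_inv, mul_inv_eq_one, map_mul, map_mul, map_inv, mul_inv_eq_iff_eq_mul] at e
    · rw [map_mul, map_inv, mul_inv_eq_iff_eq_mul, map_mul, map_mul, map_inv] at e
      have e2 := congrArg (fun x => x ^ 5) e
      simp only [conj_pow, hy, mul_one, mul_inv_cancel, neg_one_mul, Odd.neg_pow ho, hz] at e2
      rw [mul_inv_eq_iff_eq_mul] at e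
      rw [e, ← e2, one_mul]
  have hpa : (ρ p : End K V) * (ρ a : End K V) = (ρ b : End K V) * (ρ p : End K V) :=
    hexact p a b ha5 hb5 (by
      rw [map_mul, map_mul, map_mul, map_inv, map_inv, hp, ha, hb, ← map_mul, hPA, map_mul, mul_inv_cancel_right,
        mul_inv_cancel])
  have hpb : (ρ p : End K V) * (ρ b : End K V) = (ρ (a ^ 2) : End K V) * (ρ p : End K V) :=
    hexact p b (a ^ 2) hb5 (by rw [map_pow, ← pow_mul, pow_mul', ha5, one_pow]) (by
      rw [map_mul, map_mul, map_mul, map_inv, map_inv, map_pow, hp, ha, hb, ← map_mul, hPB, map_mul, map_pow,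
        mul_inv_cancel_right, mul_inv_cancel])
  have hpow : ∀ x : G, ρ x ^ 5 = 1 → (ρ x : End K V) ^ 5 = 1 := fun x hx => by
    rw [← Units.val_pow_eq_pow_val, hx, Units.val_one]
  have hinj : ∀ x : G, Function.Injective (ρ x : End K V) := fun x =>
    Function.LeftInverse.injective (g := (ρ x⁻¹ : End K V)) fun v => apply_inv x v
  -- each eigenspace of a five-cycle is a module for the opposite alternating group
  have big : ∀ (x : G) (ι κ : Fin 5 ↪ Fin r), ρ x ^ 5 = 1 → π x = emb ι f5 → Disjoint (pts ι) (pts κ) →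
      ∀ η : K, (ρ x : End K V).eigenspace η ≠ ⊥ → 2 ≤ finrank K ((ρ x : End K V).eigenspace η) := by
    intro x ι κ hx5 hx hdis η hne
    refine hd κ _ hne fun g => ?_
    refine eigen_invariant ?_ η
    rw [← Units.val_mul, ← Units.val_mul, h.comm ho hx5 (by
      rw [hx, ← emb_subPi π κ g]; exact Supp.commute hdis.symm (emb_supp _ _) (emb_supp _ _))]
  have hdis : Disjoint (pts ((Fin.castAddEmb 5).trans e10)) (pts (((Fin.natAddEmb 5 : Fin 5 ↪ Fin 10)).trans e10)) := by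
    rw [Finset.disjoint_left]
    intro x hx hx'
    obtain ⟨i, rfl⟩ := mem_pts.1 hx
    obtain ⟨j, hj⟩ := mem_pts.1 hx'
    have e : (Fin.natAddEmb 5 j : Fin 10) = Fin.castAddEmb 5 i := e10.injective hj
    have := congrArg Fin.val e
    simp only [Fin.natAddEmb_apply, Fin.castAddEmb_apply, Fin.val_natAdd, Fin.val_castAdd] at this
    omega
  -- a primitive root
  obtain ⟨ζ, hζ, hζ5, hne⟩ := exists_eigen (ℓ := 5) (by exact_mod_cast h5) (ρ a : End K V) (hpow a ha5)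
    fun e => hA1 (emb_injective e10 (by rw [← ha, map_one]; exact hf a (Or.inl (Units.ext e))))
  have hprim : IsPrimitiveRoot ζ 5 := by
    haveI : Fact (Nat.Prime 5) := ⟨by norm_num⟩
    exact (orderOf_eq_prime hζ5 hζ) ▸ IsPrimitiveRoot.orderOf ζ
  obtain ⟨Ea, hEa⟩ : ∃ E : ℕ → Submodule K V, E = fun i => (ρ a : End K V).eigenspace (ζ ^ i) := ⟨_, rfl⟩
  obtain ⟨Eb, hEb⟩ : ∃ E : ℕ → Submodule K V, E = fun i => (ρ b : End K V).eigenspace (ζ ^ i) := ⟨_, rfl⟩
  have hmod : ∀ i : ℕ, ζ ^ i = ζ ^ (i % 5) := fun i => pow_eq_pow_mod i hζ5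
  have hroot : ∀ i : ℕ, (ζ ^ i) ^ 5 = 1 := fun i => by rw [← pow_mul, mul_comm, pow_mul, hζ5, one_pow]
  -- the three maps
  have stepS : ∀ i j v, v ∈ Ea i → v ∈ Eb j → (ρ s : End K V) v ∈ Ea (3 * i) ∧ (ρ s : End K V) v ∈ Eb (3 * j) := by
    intro i j v hi hj
    rw [hEa] at hi ⊢; rw [hEb] at hj ⊢
    simp only [End.mem_eigenspace_iff] at hi hj ⊢
    constructor <;> rw [mul_comm, pow_mul]
    · refine shift_eigen _ (hpow a ha5) (hroot i) ?_
      rw [← End.mul_apply (ρ a : End K V), ← pow_two, ← End.mul_apply, ← hsa, End.mul_apply, hi, map_smul]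
    · refine shift_eigen _ (hpow b hb5) (hroot j) ?_
      rw [← End.mul_apply (ρ b : End K V), ← pow_two, ← End.mul_apply, ← hsb, End.mul_apply, hj, map_smul]
  have stepP : ∀ i j v, v ∈ Ea i → v ∈ Eb j → (ρ p : End K V) v ∈ Ea (3 * j) ∧ (ρ p : End K V) v ∈ Eb i := by
    intro i j v hi hj
    rw [hEa] at hi ⊢; rw [hEb] at hj ⊢
    simp only [End.mem_eigenspace_iff] at hi hj ⊢
    constructor
    · rw [mul_comm, pow_mul]
      refine shift_eigen _ (hpow a ha5) (hroot j) ?_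
      rw [← End.mul_apply (ρ a : End K V), ← Units.val_mul, ← pow_two, ← map_pow, ← End.mul_apply, ← hpb,
        End.mul_apply, hj, map_smul]
    · rw [← End.mul_apply, ← hpa, End.mul_apply, hi, map_smul]
  have stepT : ∀ i j v, v ∈ Ea i → v ∈ Eb j → (ρ t : End K V) v ∈ Ea i ∧ (ρ t : End K V) v ∈ Eb (4 * j) := by
    intro i j v hi hj
    rw [hEa] at hi ⊢; rw [hEb] at hj ⊢
    simp only [End.mem_eigenspace_iff] at hi hj ⊢
    constructor
    · rw [← End.mul_apply, ← hta, End.mul_apply, hi, map_smul]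
    · have e4 : ((ρ b : End K V) ^ 4) ((ρ t : End K V) v) = ζ ^ j • (ρ t : End K V) v := by
        rw [← End.mul_apply, ← htb, End.mul_apply, hj, map_smul]
      have e5 := congrArg (ρ b : End K V) e4
      rw [← End.mul_apply, ← pow_succ', hpow b hb5, End.one_apply, map_smul] at e5
      have e6 := congrArg (fun w => ζ ^ (4 * j) • w) e5
      simp only [smul_smul, ← pow_add] at e6
      rw [show 4 * j + j = 5 * j by ring, pow_mul ζ 5 j, hζ5, one_pow, one_smul] at e6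
      exact e6.symm
  -- no fixed vectors, and the other eigenspaces are planes
  have iterS : ∀ (k i j : ℕ) v, v ∈ Ea i → v ∈ Eb j → v ≠ 0 →
      ∃ u, u ≠ 0 ∧ u ∈ Ea (3 ^ k * i) ∧ u ∈ Eb (3 ^ k * j) := by
    intro k
    induction k with
    | zero => intro i j v h1 h2 h0; exact ⟨v, h0, by simpa using h1, by simpa using h2⟩
    | succ k ih =>
      intro i j v h1 h2 h0
      obtain ⟨u, hu, hu1, hu2⟩ := ih i j v h1 h2 h0
      obtain ⟨q1, q2⟩ := stepS _ _ u hu1 hu2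
      refine ⟨_, fun e => hu (hinj s (e.trans (map_zero _).symm)), ?_, ?_⟩
      · rwa [pow_succ', mul_assoc]
      · rwa [pow_succ', mul_assoc]
  have hsaU : ρ s * ρ a = ρ a ^ 2 * ρ s :=
    Units.ext (by rw [Units.val_mul, Units.val_mul, Units.val_pow_eq_pow_val]; exact hsa)
  have hdimle : ∀ i, i % 5 ≠ 0 → finrank K ↥(Ea i) ≤ 2 := by
    intro i hi
    by_contra hc
    have hi5 : i % 5 < 5 := Nat.mod_lt _ (by norm_num)
    have := orbit_bound (ρ a : End K V) (ρ s)⁻¹ 2 4 3 (ζ ^ i)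
      (by
        rw [← Units.val_pow_eq_pow_val, ← Units.val_mul, ← Units.val_mul]
        refine congrArg Units.val ?_
        rw [eq_inv_mul_iff_mul_eq, ← mul_assoc]
        rw [hsaU, mul_inv_cancel_right])
      (fun x y hxy => by
        have e' : (ζ ^ i) ^ 2 ^ (x : ℕ) = (ζ ^ i) ^ 2 ^ (y : ℕ) := hxy
        rw [← pow_mul, ← pow_mul, hmod, hmod (i * 2 ^ (y : ℕ))] at e'
        have e2 := hprim.pow_inj (Nat.mod_lt _ (by norm_num)) (Nat.mod_lt _ (by norm_num)) e'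
        rw [Nat.mul_mod, Nat.mul_mod i (2 ^ (y : ℕ))] at e2
        exact two_pow_inj ⟨i % 5, hi5⟩ (fun e => hi (congrArg Fin.val e)) x y e2)
      (by rw [hEa] at hc; simp only at hc; omega)
    omega
  -- a five-cycle moves every vector
  have nofix : ∀ (x s' : G) (ι κ : Fin 5 ↪ Fin r), ρ x ^ 5 = 1 → π x = emb ι f5 → Disjoint (pts ι) (pts κ) →
      (ρ s' : End K V) * (ρ x : End K V) = (ρ x : End K V) ^ 2 * (ρ s' : End K V) →
      (ρ x : End K V).eigenspace 1 = ⊥ := by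
    intro x s' ι κ hx5 hx hdis' hsx
    by_contra h1
    obtain ⟨η, hη, hη5, hηne⟩ := exists_eigen (ℓ := 5) (by exact_mod_cast h5) (ρ x : End K V) (hpow x hx5)
      fun e => f5_ne (emb_injective ι (by rw [← hx, map_one]; exact hf x (Or.inl (Units.ext e))))
    have hηp : IsPrimitiveRoot η 5 := by
      haveI : Fact (Nat.Prime 5) := ⟨by norm_num⟩
      exact (orderOf_eq_prime hη5 hη) ▸ IsPrimitiveRoot.orderOf η
    have hnz : ∀ k : ℕ, (ρ x : End K V).eigenspace (η ^ 3 ^ k) ≠ ⊥ := by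
      intro k
      induction k with
      | zero => simpa using hηne
      | succ k ih =>
        obtain ⟨v, hv, hv0⟩ := Submodule.exists_mem_ne_zero_of_ne_bot ih
        refine fun e => hv0 (hinj s' ((Submodule.mem_bot K).1 (e ▸ ?_) |>.trans (map_zero _).symm))
        rw [End.mem_eigenspace_iff] at hv ⊢
        rw [pow_succ, pow_mul]
        refine shift_eigen _ (hpow x hx5) (by rw [← pow_mul, mul_comm, pow_mul, hη5, one_pow]) ?_
        rw [← End.mul_apply (ρ x : End K V), ← pow_two, ← End.mul_apply, ← hsx, End.mul_apply, hv, map_smul]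
    have hall : ∀ i : Fin 5, (ρ x : End K V).eigenspace (η ^ (i : ℕ)) ≠ ⊥ := by
      intro i
      by_cases hi : i = 0
      · rw [hi]; simpa using h1
      · obtain ⟨k, hk⟩ : ∃ k : Fin 4, 3 ^ (k : ℕ) % 5 = (i : ℕ) := by revert hi; revert i; decide
        rw [← hk, ← pow_eq_pow_mod _ hη5]
        exact hnz k
    have := sum_indep (fun i : Fin 5 => (ρ x : End K V).eigenspace (η ^ (i : ℕ)))
      ((End.eigenspaces_iSupIndep _).comp fun i j e => Fin.ext (hηp.pow_inj i.2 j.2 e))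
      fun i => big x ι κ hx5 hx hdis' _ (hall i)
    omega
  have hfa := nofix a s _ _ ha5 (ha.trans hA) hdis hsa
  have hfb := nofix b s _ _ hb5 (hb.trans hB) hdis.symm hsb
  -- a joint eigenvector
  have hinvb : ∀ v ∈ (ρ a : End K V).eigenspace ζ, (ρ b : End K V) v ∈ (ρ a : End K V).eigenspace ζ :=
    eigen_invariant hba ζ
  haveI := Submodule.nontrivial_iff_ne_bot.2 hne
  obtain ⟨θ, hθ⟩ := End.exists_eigenvalue ((ρ b : End K V).restrict hinvb)
  obtain ⟨x, hx⟩ := hθ.exists_hasEigenvector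
  have hbv : (ρ b : End K V) (x : V) = θ • (x : V) := congrArg Subtype.val hx.apply_eq_smul
  have hv0 : (x : V) ≠ 0 := fun e => hx.2 (Subtype.ext e)
  have hθ5 : θ ^ 5 = 1 := by
    have hpw : ∀ i : ℕ, ((ρ b : End K V) ^ i) (x : V) = θ ^ i • (x : V) := fun i => by
      induction i with
      | zero => simp
      | succ i ih => rw [pow_succ, End.mul_apply, hbv, map_smul, ih, smul_smul, pow_succ, mul_comm]
    have h' := hpw 5
    rw [hpow b hb5, End.one_apply] at h'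
    exact smul_left_injective K hv0 (show θ ^ 5 • (x : V) = (1 : K) • (x : V) by rw [one_smul, ← h'])
  obtain ⟨j, hj5, rfl⟩ := hprim.eq_pow_of_pow_eq_one hθ5
  have hj0 : j ≠ 0 := fun e => hv0 (by
    rw [← Submodule.mem_bot K, ← hfb, End.mem_eigenspace_iff, hbv, e, pow_zero])
  have hx1 : (x : V) ∈ Ea 1 := by rw [hEa]; simp only [pow_one]; exact x.2
  have hxj : (x : V) ∈ Eb j := by rw [hEb]; exact End.mem_eigenspace_iff.2 hbv
  obtain ⟨kk, k1, k2, k3, k4⟩ := five_arith 1 ⟨j, hj5⟩ (by decide) (by simpa [Fin.ext_iff] using hj0)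
  simp only [Fin.val_one] at k1 k2 k3 k4
  obtain ⟨y1, y2⟩ := stepP _ _ _ hx1 hxj
  obtain ⟨u, hu0, hu1, hu2⟩ := iterS kk _ _ _ y1 y2 fun e => hv0 (hinj p (e.trans (map_zero _).symm))
  obtain ⟨z1, z2⟩ := stepT _ _ _ hx1 hxj
  have hu1' : u ∈ Ea 1 := by
    rw [hEa] at hu1 ⊢
    simp only at hu1 ⊢
    rwa [hmod, k1] at hu1
  obtain ⟨vs, hvs⟩ : ∃ vs : Fin 3 → ↥(Ea 1), vs = ![⟨x, hx1⟩, ⟨_, z1⟩, ⟨u, hu1'⟩] := ⟨_, rfl⟩
  obtain ⟨μ, hμ⟩ : ∃ μ : Fin 3 → K, μ = ![ζ ^ j, ζ ^ (4 * j % 5), ζ ^ (3 ^ (kk : ℕ) * 1 % 5)] := ⟨_, rfl⟩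
  have hμinj : Function.Injective μ := by
    have q : ∀ a b : ℕ, a < 5 → b < 5 → ζ ^ a = ζ ^ b → a = b := fun a b ha hb e => hprim.pow_inj ha hb e
    have l1 : 4 * j % 5 < 5 := Nat.mod_lt _ (by norm_num)
    have l2 : 3 ^ (kk : ℕ) * 1 % 5 < 5 := Nat.mod_lt _ (by norm_num)
    rw [hμ]
    intro a b e
    fin_cases a <;> fin_cases b <;> first
      | rfl
      | exact absurd (q _ _ hj5 l1 e) k4
      | exact absurd (q _ _ l1 hj5 e) (Ne.symm k4)
      | exact absurd (q _ _ l2 hj5 e) k2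
      | exact absurd (q _ _ hj5 l2 e) (Ne.symm k2)
      | exact absurd (q _ _ l2 l1 e) k3
      | exact absurd (q _ _ l1 l2 e) (Ne.symm k3)
  have hev : ∀ i, (ρ b : End K V).HasEigenvector (μ i) (vs i : V) := by
    rw [hEb] at hxj z2 hu2
    simp only at hxj z2 hu2
    rw [hmod] at z2 hu2
    rw [hμ, hvs]
    intro i
    fin_cases i
    exacts [⟨hxj, hv0⟩, ⟨z2, fun e => hv0 (hinj t (e.trans (map_zero _).symm))⟩, ⟨hu2, hu0⟩]
  have hli : LinearIndependent K vs := LinearIndependent.of_comp (Ea 1).subtype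
    (End.eigenvectors_linearIndependent' (ρ b : End K V) μ hμinj (fun i => (vs i : V)) hev)
  have := hli.fintype_card_le_finrank
  rw [Fintype.card_fin] at this
  have := hdimle 1 (by norm_num)
  omega

end Cfsg.Agent.Small.AltDeg
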