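import Cfsg.Agent.Lib.Small.AltDeg.LinMain

/-!
The smallest spin representations of alternating groups of degree at least nine.
-/

set_option autoImplicit false
set_option linter.unusedSectionVars false
set_option linter.unusedVariables false
set_option linter.style.haveILetI false
set_option maxRecDepth 20000

namespace Cfsg.Agent.Small.AltDeg

open Module

universe u v w

variable {K : Type u} [Field K] [IsAlgClosed K] [DecidableEq K]
variable {V : Type v} [AddCommGroup V] [Module K V] [FiniteDimensional K V]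
variable {G : Type w} [Group G] {r : ℕ} {π : G →* A r} {ρ : G →* (End K V)ˣ}

/-- A lower bound for spin representations of one degree. -/
def SpinBound (K : Type u) [Field K] (m d : ℕ) : Prop :=
  ∀ (G' : Type w) [Group G'] (π' : G' →* A m) (W : Type v) [AddCommGroup W] [Module K W] [FiniteDimensional K W]
    (ρ' : G' →* (End K W)ˣ), IsSpin π' ρ' → d ≤ finrank K W

/-- The bound from a cycle and its normaliser. -/
theorem spin_cycle (h : IsSpin π ρ) (hr : 5 ≤ r) (ℓ n k s u m d : ℕ) (hℓp : ℓ.Prime) (hℓ : Odd ℓ)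
    (hℓK : (ℓ : K) ≠ 0) (hinj : ∀ i j : ℕ, i < k → j < k → n ^ i % ℓ = n ^ j % ℓ → i = j) (x0 y0 : A u)
    (hx : x0 ^ ℓ = 1) (hx1 : x0 ≠ 1) (hy : y0 * x0 = x0 ^ n * y0)
    (hsupp : ∀ i : Fin u, s ≤ (i : ℕ) → (x0 : Equiv.Perm (Fin u)) i = i) (hu : u ≤ r) (hsm : s + m ≤ r)
    (hd : SpinBound.{_, v, w} K m d) : k * d ≤ finrank K V := by
  obtain ⟨e, he⟩ : ∃ e : Fin u ↪ Fin r, ∀ i, (e i : ℕ) = i := ⟨Fin.castLEEmb hu, fun i => rfl⟩
  obtain ⟨κ, hκ⟩ : ∃ κ : Fin m ↪ Fin r, ∀ i, (κ i : ℕ) = s + i :=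
    ⟨⟨fun i => ⟨s + i, by omega⟩, fun i j hij => Fin.ext (by simpa using congrArg Fin.val hij)⟩, fun i => rfl⟩
  have hsu : Supp (pts κ)ᶜ (emb e x0) := by
    intro x hx'
    rw [Finset.mem_compl, not_not] at hx'
    obtain ⟨i, rfl⟩ := mem_pts.1 hx'
    by_cases hin : κ i ∈ pts e
    · obtain ⟨j, hj⟩ := mem_pts.1 hin
      rw [← hj, emb_apply, hsupp j (by rw [← he j, hj, hκ]; omega)]
    · exact emb_supp e x0 _ hin
  refine h.toIsCov.cycle_bound (h.faith hr) ℓ n k d hℓp hℓ hℓK hinj (emb e x0) (emb e y0)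
    (by rw [← map_pow, hx, map_one]) (fun e1 => hx1 (emb_injective e (by rw [e1, map_one])))
    (by rw [← map_mul, hy, map_mul, map_pow]) fun W hW0 hW => ?_
  have hinv : ∀ g : ↥(subG π κ), ∀ v ∈ W, (ρ.comp (subG π κ).subtype g : End K V) v ∈ W := fun g v hv =>
    hW g (by rw [← emb_subPi π κ g]; exact Supp.commute disjoint_compl_right (emb_supp κ _) hsu) v hv
  exact hd _ _ _ _ ((h.sub κ).res hW0 hinv)

theorem bound_two (m : ℕ) (hm : 4 ≤ m) : SpinBound.{u, v, w} K m 2 := fun _ _ _ _ _ _ _ _ h => h.two_le hm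

theorem bound_six (m : ℕ) (hm : 6 ≤ m) (h3 : (3 : K) ≠ 0) : SpinBound.{u, v, w} K m 4 :=
  fun _ _ _ _ _ _ _ _ h => h.toIsCov.six_bound (h.faith (by omega)) h3 hm

theorem bound_eight (m : ℕ) (hm : 8 ≤ m) : SpinBound.{u, v, w} K m 4 := fun _ _ _ _ _ _ _ _ h => h.four_le hm

/-- The three-cycle bound. -/
theorem spin_three (h : IsSpin π ρ) (hr : 5 ≤ r) (h3 : (3 : K) ≠ 0) (m d : ℕ) (hm : 3 + m ≤ r)
    (hd : SpinBound.{_, v, w} K m d) : 2 * d ≤ finrank K V :=
  spin_cycle h hr 3 2 2 3 5 m d (by norm_num) ⟨1, rfl⟩ (by exact_mod_cast h3)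
    (by intro i j hi hj; interval_cases i <;> interval_cases j <;> simp)
    ⟨c[0, 1, 2], Equiv.Perm.mem_alternatingGroup.2 (by decide)⟩
    ⟨c[0, 1] * c[3, 4], Equiv.Perm.mem_alternatingGroup.2 (by decide)⟩
    (Subtype.ext (by decide)) (fun e => absurd (congrArg Subtype.val e) (by decide)) (Subtype.ext (by decide))
    (by decide) hr hm hd

/-- The five-cycle bound. -/
theorem spin_five (h : IsSpin π ρ) (hr : 7 ≤ r) (h5 : (5 : K) ≠ 0) (m d : ℕ) (hm : 5 + m ≤ r)
    (hd : SpinBound.{_, v, w} K m d) : 4 * d ≤ finrank K V :=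
  spin_cycle h (by omega) 5 2 4 5 7 m d (by norm_num) ⟨2, rfl⟩ (by exact_mod_cast h5)
    (by intro i j hi hj; interval_cases i <;> interval_cases j <;> simp)
    ⟨c[0, 1, 2, 3, 4], Equiv.Perm.mem_alternatingGroup.2 (by decide)⟩
    ⟨c[1, 2, 4, 3] * c[5, 6], Equiv.Perm.mem_alternatingGroup.2 (by decide)⟩
    (Subtype.ext (by decide)) (fun e => absurd (congrArg Subtype.val e) (by decide)) (Subtype.ext (by decide))
    (by decide) hr hm hd

/-- The seven-cycle bound. -/
theorem spin_seven (h : IsSpin π ρ) (hr : 9 ≤ r) (h7 : (7 : K) ≠ 0) (m d : ℕ) (hm : 7 + m ≤ r)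
    (hd : SpinBound.{_, v, w} K m d) : 6 * d ≤ finrank K V :=
  spin_cycle h (by omega) 7 3 6 7 9 m d (by norm_num) ⟨3, rfl⟩ (by exact_mod_cast h7)
    (by intro i j hi hj; interval_cases i <;> interval_cases j <;> simp)
    ⟨c[0, 1, 2, 3, 4, 5, 6], Equiv.Perm.mem_alternatingGroup.2 (by decide)⟩
    ⟨c[1, 3, 2, 6, 4, 5] * c[7, 8], Equiv.Perm.mem_alternatingGroup.2 (by decide)⟩
    (Subtype.ext (by decide)) (fun e => absurd (congrArg Subtype.val e) (by decide)) (Subtype.ext (by decide))
    (by decide) hr hm hd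

/-- Spin representations have degree at least that of the deleted permutation module. -/
theorem spin : ∀ (r : ℕ), 9 ≤ r → SpinBound.{u, v, w} K r (bd K r) := by
  intro r
  induction r using Nat.strong_induction_on with
  | _ r IH =>
    intro hr G _ π W _ _ _ ρ h
    have hb := bd_bounds (K := K) r
    have hpair : (5 : K) ≠ 0 → 10 ≤ r → 10 ≤ finrank K W := fun h5 h10 =>
      pair h.toIsCov (h.faith (by omega)) h5 h10 fun ι U hU0 hU =>
        ((h.sub ι).res hU0 hU).two_le (by norm_num)
    have h35 : (3 : K) = 0 → (5 : K) = 0 → False := fun a b => one_ne_zero (α := K) (by linear_combination 2 * a - b)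
    have h57 : (5 : K) = 0 → (7 : K) ≠ 0 := fun a b =>
      one_ne_zero (α := K) (by linear_combination 3 * a - 2 * b)
    rcases (show r = 9 ∨ r = 10 ∨ r = 11 ∨ 12 ≤ r by omega) with rfl | rfl | rfl | h12
    · by_cases h3 : (3 : K) = 0
      · have := spin_five h (by norm_num) (h35 h3) 4 2 (by norm_num) (bound_two 4 le_rfl)
        omega
      · have := spin_three h (by norm_num) h3 6 4 (by norm_num) (bound_six 6 le_rfl h3)
        omega
    · by_cases h5 : (5 : K) = 0
      · have h8 : bd K 10 = 8 := by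
          rw [bd, if_pos (show ((10 : ℕ) : K) = 0 by push_cast; linear_combination 2 * h5)]
        have := spin_three h (by norm_num) (fun a => h35 a h5) 7 4 (by norm_num)
          (bound_six 7 (by norm_num) fun a => h35 a h5)
        omega
      · have := hpair h5 (by norm_num)
        omega
    · by_cases h5 : (5 : K) = 0
      · have := spin_seven h (by norm_num) (h57 h5) 4 2 (by norm_num) (bound_two 4 le_rfl)
        omega
      · have := hpair h5 (by norm_num)
        omega
    · by_cases h3 : (3 : K) = 0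
      · have h5 : (5 : K) ≠ 0 := h35 h3
        rcases (show r = 12 ∨ r = 13 ∨ 14 ≤ r by omega) with rfl | rfl | h14
        · have h10 : bd K 12 = 10 := by
            rw [bd, if_pos (show ((12 : ℕ) : K) = 0 by push_cast; linear_combination 4 * h3)]
          have := hpair h5 (by norm_num)
          omega
        · have := spin_five h (by norm_num) h5 8 4 (by norm_num) (bound_eight 8 le_rfl)
          omega
        · have := spin_five h (by omega) h5 (r - 5) _ (by omega) (IH (r - 5) (by omega) (by omega))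
          have := (bd_bounds (K := K) (r - 5)).1
          omega
      · have := spin_three h (by omega) h3 (r - 3) _ (by omega) (IH (r - 3) (by omega) (by omega))
        have := (bd_bounds (K := K) (r - 3)).1
        omega

end Cfsg.Agent.Small.AltDeg
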