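import Cfsg.Agent.Lib.Small.AltDeg.ClassTwo
import Cfsg.Agent.Lib.Small.AltDeg.Central
import Cfsg.Agent.Lib.Small.AltDeg.SpinMain
import Mathlib.FieldTheory.IsAlgClosed.AlgebraicClosure

/-!
Linear groups with an alternating section have degree at least that of the deleted permutation module.
-/

set_option autoImplicit false
set_option linter.unusedSectionVars false
set_option linter.unusedVariables false
set_option linter.style.haveILetI false

namespace Cfsg.Agent.Small.AltDeg

open Module

universe u v w

/-- The bound in one dimension. -/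
def MainBound (K : Type u) [Field K] [DecidableEq K] (r n : ℕ) : Prop :=
  ∀ (V : Type v) [AddCommGroup V] [Module K V] [FiniteDimensional K V] (G : Type v) [Group G] [Finite G]
    (ρ : G →* (End K V)ˣ) (π : G →* A r),
    finrank K V = n → ρ.ker ≤ π.ker → Function.Surjective π → bd K r ≤ n

/-- A kernel inside another gives a map on the image. -/
theorem exists_range_hom {G : Type*} [Group G] {M : Type*} [Group M] {r : ℕ} (ρ : G →* M) (π : G →* A r)
    (hk : ρ.ker ≤ π.ker) (hs : Function.Surjective π) : ∃ π' : ↥ρ.range →* A r, Function.Surjective π' := by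
  refine ⟨(QuotientGroup.lift ρ.ker π hk).comp (QuotientGroup.quotientKerEquivRange ρ).symm.toMonoidHom, ?_⟩
  intro a
  obtain ⟨g, rfl⟩ := hs a
  exact ⟨QuotientGroup.quotientKerEquivRange ρ g, by simp⟩

theorem sq_lt_two_pow : ∀ m, 7 ≤ m → m ^ 2 < 2 ^ m := by
  intro m hm
  induction m, hm using Nat.le_induction with
  | base => norm_num
  | succ m hm ih => rw [pow_succ 2 m]; nlinarith

variable {K : Type u} [Field K] [IsAlgClosed K] [DecidableEq K] {r n : ℕ}
variable {V : Type v} [AddCommGroup V] [Module K V] [FiniteDimensional K V]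
variable {G : Type v} [Group G] [Finite G] {ρ : G →* (End K V)ˣ} {π : G →* A r}

/-- The case of a central kernel. -/
theorem central_case (hr : 9 ≤ r) (hnV : Nontrivial V) (hinj : Function.Injective ρ) (hs : Function.Surjective π)
    (hperf : commutator G = ⊤) (hc : π.ker ≤ scal ρ) : bd K r ≤ finrank K V := by
  have hE : IsExt π := ⟨hs, fun z hz g => scal_comm hinj (hc hz) g, hr⟩
  obtain ⟨ζ, hζ, hζ2, hker, hsq⟩ := hE.dichotomy hperf
  by_cases h1 : ζ = 1
  · have hbij : Function.Bijective π := ⟨(injective_iff_map_eq_one π).2 fun z hz =>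
      (hker z hz).elim id fun e => e.trans h1, hs⟩
    exact linear r hr V (ρ.comp (MulEquiv.ofBijective π hbij).symm.toMonoidHom)
      (hinj.comp (MulEquiv.ofBijective π hbij).symm.injective)
  · obtain ⟨c, hcz⟩ := mem_scal.1 (hc hζ)
    obtain ⟨v, hv⟩ := exists_ne (0 : V)
    have hc2 : c * c = 1 := by
      have e : (ρ (ζ * ζ) : End K V) v = (1 : K) • v := by rw [hζ2, map_one, one_smul]; rfl
      rw [map_mul, Units.val_mul, End.mul_apply, hcz v, map_smul, hcz v, smul_smul] at e
      exact smul_left_injective K hv e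
    have hne : c ≠ 1 := fun e => h1 (hinj (Units.ext (LinearMap.ext fun w => by
      rw [hcz w, e, one_smul, map_one]; rfl)))
    have hcm : c = -1 := ((mul_self_eq_one_iff.1 hc2)).resolve_left hne
    have hρ : ρ ζ = -1 := Units.ext (LinearMap.ext fun w => by
      rw [hcz w, hcm, neg_one_smul]; rfl)
    have hS : IsSpin π ρ :=
      { surj := hs
        ker := fun z hz => by
          rcases hker z hz with e | e
          · exact Or.inl (by rw [e, map_one])
          · exact Or.inr (by rw [e, hρ])
        two := fun h2 => hne (hcm.trans (by linear_combination -h2))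
        nt := hnV
        sq := fun ι g k hg hk hg3 hk3 => by
          rw [← map_mul, ← map_pow, hsq h1 ι g k hg hk (hinj (by rw [map_pow, hg3, map_one]))
            (hinj (by rw [map_pow, hk3, map_one])), hρ] }
    exact spin r hr G π V ρ hS

/-- Minimal groups with an alternating quotient are perfect with nilpotent kernel. -/
theorem minimal_props (hr : 9 ≤ r) (hs : Function.Surjective π) (hmax : ∀ U : Subgroup G, U.map π = ⊤ → U = ⊤) :
    commutator G = ⊤ ∧ Group.IsNilpotent ↥π.ker ∧ ∀ N : Subgroup G, N.Normal → N ≤ π.ker ∨ N = ⊤ := by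
  haveI : IsSimpleGroup (A r) := alternatingGroup.isSimpleGroup (by rw [Nat.card_eq_fintype_card, Fintype.card_fin]; omega)
  refine ⟨hmax _ ?_, ?_, fun N hN => ?_⟩
  · rw [commutator_def, Subgroup.map_commutator, Subgroup.map_top_of_surjective π hs, ← commutator_def,
      commutator_alternatingGroup_eq_top (by rw [Nat.card_eq_fintype_card, Fintype.card_fin]; omega)]
  · have hle : π.ker ≤ frattini G := le_iInf₂ fun M hM => by
      by_contra hc
      refine hM.1 (hmax M ?_)
      have e : M ⊔ π.ker = ⊤ := hM.2 _ (lt_of_le_of_ne le_sup_left fun e => hc (e ▸ le_sup_right))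
      rw [← Subgroup.map_top_of_surjective π hs, ← e, Subgroup.map_sup,
        (Subgroup.map_eq_bot_iff π.ker).2 le_rfl, sup_bot_eq]
    haveI : Group.IsNilpotent ↥(frattini G) := frattini_nilpotent
    exact (Group.isNilpotent_congr (Subgroup.subgroupOfEquivOfLe hle)).1 inferInstance
  · rcases (hN.map π hs).eq_bot_or_eq_top with e | e
    · exact Or.inl ((Subgroup.map_eq_bot_iff N).1 e)
    · exact Or.inr (hmax N e)

theorem step (hr : 9 ≤ r)
    (IH0 : ∀ d, d < n → ∀ (K0 : Type) [Field K0] [IsAlgClosed K0] [DecidableEq K0], MainBound.{0, 0} K0 r d)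
    (IH : ∀ d, d < n → MainBound.{u, v} K r d) : MainBound.{u, v} K r n := by
  intro V _ _ _ G₀ _ _ ρ₀ π₀ hn hk₀ hs₀
  obtain ⟨π', hπ'⟩ := exists_range_hom ρ₀ π₀ hk₀ hs₀
  haveI : Finite ↥ρ₀.range := Finite.of_surjective _ ρ₀.rangeRestrict_surjective
  suffices H : ∀ (k : ℕ) (G : Type v) [Group G] [Finite G] (ρ : G →* (End K V)ˣ) (π : G →* A r),
      Nat.card G = k → Function.Injective ρ → Function.Surjective π → bd K r ≤ n from
    H _ ↥ρ₀.range ρ₀.range.subtype π' rfl (Subgroup.subtype_injective _) hπ'
  intro k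
  induction k using Nat.strong_induction_on with
  | _ k IHk =>
  intro G _ _ ρ π hk hinj hs
  by_contra hlt
  have hmax : ∀ U : Subgroup G, U.map π = ⊤ → U = ⊤ := fun U hU => by
    by_contra hne
    refine hlt (IHk _ ?_ ↥U (ρ.comp U.subtype) (π.comp U.subtype) rfl (hinj.comp U.subtype_injective) fun a => ?_)
    · rw [← hk]
      exact lt_of_le_of_ne (Subgroup.card_le_card_group U) fun e => hne (U.eq_top_of_card_eq e)
    · obtain ⟨g, hg, e⟩ : a ∈ U.map π := hU ▸ Subgroup.mem_top a
      exact ⟨⟨g, hg⟩, e⟩
  obtain ⟨hperf, hnil, hkt⟩ := minimal_props hr hs hmax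
  have hb := bd_bounds (K := K) r
  have hnr : n < r := by omega
  have hnt : Nontrivial (A r) := by
    rw [← Finite.one_lt_card_iff_nontrivial]
    have := card_A (r := r) (by omega)
    have h2 : (3 : ℕ).factorial ≤ r.factorial := Nat.factorial_le (by omega)
    simp [Nat.factorial] at h2
    omega
  have hirr : ∀ U : Submodule K V, (∀ g, ∀ v ∈ U, (ρ g : End K V) v ∈ U) → U = ⊥ ∨ U = ⊤ := by
    intro U hU
    by_contra hcon
    rw [not_or] at hcon
    obtain ⟨hU0, hU1⟩ := hcon
    have d1 : finrank K ↥U < n := hn ▸ Submodule.finrank_lt hU1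
    have d0 : 0 < finrank K ↥U := by
      haveI := Submodule.nontrivial_iff_ne_bot.2 hU0
      exact Module.finrank_pos
    have d2 : finrank K (V ⧸ U) < n := by
      have := U.finrank_quotient_add_finrank
      omega
    let Q : G →* End K (V ⧸ U) :=
      { toFun := fun g => U.mapQ U (ρ g : End K V) fun v hv => hU g v hv
        map_one' := Submodule.linearMap_qext _ (LinearMap.ext fun v => by simp)
        map_mul' := fun g h => Submodule.linearMap_qext _ (LinearMap.ext fun v => by simp) }
    rcases hkt (AltDeg.res ρ U hU).ker inferInstance with k1 | k1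
    · exact absurd ((IH _ d1 ↥U G _ π rfl k1 hs).trans d1.le) hlt
    rcases hkt Q.toHomUnits.ker inferInstance with k2 | k2
    · exact absurd ((IH _ d2 (V ⧸ U) G _ π rfl k2 hs).trans d2.le) hlt
    have hfix : ∀ g, ∀ w ∈ U, (ρ g : End K V) w = w := fun g w hw => by
      have e : AltDeg.res ρ U hU g = 1 := by rw [← MonoidHom.mem_ker, k1]; trivial
      have := congrArg (fun t : (End K ↥U)ˣ => (((t : End K ↥U) ⟨w, hw⟩ : ↥U) : V)) e
      simpa [res_apply] using this
    have hdel : ∀ g v, (ρ g : End K V) v - v ∈ U := fun g v => by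
      have e : Q.toHomUnits g = 1 := by rw [← MonoidHom.mem_ker, k2]; trivial
      have := congrArg (fun t : (End K (V ⧸ U))ˣ => (t : End K (V ⧸ U)) (Submodule.Quotient.mk v)) e
      exact (Submodule.Quotient.eq U).1 this
    have hcm : ∀ a b : G, a * b = b * a := fun a b => hinj (Units.ext (LinearMap.ext fun v => by
      have e1 := hfix a _ (hdel b v)
      have e2 := hfix b _ (hdel a v)
      rw [map_sub] at e1 e2
      rw [map_mul, map_mul, Units.val_mul, Units.val_mul, End.mul_apply, End.mul_apply]
      linear_combination (norm := module) e1 - e2))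
    have hbot : commutator G = ⊥ := by
      rw [commutator_eq_closure, Subgroup.closure_eq_bot_iff]
      rintro _ ⟨a, b, rfl⟩
      rw [Set.mem_singleton_iff, commutatorElement_eq_one_iff_mul_comm, hcm]
    haveI : Subsingleton G := Subgroup.subsingleton_iff.1 (subsingleton_iff_bot_eq_top.1 (hbot.symm.trans hperf))
    exact not_subsingleton (A r) hs.subsingleton
  have hR : Red ρ π := ⟨hinj, hs, hkt, hirr, hn ▸ hnr, hr⟩
  haveI := hR.nontrivial
  by_cases hc : π.ker ≤ scal ρ
  · exact hlt (hn ▸ central_case hr inferInstance hinj hs hperf hc)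
  obtain ⟨q, d, τ, hq, hτ, hqd⟩ := hR.classTwo hnil hc
  rw [hn] at hqd
  have h2d : 2 ^ d ≤ n ^ 2 := (Nat.pow_le_pow_left hq.two_le d).trans hqd
  rcases Nat.lt_or_ge d n with hd | hd
  · haveI := Fact.mk hq
    classical
    obtain ⟨τ', hτ'⟩ : ∃ τ' : G →* (End (AlgebraicClosure (ZMod q)) (Fin d → AlgebraicClosure (ZMod q)))ˣ,
        τ' = ((Units.map (Matrix.toLinAlgEquiv' (R := AlgebraicClosure (ZMod q))).toMulEquiv.toMonoidHom).comp
          (Units.map (RingHom.mapMatrix (algebraMap (ZMod q) (AlgebraicClosure (ZMod q)))).toMonoidHom)).comp τ :=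
      ⟨_, rfl⟩
    have hinj' : τ'.ker ≤ π.ker := fun g hg => by
      refine hτ ?_
      rw [MonoidHom.mem_ker] at hg ⊢
      have := congrArg Units.val hg
      rw [hτ'] at this
      exact Units.ext (Matrix.map_injective (RingHom.injective _)
        ((Matrix.toLinAlgEquiv' (R := AlgebraicClosure (ZMod q))).injective
          (this.trans (by simp [Matrix.map_one]))))
    haveI : Finite ↥τ'.range := Finite.of_surjective _ τ'.rangeRestrict_surjective
    obtain ⟨π'', hπ''⟩ := exists_range_hom τ' π hinj' hs
    have hb0 := bd_bounds (K := AlgebraicClosure (ZMod q)) r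
    have h3 := IH0 d hd (AlgebraicClosure (ZMod q)) _ ↥τ'.range τ'.range.subtype π''
      (Module.finrank_fin_fun _) (by rw [Subgroup.ker_subtype]; exact bot_le) hπ''
    have h4 : r - 2 ≤ d := hb0.1.trans h3
    have h5 : 2 ^ (r - 2) ≤ n ^ 2 := (Nat.pow_le_pow_right (by norm_num) h4).trans h2d
    have h6 : n ^ 2 ≤ (r - 2) ^ 2 := Nat.pow_le_pow_left (by omega) 2
    have := sq_lt_two_pow (r - 2) (by omega)
    omega
  · haveI : NeZero q := ⟨hq.ne_zero⟩
    have h4 : n ≤ 4 := by
      by_contra hn5
      have : n ^ 2 < 2 ^ n := by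
        rcases Nat.lt_or_ge n 7 with h | h
        · interval_cases n <;> norm_num
        · exact sq_lt_two_pow n h
      have := Nat.pow_le_pow_right (show 0 < 2 by norm_num) hd
      omega
    have h5 : q ^ d ≤ 16 := hqd.trans (Nat.pow_le_pow_left h4 2)
    have h6 : d ≤ 4 := by
      by_contra h
      have := Nat.pow_le_pow_right (show 0 < 2 by norm_num) (show 5 ≤ d by omega)
      have := (Nat.pow_le_pow_left hq.two_le d).trans h5
      omega
    obtain ⟨π'', hπ''⟩ := exists_range_hom τ π hτ hs
    have c1 : Nat.card (A r) ≤ Nat.card (Matrix (Fin d) (Fin d) (ZMod q)) :=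
      (Nat.card_le_card_of_surjective π'' hπ'').trans
        (Nat.card_le_card_of_injective (fun x : ↥τ.range => ((x : (Matrix (Fin d) (Fin d) (ZMod q))ˣ) : Matrix _ _ _))
          fun x y e => Subtype.ext (Units.ext e))
    have c2 : Nat.card (Matrix (Fin d) (Fin d) (ZMod q)) ≤ 16 ^ 4 := by
      rw [Nat.card_congr Matrix.of.symm, Nat.card_fun, Nat.card_fun, Nat.card_fin, Nat.card_zmod]
      exact (Nat.pow_le_pow_left h5 d).trans (Nat.pow_le_pow_right (by norm_num) h6)
    have c3 : (9 : ℕ).factorial ≤ r.factorial := Nat.factorial_le hr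
    have c4 := card_A (r := r) (by omega)
    simp [Nat.factorial] at c3
    omega

omit [IsAlgClosed K] in
theorem main0 (hr : 9 ≤ r) : ∀ n, ∀ (K0 : Type) [Field K0] [IsAlgClosed K0] [DecidableEq K0],
    MainBound.{0, 0} K0 r n := by
  intro n
  induction n using Nat.strong_induction_on with
  | _ n IH => exact fun K0 _ _ _ => step hr IH fun d hd => IH d hd K0

/-- Groups of matrices with an alternating section. -/
theorem main (hr : 9 ≤ r) : ∀ n, MainBound.{u, v} K r n := by
  intro n
  induction n using Nat.strong_induction_on with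
  | _ n IH => exact step hr (fun d _ => main0 hr d) IH

end Cfsg.Agent.Small.AltDeg
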