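import Cfsg.Agent.Lib.Small.AltDeg.Final
import Cfsg.Agent.Lib.Small.AltDeg.Pair

/-!
Four-groups and three-cycles in linear representations of alternating groups.
-/

set_option autoImplicit false
set_option linter.unusedSectionVars false
set_option linter.unusedVariables false
set_option linter.style.haveILetI false

namespace Cfsg.Agent.Small.AltDeg

open Module

variable {K : Type*} [Field K] {V : Type*} [AddCommGroup V] [Module K V] [FiniteDimensional K V]
variable {r m : ℕ} {σ : A r →* (End K V)ˣ}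

theorem lin_cov (σ : A r →* (End K V)ˣ) : IsCov (MonoidHom.id (A r)) σ where
  surj a := ⟨a, rfl⟩
  ker g hg := Or.inl (by rw [show g = 1 from hg, map_one])

theorem lin_faith (hr : 4 ≤ r) (hinj : Function.Injective σ) : Faith (MonoidHom.id (A r)) σ := by
  rintro g (h | h)
  · exact hinj (h.trans (map_one σ).symm)
  · refine eq_one_of_central hr g fun ι => hinj ?_
    rw [map_mul, map_mul, h, neg_one_mul, mul_neg_one]

theorem triv_or_inj (hm : 5 ≤ m) {M : Type*} [Group M] (τ : A m →* M) : Function.Injective τ ∨ τ = 1 := by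
  haveI : IsSimpleGroup (A m) := alternatingGroup.isSimpleGroup (by rwa [Nat.card_fin])
  rcases IsSimpleGroup.eq_bot_or_eq_top_of_normal τ.ker inferInstance with e | e
  · exact Or.inl ((MonoidHom.ker_eq_bot_iff τ).1 e)
  · exact Or.inr (MonoidHom.ext fun x => by
      show τ x = 1
      rw [← MonoidHom.mem_ker, e]; trivial)

/-- Too small an invariant subspace is fixed pointwise. -/
theorem fix_of_small (hm : 5 ≤ m) (κ : Fin m ↪ Fin r) (W : Submodule K V)
    (hW : ∀ x : A m, ∀ v ∈ W, (σ (emb κ x) : End K V) v ∈ W)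
    (hd : ∀ τ : A m →* (End K W)ˣ, Function.Injective τ → False) :
    ∀ g : A r, Supp (pts κ) g → ∀ v ∈ W, (σ g : End K V) v = v := by
  intro g hg v hv
  obtain ⟨x, rfl⟩ := mem_range_of_supp κ hg
  rcases triv_or_inj hm (res (σ.comp (emb κ)) W hW) with h | h
  · exact (hd _ h).elim
  · exact congrArg Subtype.val (congrArg (fun u : (End K W)ˣ => (u : End K W) ⟨v, hv⟩)
      (DFunLike.congr_fun h x))

/-- The first involution of the four-group. -/
def k14 : A 4 := ⟨c[0, 1] * c[2, 3], Equiv.Perm.mem_alternatingGroup.2 (by decide)⟩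

/-- The second involution of the four-group. -/
def k24 : A 4 := ⟨c[0, 2] * c[1, 3], Equiv.Perm.mem_alternatingGroup.2 (by decide)⟩

theorem k4_rel : k14 * k14 = 1 ∧ k24 * k24 = 1 ∧ k14 * k24 = k24 * k14 ∧ k14 * a4 = a4 * k24 ∧
    k24 * a4 = a4 * (k14 * k24) ∧ k24 = a4 * b4 ∧ k14 = a4 * b4 * (b4 * a4) ∧ k14 ≠ 1 := by
  refine ⟨?_, ?_, ?_, ?_, ?_, ?_, ?_, fun e => absurd (congrArg Subtype.val e) (by decide)⟩ <;>
    exact Subtype.ext (by decide)

/-- The signs of the three characters. -/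
def sgn1 (K : Type*) [Field K] : Fin 3 → K := ![1, -1, -1]

/-- The signs of the three characters. -/
def sgn2 (K : Type*) [Field K] : Fin 3 → K := ![-1, -1, 1]

/-- The three nontrivial weight spaces of a four-group. -/
noncomputable def kW (σ : A r →* (End K V)ˣ) (ι : Fin 4 ↪ Fin r) (i : Fin 3) : Submodule K V :=
  (σ (emb ι k14) : End K V).eigenspace (sgn1 K i) ⊓ (σ (emb ι k24) : End K V).eigenspace (sgn2 K i)

theorem kW_mem {ι : Fin 4 ↪ Fin r} {i : Fin 3} {v : V} : v ∈ kW σ ι i ↔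
    (σ (emb ι k14) : End K V) v = sgn1 K i • v ∧ (σ (emb ι k24) : End K V) v = sgn2 K i • v := by
  rw [kW, Submodule.mem_inf, End.mem_eigenspace_iff, End.mem_eigenspace_iff]

theorem kW_comm {ι : Fin 4 ↪ Fin r} {g : A r} (h1 : Commute g (emb ι k14)) (h2 : Commute g (emb ι k24))
    (i : Fin 3) : ∀ v ∈ kW σ ι i, (σ g : End K V) v ∈ kW σ ι i := fun v hv =>
  ⟨eigen_invariant (by rw [← Units.val_mul, ← Units.val_mul, ← map_mul, ← map_mul, h1.eq]) _ v hv.1,
    eigen_invariant (by rw [← Units.val_mul, ← Units.val_mul, ← map_mul, ← map_mul, h2.eq]) _ v hv.2⟩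

theorem kW_step (ι : Fin 4 ↪ Fin r) (i : Fin 3) :
    ∀ v ∈ kW σ ι i, (σ (emb ι a4) : End K V) v ∈ kW σ ι (i + 1) := by
  intro v hv
  rw [kW_mem] at hv ⊢
  obtain ⟨-, -, -, e4, e5, -, -, -⟩ := k4_rel
  have p1 : (σ (emb ι k14) : End K V) ((σ (emb ι a4) : End K V) v) = sgn2 K i • (σ (emb ι a4) : End K V) v := by
    rw [← apply_mul, ← map_mul, e4, map_mul, apply_mul, hv.2, map_smul]
  have p2 : (σ (emb ι k24) : End K V) ((σ (emb ι a4) : End K V) v) =
      (sgn1 K i * sgn2 K i) • (σ (emb ι a4) : End K V) v := by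
    rw [← apply_mul, ← map_mul, e5, map_mul, apply_mul, map_mul (emb ι) k14 k24, apply_mul, hv.2, map_smul,
      hv.1, smul_smul, map_smul, mul_comm (sgn2 K i)]
  rw [p1, p2]
  fin_cases i <;> simp [sgn1, sgn2]

theorem kW_dim (ι : Fin 4 ↪ Fin r) (i : Fin 3) : finrank K ↥(kW σ ι i) = finrank K ↥(kW σ ι 0) := by
  have le : ∀ j : Fin 3, finrank K ↥(kW σ ι j) ≤ finrank K ↥(kW σ ι (j + 1)) := fun j =>
    LinearMap.finrank_le_finrank_of_injective (f := (σ (emb ι a4) : End K V).restrict (kW_step ι j))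
      fun a b hab => Subtype.ext (Function.LeftInverse.injective (g := (σ (emb ι a4)⁻¹ : End K V))
        (fun w => apply_inv (emb ι a4) w) (congrArg Subtype.val hab))
  have l0 := le 0; have l1 := le 1; have l2 := le 2
  change _ ≤ finrank K ↥(kW σ ι 1) at l0
  change _ ≤ finrank K ↥(kW σ ι 2) at l1
  change _ ≤ finrank K ↥(kW σ ι 0) at l2
  fin_cases i <;> simp <;> omega

/-- The commutator space of a four-group. -/
theorem klein (h2 : (2 : K) ≠ 0) (hinj : Function.Injective σ) (ι : Fin 4 ↪ Fin r) :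
    1 ≤ finrank K ↥(kW σ ι 0) ∧ 3 * finrank K ↥(kW σ ι 0) ≤ finrank K ↥(rg σ (emb ι k14) ⊔ rg σ (emb ι k24)) ∧
      rg σ (emb ι k14) ≤ kW σ ι 0 ⊔ kW σ ι 1 ⊔ kW σ ι 2 ∧ rg σ (emb ι k24) ≤ kW σ ι 0 ⊔ kW σ ι 1 ⊔ kW σ ι 2 := by
  obtain ⟨r1, r2, r12, -, -, -, -, hne⟩ := k4_rel
  obtain ⟨p, hp⟩ : ∃ p, p = (σ (emb ι k14) : End K V) := ⟨_, rfl⟩
  obtain ⟨q, hq⟩ : ∃ q, q = (σ (emb ι k24) : End K V) := ⟨_, rfl⟩
  have hpp : ∀ v, p (p v) = v := fun v => by rw [hp, ← apply_mul, ← map_mul, r1, map_one, map_one]; rfl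
  have hqq : ∀ v, q (q v) = v := fun v => by rw [hq, ← apply_mul, ← map_mul, r2, map_one, map_one]; rfl
  have hpq : ∀ v, p (q v) = q (p v) := fun v => by
    rw [hp, hq, ← apply_mul, ← apply_mul, ← map_mul, ← map_mul, r12]
  have m0 : ∀ v, (v + p v) - q (v + p v) ∈ kW σ ι 0 := fun v => kW_mem.2 (by
    rw [← hp, ← hq]
    constructor
    · rw [map_sub, hpq, map_add, hpp, show sgn1 K 0 = (1 : K) from rfl, one_smul, add_comm (p v) v]
    · rw [map_sub, hqq, show sgn2 K 0 = (-1 : K) from rfl, neg_one_smul]; abel)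
  have m1 : ∀ v, (v - p v) - q (v - p v) ∈ kW σ ι 1 := fun v => kW_mem.2 (by
    rw [← hp, ← hq]
    constructor
    · rw [map_sub, hpq, map_sub, hpp, show sgn1 K 1 = (-1 : K) from rfl, neg_one_smul, ← neg_sub v (p v), map_neg]
      abel
    · rw [map_sub, hqq, show sgn2 K 1 = (-1 : K) from rfl, neg_one_smul]; abel)
  have m2 : ∀ v, (v - p v) + q (v - p v) ∈ kW σ ι 2 := fun v => kW_mem.2 (by
    rw [← hp, ← hq]
    constructor
    · rw [map_add, hpq, map_sub, hpp, show sgn1 K 2 = (-1 : K) from rfl, neg_one_smul, ← neg_sub v (p v), map_neg]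
      abel
    · rw [map_add, hqq, show sgn2 K 2 = (1 : K) from rfl, one_smul]; abel)
  obtain ⟨T, hT⟩ : ∃ T, T = kW σ ι 0 ⊔ kW σ ι 1 ⊔ kW σ ι 2 := ⟨_, rfl⟩
  have t0 : kW σ ι 0 ≤ T := hT ▸ le_sup_of_le_left le_sup_left
  have t1 : kW σ ι 1 ≤ T := hT ▸ le_sup_of_le_left le_sup_right
  have t2 : kW σ ι 2 ≤ T := hT ▸ le_sup_right
  have half : ∀ {x : V}, (2 : K) • x ∈ T → x ∈ T := fun {x} hx => by
    have := T.smul_mem (2 : K)⁻¹ hx
    rwa [smul_smul, inv_mul_cancel₀ h2, one_smul] at this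
  have i1 : rg σ (emb ι k14) ≤ T := by
    rintro _ ⟨v, rfl⟩
    rw [LinearMap.sub_apply, End.one_apply, ← hp]
    refine half ?_
    have e : (2 : K) • (p v - v) = -(((v - p v) - q (v - p v)) + ((v - p v) + q (v - p v))) := by module
    rw [e]
    exact T.neg_mem (T.add_mem (t1 (m1 v)) (t2 (m2 v)))
  have i2 : rg σ (emb ι k24) ≤ T := by
    rintro _ ⟨v, rfl⟩
    rw [LinearMap.sub_apply, End.one_apply, ← hq]
    refine half ?_
    have e : (2 : K) • (q v - v) = -(((v + p v) - q (v + p v)) + ((v - p v) - q (v - p v))) := by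
      simp only [map_add, map_sub]; module
    rw [e]
    exact T.neg_mem (T.add_mem (t0 (m0 v)) (t1 (m1 v)))
  have hne0 : kW σ ι 0 ≠ ⊥ := by
    intro h0
    have hall : ∀ i, kW σ ι i = ⊥ := fun i => by
      rw [← Submodule.finrank_eq_zero (R := K), kW_dim ι i, h0, finrank_bot]
    have hb : rg σ (emb ι k14) = ⊥ := le_bot_iff.1 (i1.trans (le_of_eq (by rw [hT, hall, hall, hall]; simp)))
    refine hne (emb_injective ι (hinj ?_))
    rw [map_one, map_one]
    exact Units.ext (sub_eq_zero.1 (LinearMap.range_eq_bot.1 hb))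
  -- the sum is direct and lies in the commutator space
  obtain ⟨R, hR⟩ : ∃ R, R = rg σ (emb ι k14) ⊔ rg σ (emb ι k24) := ⟨_, rfl⟩
  have inR : ∀ i, kW σ ι i ≤ R := by
    intro i v hv
    rw [kW_mem] at hv
    have e : v = (2 : K)⁻¹ • (v - (-1 : K) • v) := by rw [neg_one_smul, sub_neg_eq_add, ← two_smul K, smul_smul,
      inv_mul_cancel₀ h2, one_smul]
    rw [e, hR]
    refine Submodule.smul_mem _ _ ?_
    fin_cases i
    · refine Submodule.mem_sup_right ⟨-v, ?_⟩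
      simp [LinearMap.sub_apply, hv.2, sgn2]
    all_goals
      refine Submodule.mem_sup_left ⟨-v, ?_⟩
      simp [LinearMap.sub_apply, hv.1, sgn1]
  have d01 : kW σ ι 0 ⊓ kW σ ι 1 = ⊥ := by
    refine le_bot_iff.1 fun v hv => ?_
    have a1 := (kW_mem.1 hv.1).1
    rw [(kW_mem.1 hv.2).1] at a1
    have : (2 : K) • v = 0 := by
      simp [sgn1] at a1
      rw [two_smul]; nth_rw 1 [← a1]; exact neg_add_cancel v
    exact (Submodule.mem_bot K).2 ((smul_eq_zero.1 this).resolve_left h2)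
  have d2 : (kW σ ι 0 ⊔ kW σ ι 1) ⊓ kW σ ι 2 = ⊥ := by
    refine le_bot_iff.1 fun v hv => ?_
    obtain ⟨x, hx, y, hy, hxy⟩ := Submodule.mem_sup.1 hv.1
    have a1 := (kW_mem.1 hv.2).2
    rw [← hxy, map_add, (kW_mem.1 hx).2, (kW_mem.1 hy).2] at a1
    simp [sgn2] at a1
    have : (2 : K) • v = 0 := by
      rw [← hxy]; linear_combination (norm := module) -a1
    exact (Submodule.mem_bot K).2 ((smul_eq_zero.1 this).resolve_left h2)
  have f1 := Submodule.finrank_sup_add_finrank_inf_eq (kW σ ι 0) (kW σ ι 1)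
  have f2 := Submodule.finrank_sup_add_finrank_inf_eq (kW σ ι 0 ⊔ kW σ ι 1) (kW σ ι 2)
  rw [d01, finrank_bot, add_zero] at f1
  rw [d2, finrank_bot, add_zero] at f2
  have hle : T ≤ R := hT ▸ sup_le (sup_le (inR 0) (inR 1)) (inR 2)
  have f3 := Submodule.finrank_mono hle
  rw [hT, f2, f1, kW_dim ι 1, kW_dim ι 2] at f3
  refine ⟨Submodule.one_le_finrank_iff.2 hne0, ?_, hT ▸ i1, hT ▸ i2⟩
  rw [← hR]
  omega

theorem three_le (h2 : (2 : K) ≠ 0) (hinj : Function.Injective σ) (hr : 4 ≤ r) : 3 ≤ finrank K V := by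
  obtain ⟨h1, h3, -, -⟩ := klein h2 hinj (Fin.castLEEmb hr)
  have := Submodule.finrank_le (rg σ (emb (Fin.castLEEmb hr) k14) ⊔ rg σ (emb (Fin.castLEEmb hr) k24))
  omega

theorem four_le (h2 : (2 : K) ≠ 0) (hinj : Function.Injective σ) (hr : 7 ≤ r) : 4 ≤ finrank K V := by
  by_contra hlt
  obtain ⟨ι, hι⟩ : ∃ ι : Fin 4 ↪ Fin r, ∀ i, (ι i : ℕ) = i := ⟨Fin.castLEEmb (by omega), fun i => rfl⟩
  obtain ⟨κ, hκ⟩ := exists_pts (k := 3) (S := (pts ι)ᶜ) (by rw [Finset.card_compl, Fintype.card_fin, card_pts]; omega)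
  obtain ⟨h1, h3, -, -⟩ := klein h2 hinj ι
  have hle := Submodule.finrank_le (rg σ (emb ι k14) ⊔ rg σ (emb ι k24))
  have hw : finrank K ↥(kW σ ι 0) = 1 := by omega
  have hz : ∀ x : A 4, Commute (emb κ a3) (emb ι x) := fun x =>
    Supp.commute (disjoint_compl_left.mono_left hκ) (emb_supp _ _) (emb_supp _ _)
  obtain ⟨⟨e0, he0⟩, hne, hspan⟩ := finrank_eq_one_iff'.1 hw
  obtain ⟨s, hs⟩ := hspan ⟨_, kW_comm (hz _) (hz _) 0 e0 he0⟩
  have hs' : (σ (emb κ a3) : End K V) e0 = s • e0 := (congrArg Subtype.val hs).symm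
  have he00 : e0 ≠ 0 := fun e => hne (Subtype.ext e)
  have hinjv : Function.Injective (σ (emb ι a4) : End K V) :=
    Function.LeftInverse.injective (g := (σ (emb ι a4)⁻¹ : End K V)) fun w => apply_inv (emb ι a4) w
  have hall : ∀ i, ∀ v ∈ kW σ ι i, (σ (emb κ a3) : End K V) v = s • v := by
    obtain ⟨g, hg⟩ : ∃ g, g = (σ (emb ι a4) : End K V) := ⟨_, rfl⟩
    have hcom : ∀ v, (σ (emb κ a3) : End K V) (g v) = g ((σ (emb κ a3) : End K V) v) := fun v => by
      rw [hg, ← apply_mul, ← apply_mul, (hz a4).eq]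
    have hgz : ∀ v, g v = 0 → v = 0 := fun v e => hinjv (by rw [← hg, e, map_zero])
    have step : ∀ i (e : V), e ∈ kW σ ι i → e ≠ 0 → (σ (emb κ a3) : End K V) e = s • e →
        g e ∈ kW σ ι (i + 1) ∧ g e ≠ 0 ∧ (σ (emb κ a3) : End K V) (g e) = s • g e := fun i e he hne' hse =>
      ⟨hg ▸ kW_step ι i e he, fun h => hne' (hgz e h), by rw [hcom, hse, map_smul]⟩
    obtain ⟨a1, a2, a3'⟩ := step 0 e0 he0 he00 hs'
    obtain ⟨b1, b2, b3⟩ := step _ _ a1 a2 a3'
    have line : ∀ i (e : V), e ∈ kW σ ι i → e ≠ 0 → (σ (emb κ a3) : End K V) e = s • e →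
        ∀ v ∈ kW σ ι i, (σ (emb κ a3) : End K V) v = s • v := fun i e he hne' hse v hv => by
      obtain ⟨t, ht⟩ := exists_smul_eq_of_finrank_eq_one ((kW_dim ι i).trans hw) (x := ⟨e, he⟩)
        (fun h => hne' (congrArg Subtype.val h)) ⟨v, hv⟩
      have ht' : t • e = v := congrArg Subtype.val ht
      rw [← ht', map_smul, hse, smul_comm]
    intro i
    fin_cases i
    exacts [line 0 e0 he0 he00 hs', line _ _ a1 a2 a3', line _ _ b1 b2 b3]
  have htop : rg σ (emb ι k14) ⊔ rg σ (emb ι k24) = ⊤ := Submodule.eq_top_of_finrank_eq (by omega)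
  obtain ⟨-, -, j1, j2⟩ := klein h2 hinj ι
  have hscal : (σ (emb κ a3) : End K V) = s • (1 : End K V) := by
    refine LinearMap.ext fun v => ?_
    have hv : v ∈ kW σ ι 0 ⊔ kW σ ι 1 ⊔ kW σ ι 2 := sup_le j1 j2 (htop ▸ Submodule.mem_top)
    obtain ⟨x, hx, z, hz', rfl⟩ := Submodule.mem_sup.1 hv
    obtain ⟨x', hx', y, hy, rfl⟩ := Submodule.mem_sup.1 hx
    simp only [map_add, hall 0 _ hx', hall 1 _ hy, hall 2 _ hz', LinearMap.smul_apply, End.one_apply]
  have h1' := eq_one_of_central (by omega) (emb κ a3) fun μ => hinj (Units.ext (by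
    rw [map_mul, map_mul, Units.val_mul, Units.val_mul, hscal, smul_mul_assoc, one_mul, mul_smul_comm, mul_one]))
  rw [← map_one (emb κ)] at h1'
  exact absurd (congrArg Subtype.val (emb_injective κ h1')) (by decide)

/-- A three-cycle in characteristic other than three. -/
theorem three_split [IsAlgClosed K] (h3 : (3 : K) ≠ 0) (hinj : Function.Injective σ) (hr : 5 ≤ r)
    (ι : Fin 3 ↪ Fin r) :
    ∃ ζ : K, ζ ≠ 1 ∧ ζ ^ 3 = 1 ∧ 1 ≤ finrank K ↥((σ (emb ι a3) : End K V).eigenspace ζ) ∧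
      2 * finrank K ↥((σ (emb ι a3) : End K V).eigenspace ζ) ≤ finrank K ↥(rg σ (emb ι a3)) ∧
      rg σ (emb ι a3) ≤ (σ (emb ι a3) : End K V).eigenspace ζ ⊔ (σ (emb ι a3) : End K V).eigenspace (ζ ^ 2) ∧
      finrank K ↥((σ (emb ι a3) : End K V).eigenspace (ζ ^ 2)) =
        finrank K ↥((σ (emb ι a3) : End K V).eigenspace ζ) ∧
      finrank K ↥((σ (emb ι a3) : End K V).eigenspace 1) + 2 * finrank K ↥((σ (emb ι a3) : End K V).eigenspace ζ)
        ≤ finrank K V := by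
  obtain ⟨f, hf⟩ : ∃ f, f = (σ (emb ι a3) : End K V) := ⟨_, rfl⟩
  have ha : (emb ι a3) ^ 3 = 1 := by rw [← map_pow, show a3 ^ 3 = 1 from Subtype.ext (by decide), map_one]
  have hf3 : f ^ 3 = 1 := by rw [hf, ← Units.val_pow_eq_pow_val, ← map_pow, ha, map_one, Units.val_one]
  obtain ⟨ζ, hζ, hζ3, hne⟩ := exists_eigen (ℓ := 3) (by exact_mod_cast h3) f hf3 fun e => by
    have := hinj (a₁ := emb ι a3) (a₂ := 1) (by rw [map_one]; exact Units.ext (hf ▸ e))
    rw [← map_one (emb ι)] at this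
    exact absurd (congrArg Subtype.val (emb_injective ι this)) (by decide)
  rw [← hf]
  refine ⟨ζ, hζ, hζ3, Submodule.one_le_finrank_iff.2 hne, ?_⟩
  obtain ⟨i5, hi5⟩ : ∃ i5 : Fin 5 ↪ Fin r, (Fin.castAddEmb 2).trans i5 = ι := by
    obtain ⟨μ, hμ⟩ := exists_pts (k := 2) (S := (pts ι)ᶜ) (by rw [Finset.card_compl, Fintype.card_fin, card_pts]; omega)
    refine ⟨⟨Fin.append ι μ, ?_⟩, Function.Embedding.ext fun i => Fin.append_left _ _ i⟩
    rw [Fin.append_injective_iff]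
    refine ⟨ι.injective, μ.injective, ?_⟩
    intro a b e
    exact Finset.mem_compl.1 (hμ (mem_pts.2 ⟨b, rfl⟩)) (mem_pts.2 ⟨a, e⟩)
  obtain ⟨t5, ht5⟩ : ∃ t5 : A 5, t5 * emb (Fin.castAddEmb 2) a3 = (emb (Fin.castAddEmb 2) a3) ^ 2 * t5 := by
    refine ⟨⟨c[0, 1] * c[3, 4], Equiv.Perm.mem_alternatingGroup.2 (by decide)⟩, ?_⟩
    have e : emb (Fin.castAddEmb 2) a3 =
        (⟨c[(0 : Fin 5), 1, 2], Equiv.Perm.mem_alternatingGroup.2 (by decide)⟩ : A 5) := by
      refine ext_emb (ι := Fin.castAddEmb 2) (fun i => ?_) (emb_supp _ _) (fun x hx => ?_)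
      · rw [emb_apply]; revert i; decide
      · simp only [mem_pts] at hx; revert x; decide
    rw [e]
    exact Subtype.ext (by decide)
  have ht : emb i5 t5 * emb ι a3 = emb ι a3 ^ 2 * emb i5 t5 := by
    rw [← hi5, ← emb_trans, ← map_mul, ht5, map_mul, map_pow]
  have hswap : ∀ η : K, η ^ 3 = 1 → finrank K ↥(f.eigenspace η) ≤ finrank K ↥(f.eigenspace (η ^ 2)) := by
    intro η hη
    have hmap : ∀ v ∈ f.eigenspace η, (σ (emb i5 t5) : End K V) v ∈ f.eigenspace (η ^ 2) := by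
      intro v hv
      rw [End.mem_eigenspace_iff] at hv ⊢
      have e2 : f (f ((σ (emb i5 t5) : End K V) v)) = η • (σ (emb i5 t5) : End K V) v := by
        rw [← map_smul, ← hv, hf, ← apply_mul, ← apply_mul, ← apply_mul, ht, pow_two]
      have e4 : ∀ w, f (f (f w)) = w := fun w => by
        rw [← End.mul_apply, ← End.mul_apply, ← pow_two, ← pow_succ, hf3, End.one_apply]
      have e3 := congrArg f e2
      rw [e4, map_smul] at e3
      conv_rhs => rw [e3, smul_smul, ← pow_succ, hη, one_smul]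
    exact LinearMap.finrank_le_finrank_of_injective (f := (σ (emb i5 t5) : End K V).restrict hmap) fun a b hab =>
      Subtype.ext (Function.LeftInverse.injective (g := (σ (emb i5 t5)⁻¹ : End K V))
        (fun w => apply_inv (emb i5 t5) w) (congrArg Subtype.val hab))
  have hz0 : ζ ≠ 0 := fun e => by simp [e] at hζ3
  have hζ2 : ζ ^ 2 ≠ ζ := fun e => hζ (mul_left_cancel₀ hz0 (by rw [← pow_two, e, mul_one]))
  have hζ21 : ζ ^ 2 ≠ 1 := fun e => hζ (by
    calc ζ = ζ * ζ ^ 2 := by rw [e, mul_one]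
      _ = 1 := by rw [← pow_succ', hζ3])
  have heq : finrank K ↥(f.eigenspace (ζ ^ 2)) = finrank K ↥(f.eigenspace ζ) := by
    refine le_antisymm ?_ (hswap ζ hζ3)
    have := hswap (ζ ^ 2) (by rw [← pow_mul, pow_mul', hζ3, one_pow])
    rwa [show (ζ ^ 2) ^ 2 = ζ by linear_combination ζ * hζ3] at this
  have hsum : f.eigenspace ζ ⊔ f.eigenspace (ζ ^ 2) ≤ rg σ (emb ι a3) := by
    refine sup_le ?_ ?_ <;> intro v hv <;> rw [End.mem_eigenspace_iff] at hv
    · refine ⟨(ζ - 1)⁻¹ • v, ?_⟩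
      rw [← hf, LinearMap.sub_apply, End.one_apply, map_smul, hv, smul_smul, ← sub_smul, ← mul_sub_one,
        inv_mul_cancel₀ (sub_ne_zero.2 hζ), one_smul]
    · refine ⟨(ζ ^ 2 - 1)⁻¹ • v, ?_⟩
      rw [← hf, LinearMap.sub_apply, End.one_apply, map_smul, hv, smul_smul, ← sub_smul, ← mul_sub_one,
        inv_mul_cancel₀ (sub_ne_zero.2 hζ21), one_smul]
  have hdis : f.eigenspace ζ ⊓ f.eigenspace (ζ ^ 2) = ⊥ :=
    ((End.eigenspaces_iSupIndep f).pairwiseDisjoint hζ2.symm).eq_bot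
  have f1 := Submodule.finrank_sup_add_finrank_inf_eq (f.eigenspace ζ) (f.eigenspace (ζ ^ 2))
  rw [hdis, finrank_bot, add_zero, heq] at f1
  have hsum2 : ζ + ζ ^ 2 = -1 := by
    have : (ζ - 1) * (1 + ζ + ζ ^ 2) = 0 := by linear_combination hζ3
    linear_combination (mul_eq_zero.1 this).resolve_left (sub_ne_zero.2 hζ)
  have hrg : rg σ (emb ι a3) ≤ f.eigenspace ζ ⊔ f.eigenspace (ζ ^ 2) := by
    rintro _ ⟨v, rfl⟩
    rw [← hf]
    obtain ⟨x, hx⟩ : ∃ x, x = (f - 1) v := ⟨_, rfl⟩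
    rw [← hx]
    have e4 : f (f (f v)) = v := by
      rw [← End.mul_apply, ← End.mul_apply, ← pow_two, ← pow_succ, hf3, End.one_apply]
    have hxx : f (f x) = -(f x) - x := by
      rw [hx]; simp only [LinearMap.sub_apply, End.one_apply, map_sub, e4]; module
    have hx3 : x = (ζ - ζ ^ 2)⁻¹ • ((f x - ζ ^ 2 • x) - (f x - ζ • x)) := by
      rw [show (f x - ζ ^ 2 • x) - (f x - ζ • x) = (ζ - ζ ^ 2) • x by module, smul_smul,
        inv_mul_cancel₀ (sub_ne_zero.2 hζ2.symm), one_smul]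
    rw [hx3]
    refine Submodule.smul_mem _ _ (Submodule.sub_mem _ (Submodule.mem_sup_left ?_) (Submodule.mem_sup_right ?_)) <;>
      rw [End.mem_eigenspace_iff, map_sub, map_smul, hxx, smul_sub, smul_smul]
    · rw [show ζ * ζ ^ 2 = 1 by rw [← pow_succ', hζ3]]
      rw [show ζ ^ 2 = -1 - ζ by linear_combination hsum2]
      module
    · rw [show ζ ^ 2 * ζ = 1 by rw [← pow_succ, hζ3]]
      rw [show ζ ^ 2 = -1 - ζ by linear_combination hsum2]
      module
  have htot : finrank K ↥(f.eigenspace 1) + 2 * finrank K ↥(f.eigenspace ζ) ≤ finrank K V := by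
    have h1d : f.eigenspace 1 ⊓ (f.eigenspace ζ ⊔ f.eigenspace (ζ ^ 2)) = ⊥ := by
      refine le_bot_iff.1 fun v hv => ?_
      obtain ⟨x, hx, y, hy, hxy⟩ := Submodule.mem_sup.1 hv.2
      have e1 := End.mem_eigenspace_iff.1 hv.1
      rw [End.mem_eigenspace_iff] at hx hy
      rw [one_smul, ← hxy, map_add, hx, hy] at e1
      have e2 := congrArg f e1
      rw [map_add, map_smul, map_smul, map_add, hx, hy, smul_smul, smul_smul] at e2
      have key : (ζ ^ 2 - 1) • y - (ζ ^ 2 - 1) • y = 0 := sub_self _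
      have hy0 : ((ζ ^ 2 - ζ) * (ζ ^ 2 - 1)) • y = 0 := by
        linear_combination (norm := module) e2 - ζ • e1
      have hy' : y = 0 := (smul_eq_zero.1 hy0).resolve_left
        (mul_ne_zero (sub_ne_zero.2 hζ2) (sub_ne_zero.2 hζ21))
      rw [hy', smul_zero, add_zero, add_zero] at e1
      have hx0 : (ζ - 1) • x = 0 := by linear_combination (norm := module) e1
      rw [← hxy, hy', add_zero, (smul_eq_zero.1 hx0).resolve_left (sub_ne_zero.2 hζ)]
      exact zero_mem _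
    have := Submodule.finrank_sup_add_finrank_inf_eq (f.eigenspace 1) (f.eigenspace ζ ⊔ f.eigenspace (ζ ^ 2))
    rw [h1d, finrank_bot, add_zero, f1] at this
    have := Submodule.finrank_le (f.eigenspace 1 ⊔ (f.eigenspace ζ ⊔ f.eigenspace (ζ ^ 2)))
    omega
  have := Submodule.finrank_mono hsum
  exact ⟨by omega, hrg, heq, htot⟩

end Cfsg.Agent.Small.AltDeg
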