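import Cfsg.Agent.Lib.Small.AltDeg.Cover

/-!
Spin representations of alternating groups: lifts of double transpositions square to minus one.
-/

set_option autoImplicit false
set_option linter.unusedSectionVars false
set_option linter.unusedVariables false
set_option linter.style.haveILetI false

namespace Cfsg.Agent.Small.AltDeg

open Module

variable {K : Type*} [Field K] {V : Type*} [AddCommGroup V] [Module K V]
variable {G : Type*} [Group G] {r m k : ℕ} {π : G →* A r} {ρ : G →* (End K V)ˣ}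

/-- A three-cycle of degree four. -/
def a4 : A 4 := ⟨c[0, 1, 2], Equiv.Perm.mem_alternatingGroup.2 (by decide)⟩

/-- A second three-cycle of degree four. -/
def b4 : A 4 := ⟨c[0, 1, 3], Equiv.Perm.mem_alternatingGroup.2 (by decide)⟩

theorem a4_cube : a4 ^ 3 = 1 := Subtype.ext (by decide)

theorem b4_cube : b4 ^ 3 = 1 := Subtype.ext (by decide)

/-- A spin representation. -/
structure IsSpin (π : G →* A r) (ρ : G →* (End K V)ˣ) : Prop extends IsCov π ρ where
  two : (2 : K) ≠ 0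
  nt : Nontrivial V
  sq : ∀ (ι : Fin 4 ↪ Fin r) (g h : G), π g = emb ι a4 → π h = emb ι b4 → ρ g ^ 3 = 1 → ρ h ^ 3 = 1 →
    (ρ g * ρ h) ^ 2 = -1

theorem IsSpin.sub (h : IsSpin π ρ) (ι : Fin m ↪ Fin r) :
    IsSpin (subPi π ι) (ρ.comp (subG π ι).subtype) where
  toIsCov := h.toIsCov.sub ι
  two := h.two
  nt := h.nt
  sq κ g g' hg hg' hg3 hg3' := h.sq (κ.trans ι) g g'
    (by rw [← emb_trans, ← hg, emb_subPi]) (by rw [← emb_trans, ← hg', emb_subPi]) hg3 hg3'

theorem IsSpin.res (h : IsSpin π ρ) {W : Submodule K V} (hW0 : W ≠ ⊥)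
    (hW : ∀ g, ∀ v ∈ W, (ρ g : End K V) v ∈ W) : IsSpin π (AltDeg.res ρ W hW) where
  toIsCov := h.toIsCov.res W hW
  two := h.two
  nt := Submodule.nontrivial_iff_ne_bot.2 hW0
  sq ι g g' hg hg' hg3 hg3' := by
    have hof : ∀ x : G, AltDeg.res ρ W hW x ^ 3 = 1 → ρ x ^ 3 = 1 ∨ ρ x ^ 3 = -1 → ρ x ^ 3 = 1 := by
      rintro x h3 (e | e)
      · exact e
      · exfalso
        rw [← map_pow] at e h3
        rw [res_of_neg hW e] at h3
        haveI := Submodule.nontrivial_iff_ne_bot.2 hW0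
        obtain ⟨v, hv⟩ := exists_ne (0 : W)
        have h4 : -v = v := congrArg (fun u : (End K W)ˣ => (u : End K W) v) h3
        refine hv ((smul_eq_zero.1 (show (2 : K) • v = 0 from ?_)).resolve_left h.two)
        rw [two_smul]; nth_rw 1 [← h4]; exact neg_add_cancel v
    have e := h.sq ι g g' hg hg' (hof g hg3 (by rw [← map_pow]; exact h.ker _ (by rw [map_pow, hg, ← map_pow, a4_cube, map_one])))
      (hof g' hg3' (by rw [← map_pow]; exact h.ker _ (by rw [map_pow, hg', ← map_pow, b4_cube, map_one])))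
    rw [← map_mul, ← map_pow] at e ⊢
    exact res_of_neg hW e

theorem IsSpin.neg_one_ne (h : IsSpin π ρ) : (-1 : (End K V)ˣ) ≠ 1 := fun e => by
  haveI := h.nt
  obtain ⟨v, hv⟩ := exists_ne (0 : V)
  have h4 : -v = v := congrArg (fun u : (End K V)ˣ => (u : End K V) v) e
  refine hv ((smul_eq_zero.1 (show (2 : K) • v = 0 from ?_)).resolve_left h.two)
  rw [two_smul]; nth_rw 1 [← h4]; exact neg_add_cancel v

theorem IsSpin.faith (h : IsSpin π ρ) (hr : 5 ≤ r) : Faith π ρ := by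
  let N : Subgroup G :=
    { carrier := {g | ρ g = 1 ∨ ρ g = -1}
      one_mem' := Or.inl (map_one ρ)
      mul_mem' := by
        rintro a b (ha | ha) (hb | hb) <;> simp [map_mul, ha, hb]
      inv_mem' := by
        rintro a (ha | ha) <;> simp [map_inv, ha] }
  haveI : N.Normal := ⟨by
    rintro a (ha | ha) g
    · left; rw [map_mul, map_mul, ha, mul_one, map_inv, mul_inv_cancel]
    · right; rw [map_mul, map_mul, ha, map_inv, mul_neg_one, neg_mul, mul_inv_cancel]⟩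
  haveI := Subgroup.Normal.map (show N.Normal from inferInstance) π h.surj
  haveI : IsSimpleGroup (A r) := alternatingGroup.isSimpleGroup (by rwa [Nat.card_fin])
  rcases IsSimpleGroup.eq_bot_or_eq_top_of_normal (N.map π) inferInstance with e | e
  · intro g hg
    rw [← Subgroup.mem_bot, ← e]
    exact ⟨g, hg, rfl⟩
  · exfalso
    have ι : Fin 4 ↪ Fin r := Fin.castLEEmb (by omega)
    have key : ∀ x : A 4, x ^ 3 = 1 → ∃ g, π g = emb ι x ∧ ρ g = 1 := by
      intro x hx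
      obtain ⟨g, hg, hg3⟩ := h.lift (ℓ := 3) ⟨1, rfl⟩ (a := emb ι x) (by rw [← map_pow, hx, map_one])
      refine ⟨g, hg, ?_⟩
      obtain ⟨n, hn, hn'⟩ : emb ι x ∈ N.map π := e ▸ Subgroup.mem_top _
      have hgn : ρ (g * n⁻¹) = 1 ∨ ρ (g * n⁻¹) = -1 := h.ker _ (by rw [map_mul, map_inv, hn', hg, mul_inv_cancel])
      have hgN : g ∈ N := by
        have := N.mul_mem (show g * n⁻¹ ∈ N from hgn) (show n ∈ N from hn)
        rwa [inv_mul_cancel_right] at this
      rcases hgN with e1 | e1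
      · exact e1
      · rw [e1, Odd.neg_one_pow (n := 3) ⟨1, rfl⟩] at hg3
        exact absurd hg3 h.neg_one_ne
    obtain ⟨g, hg, hg1⟩ := key a4 a4_cube
    obtain ⟨g', hg', hg1'⟩ := key b4 b4_cube
    have := h.sq ι g g' hg hg' (by rw [hg1, one_pow]) (by rw [hg1', one_pow])
    rw [hg1, hg1', one_mul, one_pow] at this
    exact h.neg_one_ne this.symm

/-- The lifts of a four-group. -/
theorem IsSpin.quaternion (h : IsSpin π ρ) (ι : Fin 4 ↪ Fin r) :
    ∃ g g' : G, π g = emb ι a4 ∧ π g' = emb ι b4 ∧ ρ g ^ 3 = 1 ∧ ρ g' ^ 3 = 1 ∧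
      (ρ g * ρ g') ^ 2 = -1 ∧
      (ρ g * (ρ g * ρ g') * (ρ g)⁻¹) * (ρ g * ρ g') = -((ρ g * ρ g') * (ρ g * (ρ g * ρ g') * (ρ g)⁻¹)) := by
  have ho : Odd 3 := ⟨1, rfl⟩
  obtain ⟨g, hg, hg3⟩ := h.lift ho (a := emb ι a4) (by rw [← map_pow, a4_cube, map_one])
  obtain ⟨g', hg', hg3'⟩ := h.lift ho (a := emb ι b4) (by rw [← map_pow, b4_cube, map_one])
  have h2 := h.sq ι g g' hg hg' hg3 hg3'
  refine ⟨g, g', hg, hg', hg3, hg3', h2, ?_⟩
  obtain ⟨x, hx⟩ : ∃ x, x = ρ g := ⟨_, rfl⟩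
  obtain ⟨y, hy⟩ : ∃ y, y = ρ g' := ⟨_, rfl⟩
  rw [← hx] at hg3 h2 ⊢
  rw [← hy] at hg3' h2 ⊢
  have hyi : y ^ 2 = y⁻¹ := eq_inv_of_mul_eq_one_left (by rw [← pow_succ, hg3'])
  have h1 : x * y * x = -y⁻¹ := by
    rw [pow_two, ← mul_assoc] at h2
    rw [eq_mul_inv_of_mul_eq h2, neg_one_mul]
  obtain ⟨u, hu⟩ : ∃ u, u = x * y := ⟨_, rfl⟩
  rw [← hu] at h2 ⊢
  have hux : (u * x) ^ 3 = -1 := by
    rw [hu, h1, Odd.neg_pow ho, inv_pow, hg3', inv_one]
  obtain ⟨v, hv⟩ : ∃ v, v = x * u * x⁻¹ := ⟨_, rfl⟩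
  obtain ⟨w, hw⟩ : ∃ w, w = x * v * x⁻¹ := ⟨_, rfl⟩
  have hw2 : w ^ 2 = -1 := by
    rw [hw, hv, conj_pow, conj_pow, h2]; simp
  have hwu : x * w * x⁻¹ = u := by
    rw [hw, hv]
    have : x * x * x = 1 := by rw [← pow_two, ← pow_succ, hg3]
    calc x * (x * (x * u * x⁻¹) * x⁻¹) * x⁻¹ = (x * x * x) * u * (x * x * x)⁻¹ := by group
      _ = u := by rw [this, inv_one, one_mul, mul_one]
  have huvw : u * v * w = -1 := by
    calc u * v * w = (u * x) ^ 3 * (x ^ 3)⁻¹ := by rw [hw, hv]; simp only [pow_succ, pow_zero, one_mul]; group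
      _ = -1 := by rw [hux, hg3, inv_one, mul_one]
  have hwi : w⁻¹ = -w := by
    refine inv_eq_of_mul_eq_one_left ?_
    rw [neg_mul, ← pow_two, hw2, neg_neg]
  have huv : u * v = w := by
    rw [eq_mul_inv_of_mul_eq huvw, hwi, neg_one_mul, neg_neg]
  have hvw : v * w = u := by
    have := congrArg (fun z => x * z * x⁻¹) huv
    simp only [hwu] at this
    rw [← this, ← conj_mul, ← hv, ← hw]
  rw [← hv, huv, ← hvw, ← mul_assoc, ← pow_two, show v ^ 2 = -1 by rw [hv, conj_pow, h2]; simp, neg_one_mul]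

/-- A spin representation halves along a lift of a double transposition. -/
theorem IsSpin.half [FiniteDimensional K V] [IsAlgClosed K] (h : IsSpin π ρ) (ι : Fin 4 ↪ Fin r) :
    ∃ (g : G) (c : K), π g = emb ι (a4 * b4) ∧ finrank K V = 2 * finrank K ((ρ g : End K V).eigenspace c) ∧
      (∀ g', Commute (π g') (emb ι a4) → Commute (π g') (emb ι b4) →
        (ρ g' : End K V) * (ρ g : End K V) = (ρ g : End K V) * (ρ g' : End K V)) := by
  obtain ⟨g, g', hg, hg', hg3, hg3', h2, hanti⟩ := h.quaternion ι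
  obtain ⟨v, hv⟩ : ∃ v, v = ρ g * (ρ g * ρ g') * (ρ g)⁻¹ := ⟨_, rfl⟩
  have hv2 : v * v = -1 := by rw [hv, ← pow_two, conj_pow, h2]; simp
  rw [← hv] at hanti
  obtain ⟨c, hc, -⟩ := anticommute_half h.two ((ρ g * ρ g' : (End K V)ˣ) : End K V) (v : End K V)
    (by rw [← Units.val_mul, ← pow_two, h2]; rfl) (by rw [← Units.val_mul, hv2]; rfl)
    (by rw [← Units.val_mul, ← Units.val_mul, hanti]; rfl)
  refine ⟨g * g', c, by rw [map_mul, map_mul, hg, hg'], by rw [map_mul]; exact hc, fun x h1 h3 => ?_⟩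
  rw [← Units.val_mul, ← Units.val_mul]
  refine congrArg Units.val ?_
  rw [map_mul, ← mul_assoc, h.comm ⟨1, rfl⟩ hg3 (by rw [hg]; exact h1), mul_assoc,
    h.comm ⟨1, rfl⟩ hg3' (by rw [hg']; exact h3), mul_assoc]

/-- Spin representations have even degree. -/
theorem IsSpin.two_le [FiniteDimensional K V] [IsAlgClosed K] (h : IsSpin π ρ) (hr : 4 ≤ r) :
    2 ≤ finrank K V := by
  obtain ⟨g, c, -, hc, -⟩ := h.half (Fin.castLEEmb hr)
  haveI := h.nt
  have : 0 < finrank K V := finrank_pos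
  omega

/-- Two disjoint four-groups give degree four. -/
theorem IsSpin.four_le [FiniteDimensional K V] [IsAlgClosed K] (h : IsSpin π ρ) (hr : 8 ≤ r) :
    4 ≤ finrank K V := by
  obtain ⟨ι, hι⟩ : ∃ ι : Fin 4 ↪ Fin r, ∀ i, (ι i : ℕ) = i := ⟨Fin.castLEEmb (by omega), fun i => rfl⟩
  obtain ⟨κ, hκ⟩ : ∃ κ : Fin 4 ↪ Fin r, ∀ i, (κ i : ℕ) = 4 + i :=
    ⟨(Fin.natAddEmb 4).trans (Fin.castLEEmb (show 4 + 4 ≤ r by omega)), fun i => rfl⟩
  have hdis : Disjoint (pts ι) (pts κ) := by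
    rw [Finset.disjoint_left]
    intro x hx hx'
    obtain ⟨i, rfl⟩ := mem_pts.1 hx
    obtain ⟨j, hj⟩ := mem_pts.1 hx'
    have := congrArg Fin.val hj
    rw [hκ, hι] at this
    omega
  obtain ⟨g, c, -, hc, hcomm⟩ := h.half ι
  obtain ⟨W, hW⟩ : ∃ W, W = (ρ g : End K V).eigenspace c := ⟨_, rfl⟩
  rw [← hW] at hc
  haveI := h.nt
  have hW0 : W ≠ ⊥ := fun e => by
    rw [e, finrank_bot] at hc
    have : 0 < finrank K V := finrank_pos
    omega
  have hinv : ∀ x : ↥(subG π κ), ∀ v ∈ W, (ρ.comp (subG π κ).subtype x : End K V) v ∈ W := fun x v hv => by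
    rw [hW] at hv ⊢
    refine eigen_invariant (hcomm x ?_ ?_) c v hv <;>
      · rw [← emb_subPi π κ x]
        exact Supp.commute hdis.symm (emb_supp _ _) (emb_supp _ _)
  have := ((h.sub κ).res hW0 hinv).two_le le_rfl
  omega

end Cfsg.Agent.Small.AltDeg
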