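import Cfsg.Agent.Lib.Small.AltDeg.Perm
import Mathlib.LinearAlgebra.Eigenspace.Pi
import Mathlib.LinearAlgebra.Eigenspace.Triangularizable
import Mathlib.GroupTheory.Frattini

/-!
Abelian normal subgroups and normal subgroups of class two in a linear group with an alternating
quotient.
-/

set_option autoImplicit false
set_option linter.unusedSectionVars false
set_option linter.unusedVariables false
set_option linter.style.haveILetI false

namespace Cfsg.Agent.Small.AltDeg

open Module

variable {K : Type*} [Field K] {V : Type*} [AddCommGroup V] [Module K V] [FiniteDimensional K V]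

/-- The common eigenspace of a family. -/
def wt {ι : Type*} (f : ι → End K V) (χ : ι → K) : Submodule K V := ⨅ i, (f i).eigenspace (χ i)

theorem mem_wt {ι : Type*} {f : ι → End K V} {χ : ι → K} {v : V} : v ∈ wt f χ ↔ ∀ i, f i v = χ i • v := by
  simp [wt, Submodule.mem_iInf]

/-- Common eigenspaces of commuting maps are independent. -/
theorem wt_indep {ι : Type*} (f : ι → End K V) (hc : ∀ i j, Commute (f i) (f j)) : iSupIndep (wt f) :=
  (Module.End.independent_iInf_maxGenEigenspace_of_forall_mapsTo f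
    (fun i j φ => Module.End.mapsTo_maxGenEigenspace_of_comm (hc j i) φ)).mono
    fun χ => iInf_mono fun i => Module.End.eigenspace_le_maxGenEigenspace

/-- Distinct weights are no more than the dimension. -/
theorem wt_card {ι J : Type*} (f : ι → End K V) (hc : ∀ i j, Commute (f i) (f j)) (χ : J → ι → K)
    (hinj : Function.Injective χ) (v : J → V) (hv : ∀ j, v j ∈ wt f (χ j)) (hv' : ∀ j, v j ≠ 0) :
    Finite J ∧ Nat.card J ≤ finrank K V := by
  have hl : LinearIndependent K v := ((wt_indep f hc).comp hinj).linearIndependent _ hv hv'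
  haveI : Finite J := hl.finite
  haveI := Fintype.ofFinite J
  exact ⟨inferInstance, Nat.card_eq_fintype_card (α := J) ▸ hl.fintype_card_le_finrank⟩

/-- Commuting maps have a common eigenvector. -/
theorem exists_wt [IsAlgClosed K] [Nontrivial V] {ι : Type*} [Finite ι] (f : ι → End K V)
    (hc : ∀ i j, Commute (f i) (f j)) : ∃ χ : ι → K, wt f χ ≠ ⊥ := by
  classical
  haveI := Fintype.ofFinite ι
  suffices ∀ s : Finset ι, ∃ U : Submodule K V, U ≠ ⊥ ∧ (∀ j, ∀ v ∈ U, f j v ∈ U) ∧
      ∀ i ∈ s, ∃ c : K, ∀ v ∈ U, f i v = c • v by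
    obtain ⟨U, hU, -, hsc⟩ := this Finset.univ
    choose c hc' using fun i => hsc i (Finset.mem_univ i)
    exact ⟨c, fun e => hU (eq_bot_iff.2 fun v hv => by rw [← e]; exact mem_wt.2 fun i => hc' i v hv)⟩
  intro s
  induction s using Finset.induction_on with
  | empty => exact ⟨⊤, top_ne_bot, fun _ _ _ => trivial, fun i hi => absurd hi (by simp)⟩
  | insert i s hi ih =>
    obtain ⟨U, hU, hinv, hsc⟩ := ih
    haveI : Nontrivial ↥U := Submodule.nontrivial_iff_ne_bot.2 hU
    obtain ⟨c, hc'⟩ := Module.End.exists_eigenvalue ((f i).restrict (hinv i))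
    obtain ⟨w, hw, hw0⟩ := hc'.exists_hasEigenvector
    have hwi : f i (w : V) = c • (w : V) := congrArg Subtype.val (Module.End.mem_eigenspace_iff.1 hw)
    refine ⟨U ⊓ (f i).eigenspace c, fun e => hw0 (Subtype.ext ?_), fun j v hv => ⟨hinv j v hv.1, ?_⟩,
      fun k hk => ?_⟩
    · have : (w : V) ∈ U ⊓ (f i).eigenspace c := ⟨w.2, Module.End.mem_eigenspace_iff.2 hwi⟩
      rw [e] at this
      exact this
    · refine Module.End.mem_eigenspace_iff.2 ?_
      have h1 := LinearMap.congr_fun (hc i j).eq v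
      simp only [End.mul_apply] at h1
      rw [h1, Module.End.mem_eigenspace_iff.1 hv.2, map_smul]
    · rcases Finset.mem_insert.1 hk with rfl | hk
      · exact ⟨c, fun v hv => Module.End.mem_eigenspace_iff.1 hv.2⟩
      · obtain ⟨d, hd⟩ := hsc k hk
        exact ⟨d, fun v hv => hd v hv.1⟩

variable {G : Type*} [Group G] [Finite G] {r : ℕ}

/-- The elements acting by scalars. -/
noncomputable def scal (ρ : G →* (End K V)ˣ) : Subgroup G :=
  ((Units.map (algebraMap K (End K V)).toMonoidHom).range).comap ρ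

theorem mem_scal {ρ : G →* (End K V)ˣ} [Nontrivial V] {g : G} :
    g ∈ scal ρ ↔ ∃ c : K, ∀ v, (ρ g : End K V) v = c • v := by
  constructor
  · rintro ⟨c, hc⟩
    exact ⟨c, fun v => by rw [← hc]; simp [Algebra.algebraMap_eq_smul_one]⟩
  · rintro ⟨c, hc⟩
    have hc0 : c ≠ 0 := by
      rintro rfl
      obtain ⟨v, hv⟩ := exists_ne (0 : V)
      refine hv ?_
      have : ((ρ g⁻¹ : End K V) * (ρ g : End K V)) v = v := by rw [← Units.val_mul, ← map_mul, inv_mul_cancel, map_one]; rfl
      rw [← this, End.mul_apply, hc, zero_smul, map_zero]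
    exact ⟨Units.mk0 c hc0, Units.ext (LinearMap.ext fun v => by simp [Algebra.algebraMap_eq_smul_one, hc])⟩

/-- The hypotheses of the reduction. -/
structure Red (ρ : G →* (End K V)ˣ) (π : G →* A r) : Prop where
  inj : Function.Injective ρ
  surj : Function.Surjective π
  ker_or_top : ∀ N : Subgroup G, N.Normal → N ≤ π.ker ∨ N = ⊤
  irr : ∀ U : Submodule K V, (∀ g, ∀ v ∈ U, (ρ g : End K V) v ∈ U) → U = ⊥ ∨ U = ⊤
  small : finrank K V < r
  nine : 9 ≤ r

variable {ρ : G →* (End K V)ˣ} {π : G →* A r}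

theorem card_A (hr : 2 ≤ r) : 2 * Nat.card (A r) = r.factorial := by
  haveI : Nontrivial (Fin r) := Fin.nontrivial_iff_two_le.2 hr
  rw [Nat.card_eq_fintype_card, two_mul_card_alternatingGroup, Fintype.card_perm, Fintype.card_fin]

theorem Red.nontrivial (h : Red ρ π) : Nontrivial V := by
  rcases subsingleton_or_nontrivial V with hs | hn
  · exfalso
    haveI : Subsingleton G := ⟨fun a b => h.inj (Units.ext (LinearMap.ext fun v => Subsingleton.elim _ _))⟩
    haveI : Subsingleton (A r) := h.surj.subsingleton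
    have := card_A (r := r) (by have := h.nine; omega)
    rw [Nat.card_unique] at this
    have h2 : (3 : ℕ).factorial ≤ r.factorial := Nat.factorial_le (by have := h.nine; omega)
    simp [Nat.factorial] at h2
    omega
  · exact hn

/-- Abelian normal subgroups of the kernel act by scalars. -/
theorem Red.abelian_scal [IsAlgClosed K] (h : Red ρ π) (N : Subgroup G) [N.Normal] (hN : N ≤ π.ker)
    (hab : ∀ x ∈ N, ∀ y ∈ N, x * y = y * x) : N ≤ scal ρ := by
  classical
  haveI := h.nontrivial
  obtain ⟨f, hf⟩ : ∃ f : ↥N → End K V, f = fun x : ↥N => ((ρ (x : G)) : End K V) := ⟨_, rfl⟩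
  have hc : ∀ i j, Commute (f i) (f j) := fun i j => by
    rw [hf, commute_iff_eq]; simp only
    rw [← Units.val_mul, ← map_mul, hab i i.2 j j.2, map_mul, Units.val_mul]
  obtain ⟨χ0, hχ0⟩ := exists_wt f hc
  let J := {χ : ↥N → K // wt f χ ≠ ⊥}
  have hv : ∀ χ : J, ∃ v, v ∈ wt f χ.1 ∧ v ≠ 0 := fun χ => (Submodule.ne_bot_iff _).1 χ.2
  choose v hv hv' using hv
  obtain ⟨hJf, hJc⟩ := wt_card f hc (fun χ : J => χ.1) Subtype.coe_injective v hv hv'
  haveI := hJf
  obtain ⟨cj, hcj⟩ : ∃ cj : G → ↥N → ↥N, ∀ g x, ((cj g x : ↥N) : G) = g⁻¹ * x * g :=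
    ⟨fun g x => ⟨g⁻¹ * x * g, by simpa using (‹N.Normal›).conj_mem x x.2 g⁻¹⟩, fun g x => rfl⟩
  have hmove : ∀ g χ, ∀ w ∈ wt f χ, (ρ g : End K V) w ∈ wt f (χ ∘ cj g) := fun g χ w hw => by
    rw [mem_wt] at hw ⊢
    intro x
    have e := hw (cj g x)
    rw [hf] at e ⊢
    simp only [hcj] at e
    simp only [Function.comp]
    rw [← map_smul, ← e, ← End.mul_apply, ← End.mul_apply, ← Units.val_mul, ← Units.val_mul, ← map_mul, ← map_mul]
    congr 3; group
  have hne : ∀ g (χ : J), wt f (χ.1 ∘ cj g) ≠ ⊥ := fun g χ e => by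
    have := hmove g χ.1 _ (hv χ)
    rw [e, Submodule.mem_bot] at this
    refine hv' χ ?_
    have h2 : ((ρ g⁻¹ : End K V) * (ρ g : End K V)) (v χ) = v χ := by
      rw [← Units.val_mul, ← map_mul, inv_mul_cancel, map_one]; rfl
    rw [← h2, End.mul_apply, this, map_zero]
  let act : G → J → J := fun g χ => ⟨χ.1 ∘ cj g, hne g χ⟩
  have cj_mul : ∀ g k x, cj (g * k) x = cj k (cj g x) := fun g k x => Subtype.ext (by simp only [hcj]; group)
  have act_one : ∀ χ, act 1 χ = χ := fun χ => Subtype.ext (funext fun x => congrArg χ.1 (Subtype.ext (by rw [hcj]; group)))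
  have act_mul : ∀ g k χ, act (g * k) χ = act g (act k χ) := fun g k χ =>
    Subtype.ext (funext fun x => congrArg χ.1 (cj_mul g k x))
  let P : G →* Equiv.Perm J := MonoidHom.mk' (fun g => ⟨act g, act g⁻¹, fun χ => by rw [← act_mul, inv_mul_cancel, act_one],
    fun χ => by rw [← act_mul, mul_inv_cancel, act_one]⟩) fun g k => Equiv.ext fun χ => act_mul g k χ
  rcases h.ker_or_top P.ker inferInstance with hk | hk
  · exfalso
    have h1 : Nat.card (A r) ≤ Nat.card (G ⧸ P.ker) :=
      Nat.card_le_card_of_surjective (QuotientGroup.lift P.ker π hk) fun a => by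
        obtain ⟨g, rfl⟩ := h.surj a; exact ⟨g, rfl⟩
    have h2 : Nat.card (G ⧸ P.ker) ≤ (Nat.card J).factorial := by
      rw [← Nat.card_perm]
      exact Nat.card_le_card_of_injective _ (QuotientGroup.kerLift_injective P)
    have h3 : (Nat.card J).factorial ≤ (r - 1).factorial := Nat.factorial_le (by have := h.small; omega)
    have h4 := card_A (r := r) (by have := h.nine; omega)
    have h5 : r.factorial = r * (r - 1).factorial := (Nat.mul_factorial_pred (by have := h.nine; omega)).symm
    have h6 : 0 < (r - 1).factorial := Nat.factorial_pos _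
    have h7 : 9 * (r - 1).factorial ≤ r * (r - 1).factorial := Nat.mul_le_mul_right _ h.nine
    omega
  · have htop : wt f χ0 = ⊤ := by
      refine (h.irr _ fun g w hw => ?_).resolve_left hχ0
      have e : act g ⟨χ0, hχ0⟩ = ⟨χ0, hχ0⟩ := by
        have : P g = 1 := by rw [← MonoidHom.mem_ker, hk]; trivial
        exact Equiv.ext_iff.1 this ⟨χ0, hχ0⟩
      have e' : χ0 ∘ cj g = χ0 := congrArg Subtype.val e
      exact e' ▸ hmove g χ0 w hw
    intro x hx
    refine mem_scal.2 ⟨χ0 ⟨x, hx⟩, fun w => ?_⟩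
    have := mem_wt.1 (htop ▸ Submodule.mem_top : w ∈ wt f χ0) ⟨x, hx⟩
    rw [hf] at this
    exact this

end Cfsg.Agent.Small.AltDeg
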